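import Cfsg.Agent.RFS.AbsA

/-! Project RFS: dihedral arguments on the centre of an essential subgroup.  See `notes/RFS.md`. -/

set_option autoImplicit false
set_option linter.unusedSectionVars false

namespace Cfsg.Agent.RFS

open OCT OCT.OU
open scoped commutatorElement

section dih
variable {V : Type*} [Group V]

theorem sq_comm (hsq : ∀ v : V, v * v = 1) (u v : V) : u * v = v * u := by
  rw [← inv_eq_of_mul_eq_one_right (hsq (u * v)), mul_inv_rev, inv_eq_of_mul_eq_one_right (hsq u),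
    inv_eq_of_mul_eq_one_right (hsq v)]

theorem dih_fix {r : MulAut V} {k : ℕ} (hk : Odd k) (hr : r ^ k = 1) {v c : V} (h1 : r v = c * v)
    (h2 : r c = c) (h3 : c * c = 1) : c = 1 := by
  obtain ⟨j, rfl⟩ := hk
  have h4 : r (r v) = v := by rw [h1, map_mul, h2, h1, ← mul_assoc, h3, one_mul]
  have h5 : ∀ i : ℕ, (r ^ (2 * i)) v = v := by
    intro i
    induction i with
    | zero => simp
    | succ i ih =>
      rw [Nat.mul_succ, pow_add, MulAut.mul_apply, pow_two, MulAut.mul_apply, h4, ih]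
  have h6 : (r ^ (2 * j + 1)) v = v := by rw [hr]; rfl
  rw [pow_succ', MulAut.mul_apply, h5, h1] at h6
  simpa using h6

theorem dih_conj {G : Type*} [Group G] {s t : G} (hs : s * s = 1) (ht : t * t = 1) {j : ℕ}
    (h : (s * t) ^ (2 * j + 1) = 1) : s * (s * t) ^ (j + 1) = (s * t) ^ (j + 1) * t := by
  have hs' : s⁻¹ = s := inv_eq_of_mul_eq_one_right hs
  have ht' : t⁻¹ = t := inv_eq_of_mul_eq_one_right ht
  have h1 : s * (s * t) * s⁻¹ = (s * t)⁻¹ := by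
    rw [mul_inv_rev, hs', ht', ← mul_assoc, hs, one_mul]
  have h2 : s * (s * t) ^ (j + 1) * s⁻¹ = ((s * t) ^ (j + 1))⁻¹ := by
    rw [← conj_pow, h1, inv_pow]
  have h3 : ((s * t) ^ (j + 1))⁻¹ = (s * t) ^ j := by
    apply inv_eq_of_mul_eq_one_right
    rw [← pow_add, ← h]; congr 1; ring
  calc s * (s * t) ^ (j + 1) = s * (s * t) ^ (j + 1) * s⁻¹ * s := by group
    _ = (s * t) ^ j * s := by rw [h2, h3]
    _ = (s * t) ^ j * (s * t) * t := by rw [mul_assoc, mul_assoc, ht, mul_one]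
    _ = _ := by rw [pow_succ]

theorem pow_fix {r : MulAut V} {v : V} (h : r v = v) (n : ℕ) : (r ^ n) v = v := by
  induction n with
  | zero => simp
  | succ n ih => rw [pow_succ, MulAut.mul_apply, h, ih]

theorem aut_sub [Finite V] (g : MulAut V) (S : Set V) (h : ∀ v ∈ S, g v ∈ S) :
    ∀ v ∈ S, g⁻¹ v ∈ S := by
  intro v hv
  let f : S → S := fun a => ⟨g a, h a a.2⟩
  have hf : Function.Injective f := fun a b e => Subtype.ext (g.injective (congrArg Subtype.val e))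
  obtain ⟨a, ha⟩ := Finite.surjective_of_injective hf ⟨v, hv⟩
  have : g a = v := congrArg Subtype.val ha
  rw [← this]
  simpa using a.2

theorem off_abs [Finite V] (hsq : ∀ v : V, v * v = 1) {K : Type*} [AddCommGroup K] [Finite K]
    [Nontrivial K] (g : MulAut V) (lam : V → K) (hadd : ∀ v w, lam (v * w) = lam v + lam w)
    (b : K × K → MulAut V) (hb2 : ∀ p, b p * b p = 1) (hbC : ∀ p v, lam v = 0 → b p v = v)
    (hbl : ∀ p v, lam (b p v * v) = 0)
    (hc : ∀ p p', p ≠ p' → ∀ v, (b p * b p') v = v → lam v = 0)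
    (hodd : ∀ p₀ p₁ p p', p₀ ≠ p₁ → p ≠ p' →
      ∃ k, Odd k ∧ (g * (b p₀ * b p₁) * g⁻¹ * (b p * b p')) ^ k = 1)
    (hv : ∃ v, lam v ≠ 0) : False := by
  have l1 : lam 1 = 0 := by simpa using hadd 1 1
  have l2 : ∀ v, lam v + lam v = 0 := fun v => by rw [← hadd, hsq, l1]
  have hbv : ∀ p v, b p v = (b p v * v) * v := fun p v => by rw [mul_assoc, hsq, mul_one]
  have hbl' : ∀ p v, lam (b p v) = lam v := fun p v => by rw [hbv, hadd, hbl, zero_add]
  obtain ⟨t, ht⟩ := exists_ne (0 : K)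
  have n01 : ((0, 0) : K × K) ≠ (t, 0) := by simp [ht.symm]
  have n12 : ((t, 0) : K × K) ≠ (0, t) := by simp [ht]
  have n02 : ((0, 0) : K × K) ≠ (0, t) := by simp [ht.symm]
  set s := g * (b (0, 0) * b (t, 0)) * g⁻¹ with hs
  have s1 : ∀ v, lam (g⁻¹ v) = 0 → s v = v := fun v h => by
    simp only [hs, MulAut.mul_apply]
    rw [hbC _ _ h, hbC _ _ h]; simp
  have s2 : ∀ v, lam (g⁻¹ (s v * v)) = 0 := fun v => by
    have : g⁻¹ (s v) = b (0, 0) (b (t, 0) (g⁻¹ v)) := by simp [hs, MulAut.mul_apply]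
    rw [map_mul, this, hadd, hbl', hbl', l2]
  by_cases hC : ∀ v, lam (g⁻¹ v) = 0 → lam v = 0
  · have hC' : ∀ v, lam v = 0 → lam (g⁻¹ v) = 0 :=
      aut_sub g {v | lam v = 0} fun v hv => hC _ (by simpa using hv)
    have key : ∀ p p', p ≠ p' → s * (b p * b p') = 1 := by
      intro p p' hp
      obtain ⟨k, hk, hr⟩ := hodd _ _ p p' n01 hp
      rw [← hs] at hr
      ext v
      set u := (s * (b p * b p')) v with hu
      have e1 : lam u = lam v := by
        have h1 := hC _ (s2 (b p (b p' v)))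
        rw [hadd, hbl', hbl'] at h1
        have h2 : u = s (b p (b p' v)) := rfl
        rw [h2]
        exact add_right_cancel (h1.trans (l2 v).symm)
      have e2 : lam (u * v) = 0 := by rw [hadd, e1, l2]
      have e3 : u * v = 1 := by
        refine dih_fix hk hr (v := v) (by rw [← hu, mul_assoc, hsq, mul_one]) ?_ (hsq _)
        simp only [MulAut.mul_apply]
        rw [hbC _ _ e2, hbC _ _ e2, s1 _ (hC' _ e2)]
      calc u = u * v * v := by rw [mul_assoc, hsq, mul_one]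
        _ = _ := by rw [e3, one_mul]; rfl
    have k1 := eq_inv_of_mul_eq_one_right (key _ _ n01)
    have k2 := eq_inv_of_mul_eq_one_right (key _ _ n12)
    have k3 := eq_inv_of_mul_eq_one_right (key _ _ n02)
    have k4 : s⁻¹ * s⁻¹ = s⁻¹ := by
      calc s⁻¹ * s⁻¹ = b (0, 0) * b (t, 0) * (b (t, 0) * b (0, t)) := by rw [← k1, k1.trans k2.symm]
        _ = b (0, 0) * (b (t, 0) * b (t, 0)) * b (0, t) := by group
        _ = s⁻¹ := by rw [hb2, mul_one, k3]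
    have k5 : s⁻¹ = 1 := by simpa using k4
    obtain ⟨v, hv⟩ := hv
    exact hv (hc _ _ n01 v (by rw [k1, k5]; rfl))
  · push Not at hC
    obtain ⟨v, hv1, hv2⟩ := hC
    have hlt : Nat.card K < Nat.card (K × K) := by
      rw [Nat.card_prod]
      have := Finite.one_lt_card (α := K)
      nlinarith
    have hni : ¬ Function.Injective fun p : K × K => lam (g⁻¹ (b p v * v)) := fun hi =>
      absurd (Nat.card_le_card_of_injective _ hi) (not_le.2 hlt)
    obtain ⟨p, p', e, hp⟩ := Function.not_injective_iff.1 hni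
    obtain ⟨k, hk, hr⟩ := hodd _ _ p p' n01 hp
    rw [← hs] at hr
    set d := b p v * v with hd
    set d' := b p' v * v with hd'
    have e1 : (b p * b p') v = d' * d * v := by
      have a1 : b p' v = d' * v := hbv p' v
      have a2 : b p v = d * v := hbv p v
      rw [MulAut.mul_apply, a1, map_mul, hbC p d' (hbl _ _), a2, mul_assoc d' d v]
    have e2 : lam (d' * d) = 0 := by rw [hadd, hbl, hbl, add_zero]
    have e3 : lam (g⁻¹ (d' * d)) = 0 := by
      rw [map_mul, hadd]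
      have e' : lam (g⁻¹ d) = lam (g⁻¹ d') := e
      rw [e', l2]
    have e4 : d' * d = 1 := by
      refine dih_fix hk hr (v := v) ?_ ?_ (hsq _)
      · rw [MulAut.mul_apply, e1, map_mul, s1 _ e3, s1 _ hv1]
      · simp only [MulAut.mul_apply]
        rw [hbC _ _ e2, hbC _ _ e2, s1 _ e3]
    exact hv2 (hc _ _ hp v (by rw [e1, e4, one_mul]))

theorem off'_abs [Finite V] (hsq : ∀ v : V, v * v = 1) (g : MulAut V) (S : Set (MulAut V))
    {x : MulAut V} (hx : x ∈ S) (Z : Subgroup V) (hb2 : ∀ b ∈ S, b * b = 1)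
    (h1 : ∀ b ∈ S, ∀ v, b v * v ∈ Z) (h2 : ∀ b ∈ S, ∀ z ∈ Z, ∃ v, b v * v = z)
    (h3 : ∀ w, ∃ b ∈ S, b w = w)
    (hodd : ∀ b ∈ S, ∃ k, Odd k ∧ (g * x * g⁻¹ * b) ^ k = 1) : ∀ z ∈ Z, z = 1 := by
  have fx : ∀ b : MulAut V, b * b = 1 → ∀ v, b (b v * v) = b v * v := fun b hb v => by
    rw [map_mul, ← MulAut.mul_apply, hb, sq_comm hsq]; rfl
  have hZ : ∀ b ∈ S, ∀ z ∈ Z, b z = z := fun b hb z hz => by
    obtain ⟨v, rfl⟩ := h2 b hb z hz
    exact fx b (hb2 b hb) v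
  set s := g * x * g⁻¹ with hs
  have ss : s * s = 1 := by
    calc s * s = g * (x * x) * g⁻¹ := by rw [hs]; group
      _ = 1 := by rw [hb2 x hx]; group
  have sg : ∀ v, s v * v = g (x (g⁻¹ v) * g⁻¹ v) := fun v => by simp [hs, MulAut.mul_apply]
  have gZ : ∀ z ∈ Z, g z ∈ Z := by
    intro z hz
    obtain ⟨u, rfl⟩ := h2 x hx z hz
    have e : g (x u * u) = s (g u) * g u := by rw [sg]; simp
    rw [e]
    set w := s (g u) * g u with hw
    have sw : s w = w := fx s ss _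
    obtain ⟨b, hb, hbw⟩ := h3 w
    obtain ⟨k, ⟨j, rfl⟩, hr⟩ := hodd b hb
    have hd := dih_conj ss (hb2 b hb) hr
    set δ := (s * b) ^ (j + 1) with hδ
    have δw : δ w = w := pow_fix (by rw [MulAut.mul_apply, hbw, sw]) _
    have e2 : w = δ (b (δ⁻¹ (g u)) * δ⁻¹ (g u)) := by
      have a1 : δ (b (δ⁻¹ (g u))) = (δ * b) (δ⁻¹ (g u)) := rfl
      rw [map_mul, a1, ← hd, MulAut.mul_apply]
      simp [hw]
    have e3 : w = b (δ⁻¹ (g u)) * δ⁻¹ (g u) := δ.injective (δw.trans e2)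
    rw [e3]
    exact h1 b hb _
  have gZ' : ∀ z ∈ Z, g⁻¹ z ∈ Z := aut_sub g Z gZ
  have sZ' : ∀ z ∈ Z, s z = z := fun z hz => by
    simp only [hs, MulAut.mul_apply]
    rw [hZ x hx _ (gZ' z hz)]; simp
  have sv : ∀ v, s v * v ∈ Z := fun v => by rw [sg]; exact gZ _ (h1 x hx _)
  have key : ∀ b ∈ S, ∀ v, s (b v) = v := by
    intro b hb v
    obtain ⟨k, hk, hr⟩ := hodd b hb
    have e0 : b v = (b v * v) * v := by rw [mul_assoc, hsq, mul_one]
    have e1 : (s * b) v = (b v * v) * (s v * v) * v := by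
      rw [MulAut.mul_apply, e0, map_mul, sZ' _ (h1 b hb v), ← e0, mul_assoc (b v * v),
        mul_assoc (s v), hsq, mul_one]
    have hm : (b v * v) * (s v * v) ∈ Z := mul_mem (h1 b hb v) (sv v)
    have e2 := dih_fix hk hr e1 (by rw [MulAut.mul_apply, hZ b hb _ hm, sZ' _ hm]) (hsq _)
    rw [e2, one_mul] at e1
    exact e1
  have s1 : ∀ w, s w = w := fun w => by
    obtain ⟨b, hb, hbw⟩ := h3 w
    have := key b hb w
    rwa [hbw] at this
  intro z hz
  obtain ⟨v, rfl⟩ := h2 x hx z hz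
  have := key x hx v
  rw [s1] at this
  rw [this, hsq]

end dih

variable {H : Type*} [Group H] [Finite H] {P E : Subgroup H} {x y : H}

theorem om_aut (φ : MulAut E) (v : Om E) : ((φ ⟨v, v.2.1⟩ : E) : H) ∈ Om E := by
  refine ⟨(φ _).2, ?_, fun e he => ?_⟩
  · have : (⟨v, v.2.1⟩ : E) * ⟨v, v.2.1⟩ = 1 := Subtype.ext v.2.2.1
    have h2 := congrArg (fun a => ((φ a : E) : H)) this
    simpa only [map_mul, map_one, Subgroup.coe_mul, Subgroup.coe_one] using h2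
  · obtain ⟨a, ha⟩ := φ.surjective ⟨e, he⟩
    have : (⟨v, v.2.1⟩ : E) * a = a * ⟨v, v.2.1⟩ := Subtype.ext (v.2.2.2 a a.2)
    have h2 := congrArg (fun a => ((φ a : E) : H)) this
    simpa [ha] using h2

/-- restriction of automorphisms to `Ω₁ Z(E)` -/
def omRes (E : Subgroup H) : MulAut E →* MulAut (Om E) where
  toFun φ :=
    { toFun := fun v => ⟨_, om_aut φ v⟩
      invFun := fun v => ⟨_, om_aut φ⁻¹ v⟩
      left_inv := fun v => Subtype.ext (by simp)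
      right_inv := fun v => Subtype.ext (by simp)
      map_mul' := fun v w => Subtype.ext (by
        have := congrArg (fun a : E => (a : H)) (map_mul φ ⟨v, v.2.1⟩ ⟨w, w.2.1⟩)
        exact this) }
  map_one' := by ext v; rfl
  map_mul' φ ψ := by ext v; rfl

theorem omRes_inner {φ : MulAut E} (h : φ ∈ (MulAut.conj : E →* MulAut E).range) : omRes E φ = 1 := by
  obtain ⟨e, rfl⟩ := h
  ext v
  change (e : H) * v * (e : H)⁻¹ = v
  rw [← v.2.2.2 e e.2, mul_inv_cancel_right]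

theorem ES.act (h : ES P E) : ∃ (g : MulAut (Om E)) (a : H → MulAut (Om E)),
    (∀ x, (∀ e ∈ E, x * e * x⁻¹ ∈ E) → ∀ v, ((a x v : Om E) : H) = x * v * x⁻¹) ∧
    ∀ x y, Iv P E x → Iv P E y → ∃ k, Odd k ∧ (g * a x * g⁻¹ * a y) ^ k = 1 := by
  classical
  obtain ⟨γ, hγ⟩ := h.se
  refine ⟨omRes E γ, fun x => if hx : x ∈ Subgroup.normalizer (E : Set H) then
    omRes E (E.normalizerMonoidHom ⟨x, hx⟩) else 1, fun x hx v => ?_, fun x y hx hy => ?_⟩
  · have hn : x ∈ Subgroup.normalizer (E : Set H) := Subgroup.mem_normalizer_fintype hx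
    simp only [dif_pos hn]
    rfl
  · have hn : x ∈ Subgroup.normalizer (E : Set H) := Subgroup.mem_normalizer_fintype hx.nm
    have hn' : y ∈ Subgroup.normalizer (E : Set H) := Subgroup.mem_normalizer_fintype hy.nm
    obtain ⟨⟨k, hk, hr⟩, -⟩ := hγ ⟨x, hn⟩ ⟨y, hn'⟩ hx hy
    refine ⟨k, hk, ?_⟩
    simp only [dif_pos hn, dif_pos hn']
    have := omRes_inner hr
    simpa only [map_pow, map_mul, map_inv] using this

theorem act_sq {a : MulAut (Om E)} (ha : ∀ v, ((a v : Om E) : H) = x * v * x⁻¹) (hx : x * x ∈ E) :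
    a * a = 1 := by
  ext v
  rw [MulAut.mul_apply, ha, ha]
  calc x * (x * v * x⁻¹) * x⁻¹ = x * x * v * (x * x)⁻¹ := by group
    _ = v := by rw [← v.2.2.2 _ hx, mul_inv_cancel_right]

theorem act_fix {a : MulAut (Om E)} (ha : ∀ v, ((a v : Om E) : H) = x * v * x⁻¹) (v : Om E) :
    a v = v ↔ x * v = v * x := by
  rw [Subtype.ext_iff, ha, mul_inv_eq_iff_eq_mul]

theorem act_comm {a : MulAut (Om E)} (ha : ∀ v, ((a v : Om E) : H) = x * v * x⁻¹) (v : Om E) :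
    ((a v * v : Om E) : H) = ⁅x, (v : H)⁆ := by
  rw [Subgroup.coe_mul, ha, commutatorElement_def, inv_eq_of_mul_eq_one_right v.2.2.1]

/-- If one involution of `N_P(E) / E` centralizes `Ω₁ Z(E)`, all do. -/
theorem ES.l1 (h : ES P E) (hx : Iv P E x) (hy : Iv P E y) (hc : ∀ v ∈ Om E, x * v = v * x) :
    ∀ v ∈ Om E, y * v = v * y := by
  obtain ⟨g, a, ha, hodd⟩ := h.act
  obtain ⟨k, ⟨j, rfl⟩, hr⟩ := hodd x y hx hy
  have h1 : a x = 1 := by
    refine MulEquiv.ext fun v => ?_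
    exact (act_fix (ha x hx.nm) v).2 (hc v v.2)
  have h2 := act_sq (ha y hy.nm) hy.sq
  rw [h1, mul_one, mul_inv_cancel, one_mul, pow_succ, pow_mul, pow_two, h2, one_pow, one_mul] at hr
  intro v hv
  exact (act_fix (ha y hy.nm) ⟨v, hv⟩).1 (by rw [hr]; rfl)

/-- No over-offenders. -/
theorem ES.off (h : ES P E) {K : Type*} [AddCommGroup K] [Finite K] [Nontrivial K] (B : Subgroup H)
    (hB : ∀ b ∈ B, b ∉ E → Iv P E b) (β : K × K → H) (hβ : ∀ p, β p ∈ B)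
    (hβ' : ∀ p p', p ≠ p' → β p * β p' ∉ E) (lam : H → K)
    (hadd : ∀ v ∈ Om E, ∀ w ∈ Om E, lam (v * w) = lam v + lam w)
    (hc : ∀ b ∈ B, b ∉ E → ∀ v ∈ Om E, (b * v = v * b ↔ lam v = 0))
    (hv : ∃ v ∈ Om E, lam v ≠ 0) : False := by
  obtain ⟨g, a, ha, hodd⟩ := h.act
  have hsq : ∀ v : Om E, v * v = 1 := fun v => Subtype.ext v.2.2.1
  have nm : ∀ b ∈ B, ∀ e ∈ E, b * e * b⁻¹ ∈ E := fun b hb e he => by
    by_cases hE : b ∈ E
    · exact mul_mem (mul_mem hE he) (inv_mem hE)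
    · exact (hB b hb hE).nm e he
  have sq : ∀ b ∈ B, b * b ∈ E := fun b hb => by
    by_cases hE : b ∈ E
    · exact mul_mem hE hE
    · exact (hB b hb hE).sq
  have am : ∀ p p', a (β p) * a (β p') = a (β p * β p') := fun p p' => by
    ext v
    rw [MulAut.mul_apply, ha _ (nm _ (hβ p)), ha _ (nm _ (hβ p')),
      ha _ (nm _ (mul_mem (hβ p) (hβ p')))]
    group
  have l1 : lam 1 = 0 := by simpa using hadd 1 (one_mem _) 1 (one_mem _)
  refine off_abs hsq g (fun v => lam v) (fun v w => hadd v v.2 w w.2) (fun p => a (β p))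
    (fun p => act_sq (ha _ (nm _ (hβ p))) (sq _ (hβ p))) (fun p v hl => ?_) (fun p v => ?_)
    (fun p p' hp v hf => ?_) (fun p₀ p₁ p p' h0 hp => ?_) ?_
  · rw [act_fix (ha _ (nm _ (hβ p)))]
    by_cases hE : β p ∈ E
    · exact (v.2.2.2 _ hE).symm
    · exact (hc _ (hβ p) hE v v.2).2 hl
  · by_cases hE : β p ∈ E
    · have : a (β p) v = v := (act_fix (ha _ (nm _ (hβ p))) v).2 (v.2.2.2 _ hE).symm
      rw [this, hsq]; exact l1
    · refine (hc _ (hβ p) hE _ (a (β p) v * v).2).1 ((act_fix (ha _ (nm _ (hβ p))) _).1 ?_)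
      rw [map_mul, ← MulAut.mul_apply, act_sq (ha _ (nm _ (hβ p))) (sq _ (hβ p)), sq_comm hsq]; rfl
  · rw [am] at hf
    have hb := mul_mem (hβ p) (hβ p')
    exact (hc _ hb (hβ' _ _ hp) v v.2).1 ((act_fix (ha _ (nm _ hb)) v).1 hf)
  · rw [am, am]
    exact hodd _ _ (hB _ (mul_mem (hβ _) (hβ _)) (hβ' _ _ h0)) (hB _ (mul_mem (hβ _) (hβ _)) (hβ' _ _ hp))
  · obtain ⟨v, hv, hl⟩ := hv
    exact ⟨⟨v, hv⟩, hl⟩

/-- No dual over-offenders. -/
theorem ES.off' (h : ES P E) (B : Subgroup H) (hB : ∀ b ∈ B, b ∉ E → Iv P E b) (hne : ¬ B ≤ E)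
    (Z : Subgroup H) (hZ : Z ≠ ⊥) (h1 : ∀ b ∈ B, b ∉ E → ∀ v ∈ Om E, ⁅b, v⁆ ∈ Z)
    (h2 : ∀ b ∈ B, b ∉ E → ∀ z ∈ Z, ∃ v ∈ Om E, ⁅b, v⁆ = z)
    (h3 : ∀ w ∈ Om E, ∃ b ∈ B, b ∉ E ∧ b * w = w * b) : False := by
  obtain ⟨g, a, ha, hodd⟩ := h.act
  have hsq : ∀ v : Om E, v * v = 1 := fun v => Subtype.ext v.2.2.1
  obtain ⟨x, hx, hxE⟩ := SetLike.not_le_iff_exists.1 hne
  have key := off'_abs hsq g {s | ∃ b ∈ B, b ∉ E ∧ a b = s} (x := a x) ⟨x, hx, hxE, rfl⟩
    (Z.subgroupOf (Om E)) ?_ ?_ ?_ ?_ ?_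
  · apply hZ
    rw [eq_bot_iff]
    intro z hz
    obtain ⟨v, hv, e⟩ := h2 x hx hxE z hz
    have e' := (act_comm (ha x (hB x hx hxE).nm) ⟨v, hv⟩).trans e
    have := key (a x ⟨v, hv⟩ * ⟨v, hv⟩) (by rw [Subgroup.mem_subgroupOf, e']; exact hz)
    rw [Subgroup.mem_bot, ← e', this]; rfl
  · rintro _ ⟨b, hb, hE, rfl⟩
    exact act_sq (ha b (hB b hb hE).nm) (hB b hb hE).sq
  · rintro _ ⟨b, hb, hE, rfl⟩ v
    rw [Subgroup.mem_subgroupOf, act_comm (ha b (hB b hb hE).nm)]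
    exact h1 b hb hE v v.2
  · rintro _ ⟨b, hb, hE, rfl⟩ z hz
    obtain ⟨v, hv, e⟩ := h2 b hb hE z hz
    exact ⟨⟨v, hv⟩, Subtype.ext ((act_comm (ha b (hB b hb hE).nm) ⟨v, hv⟩).trans e)⟩
  · intro w
    obtain ⟨b, hb, hE, e⟩ := h3 w w.2
    exact ⟨a b, ⟨b, hb, hE, rfl⟩, (act_fix (ha b (hB b hb hE).nm) w).2 e⟩
  · rintro _ ⟨b, hb, hE, rfl⟩
    exact hodd _ _ (hB x hx hxE) (hB b hb hE)

end Cfsg.Agent.RFS
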