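import Cfsg.Agent.RFS.Bas
import Cfsg.Agent.RFS.AbsB

/-! Project RFS: the centre of an essential subgroup lies in `T`.  See `notes/RFS.md`. -/

set_option autoImplicit false
set_option linter.unusedSectionVars false
set_option linter.unusedSimpArgs false

namespace Cfsg.Agent.RFS

open OCT OCT.OU
open scoped commutatorElement

variable {K : Type*} [Field K] [Tits K] [Finite K] {E : Subgroup (OU K)}

namespace C1

theorem σ_surj (t : K) : ∃ s : K, σ s = t :=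
  Finite.injective_iff_surjective.1 (σ : K →+* K).injective t

/-- `a` is conjugate to `x₁(a.x1)` -/
def Ok (a : OU K) : Prop := ∃ s : OU K, s * a * s⁻¹ = X1 a.x1

theorem cx1 (s a : OU K) : (s * a * s⁻¹).x1 = a.x1 := by
  simp only [mul_x1, inv_x1]; grind

theorem Ok.red {a : OU K} (s : OU K) (h : Ok (s * a * s⁻¹)) : Ok a := by
  obtain ⟨t, ht⟩ := h
  refine ⟨t * s, ?_⟩
  rw [cx1] at ht
  rw [← ht]; group

theorem csq (s : OU K) {a : OU K} (h : a * a = 1) : s * a * s⁻¹ * (s * a * s⁻¹) = 1 := by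
  calc s * a * s⁻¹ * (s * a * s⁻¹) = s * (a * a) * s⁻¹ := by group
    _ = 1 := by rw [h]; group

theorem ok4 {a : OU K} (h1 : a.x1 ≠ 0) (k1 : a.y2 = 0) (k2 : a.x2 = 0) (k3 : a.x3 = 0) (k4 : a.y4 = 0)
    (k5 : a.x5 = 0) (k6 : a.y6 = 0) (k7 : a.x6 = 0) (k8 : a.x7 = 0) (k9 : a.y8 = 0) (k10 : a.x8 = 0) : Ok a := by
  refine ⟨X6 (a.x4 / a.x1), ?_⟩
  ext <;> simp [k1, k2, k3, k4, k5, k6, k7, k8, k9, k10, CharTwo.add_self_eq_zero, h1]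

theorem ok3 {a : OU K} (h1 : a.x1 ≠ 0) (k1 : a.y2 = 0) (k3 : a.x3 = 0) (k4 : a.y4 = 0)
    (k5 : a.x5 = 0) (k6 : a.y6 = 0) (k7 : a.x6 = 0) (k8 : a.x7 = 0) (k9 : a.y8 = 0) (k10 : a.x8 = 0) : Ok a := by
  refine Ok.red (Y4 (a.x2 / a.x1)) (ok4 (by rwa [cx1]) ?_ ?_ ?_ ?_ ?_ ?_ ?_ ?_ ?_ ?_) <;>
    simp [k1, k3, k4, k5, k6, k7, k8, k9, k10, CharTwo.add_self_eq_zero, h1]

theorem ok2 {a : OU K} (h1 : a.x1 ≠ 0) (k1 : a.y2 = 0) (k4 : a.y4 = 0)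
    (k5 : a.x5 = 0) (k6 : a.y6 = 0) (k7 : a.x6 = 0) (k8 : a.x7 = 0) (k9 : a.y8 = 0) (k10 : a.x8 = 0) : Ok a := by
  obtain ⟨s, hs⟩ := σ_surj (a.x3 / a.x1)
  refine Ok.red (Y6 s) (ok3 (by rwa [cx1]) ?_ ?_ ?_ ?_ ?_ ?_ ?_ ?_ ?_) <;>
    simp [k1, k4, k5, k6, k7, k8, k9, k10, CharTwo.add_self_eq_zero, h1, hs]

theorem ok1 {a : OU K} (h1 : a.x1 ≠ 0) (k1 : a.y2 = 0) (k4 : a.y4 = 0)
    (k6 : a.y6 = 0) (k7 : a.x6 = 0) (k8 : a.x7 = 0) (k9 : a.y8 = 0) (k10 : a.x8 = 0) : Ok a := by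
  obtain ⟨s, hs⟩ := σ_surj (a.x5 / a.x1)
  refine Ok.red (X7 s) (ok2 (by rwa [cx1]) ?_ ?_ ?_ ?_ ?_ ?_ ?_ ?_) <;>
    simp [k1, k4, k6, k7, k8, k9, k10, CharTwo.add_self_eq_zero, h1, hs]

theorem ok0 {a : OU K} (h : a * a = 1) (h1 : a.x1 ≠ 0) (k1 : a.y2 = 0) (k6 : a.y6 = 0) : Ok a := by
  have k9 := inv_y8 h
  have k10 := inv_x8 h h1
  have e2 := congrArg OU.x2 h
  have e3 := congrArg OU.x3 h
  have e4 := congrArg OU.x4 h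
  have k4 : a.y4 = 0 := by simpa [k1, k6, k9, k10, CharTwo.add_self_eq_zero, h1] using e2
  have k8 : a.x7 = 0 := by simpa [k1, k6, k9, k10, k4, CharTwo.add_self_eq_zero, h1] using e3
  have k7 : a.x6 = 0 := by simpa [k1, k6, k9, k10, k4, k8, CharTwo.add_self_eq_zero, h1] using e4
  exact ok1 h1 k1 k4 k6 k7 k8 k9 k10

theorem oka {a : OU K} (h : a * a = 1) (h1 : a.x1 ≠ 0) (k1 : a.y2 = 0) : Ok a := by
  have k9 := inv_y8 h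
  have k10 := inv_x8 h h1
  refine Ok.red (X8 (a.y6 / a.x1)) (ok0 (csq _ h) (by rwa [cx1]) ?_ ?_) <;>
    simp [k1, k9, k10, CharTwo.add_self_eq_zero, h1]

theorem okb {a : OU K} (h : a * a = 1) (h1 : a.x1 ≠ 0) : Ok a := by
  have k9 := inv_y8 h
  have k10 := inv_x8 h h1
  refine Ok.red (Y8 (a.y2 / a.x1)) (oka (csq _ h) (by rwa [cx1]) ?_)
  simp [k9, k10, CharTwo.add_self_eq_zero, h1]

/-- support `x2 x3 y4 x4 x6` -/
def sB : Subgroup (OU K) where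
  carrier := {a | a.x1 = 0 ∧ a.y2 = 0 ∧ a.x5 = 0 ∧ a.y6 = 0 ∧ a.x7 = 0 ∧ a.y8 = 0 ∧ a.x8 = 0}
  one_mem' := by simp
  mul_mem' := fun ⟨h0, h1, h2, h3, h4, h5, h6⟩ ⟨k0, k1, k2, k3, k4, k5, k6⟩ => by
    simp [h0, h1, h2, h3, h4, h5, h6, k0, k1, k2, k3, k4, k5, k6]
  inv_mem' := fun ⟨h0, h1, h2, h3, h4, h5, h6⟩ => by simp [h0, h1, h2, h3, h4, h5, h6]

theorem mem_sB {a : OU K} : a ∈ (sB : Subgroup (OU K)) ↔
    a.x1 = 0 ∧ a.y2 = 0 ∧ a.x5 = 0 ∧ a.y6 = 0 ∧ a.x7 = 0 ∧ a.y8 = 0 ∧ a.x8 = 0 := Iff.rfl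

theorem cen_X1 {t : K} (ht : t ≠ 0) {e : OU K} (h : X1 t * e = e * X1 t) :
    e.y8 = 0 ∧ e.x8 = 0 ∧ e.x7 = 0 ∧ e.y6 = 0 ∧ e.y4 = 0 ∧ e.x6 = 0 := by
  have e1 := congrArg OU.y2 h
  have e2 := congrArg OU.y6 h
  have e3 := congrArg OU.x5 h
  have e4 := congrArg OU.x3 h
  have e5 := congrArg OU.x2 h
  have e6 := congrArg OU.x4 h
  have k1 : e.y8 = 0 := by simpa [ht] using e1
  have k2 : e.x8 = 0 := by simpa [ht, k1] using e2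
  have k3 : e.x7 = 0 := by simpa [ht, k1, k2] using e3
  have k4 : e.y6 = 0 := by simpa [ht, k1, k2, k3] using e4
  have k5 : e.y4 = 0 := by simpa [ht, k1, k2, k3, k4] using e5
  have k6 : e.x6 = 0 := by simpa [ht, k1, k2, k3, k4, k5] using e6
  exact ⟨k1, k2, k3, k4, k5, k6⟩

theorem no_X1 (h : ES ⊤ E) {t : K} (ht : t ≠ 0) (hv : X1 t ∈ Om E) : False := by
  have hE : ∀ e ∈ E, e.y8 = 0 ∧ e.x8 = 0 ∧ e.x7 = 0 ∧ e.y6 = 0 ∧ e.y4 = 0 ∧ e.x6 = 0 :=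
    fun e he => cen_X1 ht (hv.2.2 e he)
  have hin : ∀ z : OU K, z.y2 = 0 → z.y4 = 0 → z.x5 = 0 → z.y6 = 0 → z.x6 = 0 → z.x7 = 0 → z.y8 = 0 →
      z.x8 = 0 → z ∈ E := by
    intro z k1 k2 k3 k4 k5 k6 k7 k8
    refine h.cen z trivial fun e he => ?_
    obtain ⟨l1, l2, l3, l4, l5, l6⟩ := hE e he
    ext <;> simp [k1, k2, k3, k4, k5, k6, k7, k8, l1, l2, l3, l4, l5, l6, add_comm]
  refine h.off (K := K) sB ?_ (fun p => Y4 p.1 * X6 p.2) ?_ ?_ OU.x1 (fun _ _ _ _ => rfl) ?_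
    ⟨X1 t, hv, ht⟩
  · intro b hb hbE
    obtain ⟨k1, k2, k3, k4, k5, k6, k7⟩ := hb
    refine ⟨trivial, fun e he => ?_, hbE, ?_⟩
    · obtain ⟨l1, l2, l3, l4, l5, l6⟩ := hE e he
      have : b * e * b⁻¹ = (b * e * b⁻¹ * e⁻¹) * e := by group
      rw [this]
      refine mul_mem (hin _ ?_ ?_ ?_ ?_ ?_ ?_ ?_ ?_) he <;>
        simp [k1, k2, k3, k4, k5, k6, k7, l1, l2, l3, l4, l5, l6, CharTwo.add_self_eq_zero] <;> grind
    · refine hin _ ?_ ?_ ?_ ?_ ?_ ?_ ?_ ?_ <;>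
        simp [k1, k2, k3, k4, k5, k6, k7, CharTwo.add_self_eq_zero]
  · intro p
    simp [mem_sB]
  · intro p p' hp hm
    obtain ⟨-, -, -, -, l5, l6⟩ := hE _ hm
    simp at l5 l6
    exact hp (Prod.ext (by grind) (by grind))
  · intro b hb hbE w hw
    obtain ⟨k1, k2, k3, k4, k5, k6, k7⟩ := hb
    obtain ⟨l1, l2, l3, l4, l5, l6⟩ := hE w hw.1
    constructor
    · intro e
      by_contra hx
      have e2 := congrArg OU.x2 e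
      have e4 := congrArg OU.x4 e
      have m1 : b.y4 = 0 := by
        simp [k1, k2, k3, k4, k5, k6, k7, l1, l2, l3, l4, l5, l6] at e2
        have : b.y4 * w.x1 = 0 := by grind
        simpa [hx] using this
      have m2 : b.x6 = 0 := by
        simp [k1, k2, k3, k4, k5, k6, k7, l1, l2, l3, l4, l5, l6, m1] at e4
        have : b.x6 * w.x1 = 0 := by grind
        simpa [hx] using this
      exact hbE (hin b k2 m1 k3 k4 m2 k5 k6 k7)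
    · intro hx
      exact (m_WR ⟨hx, inv_y2 hw.2.1 hx, l5, l4, l3, l1, l2⟩ ⟨k1, k2, k4, k5, k6, k7⟩).symm

end C1

theorem inv_x1 {a : OU K} (h : a * a = 1) (h1 : a.x1 ≠ 0) : ∃ s : OU K, s * a * s⁻¹ = X1 a.x1 :=
  C1.okb h h1

theorem c1 (h : ES ⊤ E) : Om E ≤ sT := by
  intro v hv
  by_contra hx
  obtain ⟨s, hs⟩ := inv_x1 hv.2.1 hx
  obtain ⟨E', -, -, h3, -, h5⟩ := h.conj s (fun _ _ => trivial) (fun _ _ => trivial)
  exact C1.no_X1 h5 hx (hs ▸ h3 v hv)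

theorem c1W (h : ES ⊤ E) (hT : ¬ E ≤ sT) : Om E ≤ sW := by
  obtain ⟨e, he, hx⟩ := SetLike.not_le_iff_exists.1 hT
  rw [mem_sT] at hx
  intro v hv
  have k1 : v.x1 = 0 := c1 h hv
  have k2 := inv_y2 hv.2.1 k1
  have k3 := inv_y8 hv.2.1
  have hc := hv.2.2 e he
  have k4 : v.x8 = 0 := by
    have e4 := congrArg OU.y4 hc
    simp [k1, k2, k3] at e4
    have : v.x8 * σ e.x1 = 0 := by grind
    simpa [hx] using this
  obtain ⟨⟨-, -, k5, k6, -, -⟩, k7⟩ := inv_Z6 hv.2.1 k1 k4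
  have k8 : v.x7 = 0 := by
    have e3 := congrArg OU.x3 hc
    simp [k1, k2, k3, k4, k5, k6] at e3
    have : v.x7 * v.x7 * σ e.x1 = 0 := by grind
    simpa [hx] using this
  exact ⟨k1, k2, k5, k6, k8, k3, k4⟩

end Cfsg.Agent.RFS
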