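import Cfsg.Agent.RFS.Bas
import Cfsg.Agent.RFS.AbsA

/-! Project RFS: short chains and the characteristic subgroups obtained from `W`. -/

set_option autoImplicit false
set_option linter.unusedSectionVars false
set_option linter.unusedSimpArgs false
set_option linter.unusedTactic false
set_option linter.unreachableTactic false
set_option linter.unnecessarySeqFocus false

namespace Cfsg.Agent.RFS.Sh

open OCT OCT.OU
open scoped commutatorElement

section abs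
variable {H : Type*} [Group H] [Finite H] {P E B C D : Subgroup H} {x : H}

theorem ch1 (h : ES P E) (hx : x ∈ P) (hB : Ch E B) (h1 : ∀ b ∈ E, ⁅x, b⁆ ∈ B)
    (h2 : ∀ b ∈ B, x * b = b * x) : x ∈ E :=
  h.chain hx (.step hB h1 (.step Ch.bot (fun b hb => comm_bot'.2 (h2 b hb)) .bot))

theorem ch2 (h : ES P E) (hx : x ∈ P) (hB : Ch E B) (hC : Ch E C) (h1 : ∀ b ∈ E, ⁅x, b⁆ ∈ B)
    (h2 : ∀ b ∈ B, ⁅x, b⁆ ∈ C) (h3 : ∀ b ∈ C, x * b = b * x) : x ∈ E :=
  h.chain hx (.step hB h1 (.step hC h2 (.step Ch.bot (fun b hb => comm_bot'.2 (h3 b hb)) .bot)))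

theorem ch3 (h : ES P E) (hx : x ∈ P) (hB : Ch E B) (hC : Ch E C) (hD : Ch E D)
    (h1 : ∀ b ∈ E, ⁅x, b⁆ ∈ B) (h2 : ∀ b ∈ B, ⁅x, b⁆ ∈ C) (h3 : ∀ b ∈ C, ⁅x, b⁆ ∈ D)
    (h4 : ∀ b ∈ D, x * b = b * x) : x ∈ E :=
  h.chain hx (.step hB h1 (.step hC h2 (.step hD h3
    (.step Ch.bot (fun b hb => comm_bot'.2 (h4 b hb)) .bot))))

omit [Finite H] in
theorem sw {a b : H} (h : ⁅a, b⁆ ∈ B) : ⁅b, a⁆ ∈ B := by
  rw [← commutatorElement_inv]; exact inv_mem h

omit [Finite H] in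
theorem cm_self {a b : H} (ha : a ∈ B) (hb : b ∈ B) : ⁅a, b⁆ ∈ B := by
  rw [commutatorElement_def]
  exact mul_mem (mul_mem (mul_mem ha hb) (inv_mem ha)) (inv_mem hb)

omit [Finite H] in
theorem nm_of {a b : H} (h : ⁅a, b⁆ ∈ B) (hb : b ∈ B) : a * b * a⁻¹ ∈ B := by
  have e : a * b * a⁻¹ = ⁅a, b⁆ * b := by rw [commutatorElement_def]; group
  rw [e]; exact mul_mem h hb

end abs

variable {K : Type*} [Field K] [Tits K] {a b : OU K} {P E : Subgroup (OU K)}

theorem sq_W (ha : a ∈ (sW : Subgroup (OU K))) : a * a = 1 := by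
  rw [mem_sW] at ha
  ext <;> simp [ha, CharTwo.add_self_eq_zero]

theorem sq_J7 (ha : a ∈ (sJ7 : Subgroup (OU K))) : a * a = 1 := by
  rw [mem_sJ7] at ha
  ext <;> simp [ha, CharTwo.add_self_eq_zero]

theorem sq_R (ha : a ∈ (sR : Subgroup (OU K))) : a * a ∈ (sZ : Subgroup (OU K)) := by
  rw [mem_sR] at ha
  simp [ha, CharTwo.add_self_eq_zero]

theorem Z_Y : (sZ : Subgroup (OU K)) ≤ sY := fun _ h => by simp_all
theorem Y_I : (sY : Subgroup (OU K)) ≤ sI := fun _ h => by simp_all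
theorem I_J : (sI : Subgroup (OU K)) ≤ sJ := fun _ h => by simp_all
theorem J_W : (sJ : Subgroup (OU K)) ≤ sW := fun _ h => by simp_all
theorem J_J7 : (sJ : Subgroup (OU K)) ≤ sJ7 := fun _ h => by simp_all
theorem W_R : (sW : Subgroup (OU K)) ≤ sR := fun _ h => by simp_all
theorem W_Z5 : (sW : Subgroup (OU K)) ≤ sZ5 := fun _ h => by simp_all
theorem J7_Z5 : (sJ7 : Subgroup (OU K)) ≤ sZ5 := fun _ h => by simp_all
theorem Z5_Z6 : (sZ5 : Subgroup (OU K)) ≤ sZ6 := fun _ h => by simp_all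
theorem R_Z6 : (sR : Subgroup (OU K)) ≤ sZ6 := fun _ h => by simp_all
theorem Z6_A : (sZ6 : Subgroup (OU K)) ≤ sA := fun _ h => by simp_all
theorem Z6_D : (sZ6 : Subgroup (OU K)) ≤ sD := fun _ h => by simp_all
theorem D_Q : (sD : Subgroup (OU K)) ≤ sQ := fun _ h => by simp_all
theorem D_T : (sD : Subgroup (OU K)) ≤ sT := fun _ h => by simp_all
theorem D_Z7 : (sD : Subgroup (OU K)) ≤ sZ7 := fun _ h => by simp_all
theorem A_T : (sA : Subgroup (OU K)) ≤ sT := fun _ h => by simp_all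
theorem I_W : (sI : Subgroup (OU K)) ≤ sW := I_J.trans J_W
theorem I_A : (sI : Subgroup (OU K)) ≤ sA := fun _ h => by simp_all
theorem R_A : (sR : Subgroup (OU K)) ≤ sA := R_Z6.trans Z6_A
theorem R_T : (sR : Subgroup (OU K)) ≤ sT := R_A.trans A_T

theorem m_WW (ha : a ∈ (sW : Subgroup (OU K))) (hb : b ∈ (sW : Subgroup (OU K))) : a * b = b * a :=
  m_WR ha (W_R hb)

/-- the centralizer of `W` -/
theorem cz_W (h : ∀ w ∈ (sW : Subgroup (OU K)), a * w = w * a) : a ∈ (sR : Subgroup (OU K)) := by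
  have e6 := congrArg OU.x4 (h (X6 1) (by simp))
  simp [add_comm] at e6
  have e5 := congrArg OU.x4 (h (X5 1) (by simp))
  simp [add_comm, e6] at e5
  have e5' := congrArg OU.x6 (h (X5 1) (by simp))
  simp [add_comm, e6] at e5'
  have e3 := congrArg OU.x6 (h (X3 1) (by simp))
  simp [add_comm, e6, e5, e5'] at e3
  have e3' := congrArg OU.x4 (h (X3 1) (by simp))
  simp [add_comm, e6, e5, e5', e3] at e3'
  have e2 := congrArg OU.x4 (h (X2 1) (by simp))
  simp [add_comm, e6, e5, e5', e3, e3'] at e2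
  exact ⟨e6, e5, e3', e2, e5', e3⟩

theorem sq_R_eq [Finite K] : Sq (sR : Subgroup (OU K)) = sZ := by
  refine le_antisymm (Sq_le fun b hb => sq_R hb) fun z hz => ?_
  obtain ⟨s, hs⟩ := Finite.surjective_of_injective (f := fun s : K => s * σ s) (fun _ _ h => nrm_inj h) z.x4
  have e : z = Y4 s * Y4 s := by
    rw [mem_sZ] at hz
    ext <;> simp [hz, CharTwo.add_self_eq_zero]
    exact hs.symm
  rw [e]
  exact mem_Sq (by simp)

/-- if `W` is characteristic then `R ≤ E` and `R`, `Z` are characteristic -/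
theorem of_W [Finite K] (h : ES P E) (hR : sR ≤ P) (hW : Ch E sW) : sR ≤ E ∧ Ch E sR ∧ Ch E sZ := by
  have h1 : sR ≤ E := fun x hx => ch1 h (hR hx) hW (fun b _ => c_R hx b) fun b hb => (m_WR hb hx).symm
  have h2 : Ch E sR := Ch.cz Ch.top hW Ch.bot fun a =>
    ⟨fun ha => ⟨h1 ha, fun b hb => comm_bot'.2 (m_WR hb ha).symm⟩,
      fun ha => cz_W fun w hw => comm_bot'.1 (ha.2 w hw)⟩
  exact ⟨h1, h2, sq_R_eq (K := K) ▸ h2.sq⟩

end Cfsg.Agent.RFS.Sh
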