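import Cfsg.Agent.RFS.Defs2
import Cfsg.Agent.RFS.C1
import Cfsg.Agent.RFS.Sh
import Cfsg.Agent.OCT.Chr

/-! Project RFS: characteristic subgroups of `S`, `Q`, `T`.  See `notes/RFS.md`. -/

set_option autoImplicit false
set_option linter.unusedSectionVars false
set_option linter.unusedSimpArgs false
set_option linter.unusedTactic false
set_option linter.unreachableTactic false
set_option linter.unnecessarySeqFocus false

namespace Cfsg.Agent.RFS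

open OCT OCT.OU
open scoped commutatorElement

variable {K : Type*} [Field K] [Tits K] [Finite K] {G : Type*} [Group G] {u : OU K →* G}

namespace Chr

open Sh

theorem czA : Cz (K := K) sA sT sI ⊥ := fun a =>
  ⟨fun ha => ⟨A_T ha, fun b hb => comm_bot.2 (m_IA hb ha).symm⟩, fun ⟨h1, hc⟩ => by
    rw [mem_sT] at h1
    have hc := comm_bot.1 (hc (X5 1) (by simp))
    have e4 := congrArg OU.x4 hc
    have e6 := congrArg OU.x6 hc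
    simp [h1] at e4 e6
    exact ⟨h1, e4, e6⟩⟩

theorem czJ7 : Cz (K := K) sJ7 sA sA sY := fun a =>
  ⟨fun ha => ⟨Z6_A (Z5_Z6 (J7_Z5 ha)), fun b hb => c_J7A ha hb⟩, fun ⟨ha, hc⟩ => by
    rw [mem_sA] at ha
    have key : ∀ b ∈ (sA : Subgroup (OU K)), a.y6 * b.y4 + a.x8 * b.x2 = b.y6 * a.y4 + b.x8 * a.x2 := by
      intro b hb
      obtain ⟨z, hz, e⟩ := comm_mod.1 (hc b hb)
      rw [mem_sY] at hz
      rw [mem_sA] at hb
      have e5 := congrArg OU.x5 e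
      simp [ha, hb, hz] at e5
      linear_combination e5
    have k1 := key (Y4 1) (by simp)
    have k2 := key (Y6 1) (by simp)
    have k3 := key (X2 1) (by simp)
    have k4 := key (X8 1) (by simp)
    simp at k1 k2 k3 k4
    exact ⟨ha.1, ha.2.1, k4.symm, k2.symm, k1, ha.2.2, k3⟩⟩

theorem cIP {a b : OU K} (ha : a ∈ (sI : Subgroup (OU K))) (hb : b.y8 = 0) :
    ⁅a, b⁆ ∈ (sZ : Subgroup (OU K)) := by
  rw [mem_sI] at ha
  rw [commutatorElement_def, mem_sZ]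
  refine ⟨?_, ?_, ?_, ?_, ?_, ?_, ?_, ?_, ?_, ?_, ?_⟩ <;> simp [ha, hb, CharTwo.add_self_eq_zero] <;> grind

theorem czP8 : Cz (K := K) sP8 ⊤ sI sZ := fun a =>
  ⟨fun ha => ⟨trivial, fun b hb => sw (cIP hb ha)⟩, fun ⟨_, hc⟩ => by
    obtain ⟨z, hz, e⟩ := comm_mod.1 (hc (X5 1) (by simp))
    rw [mem_sZ] at hz
    simpa [hz] using congrArg OU.x6 e⟩

theorem czJ : Cz (K := K) sJ sJ7 ⊤ sI := fun a =>
  ⟨fun ha => ⟨J_J7 ha, fun b _ => c_J ha b⟩, fun ⟨ha, hc⟩ => by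
    obtain ⟨z, hz, e⟩ := comm_mod.1 (hc (X1 1) trivial)
    rw [mem_sI] at hz
    rw [mem_sJ7] at ha
    have a7 : a.x7 = 0 := by simpa [hz, ha] using congrArg OU.x3 e
    simp [ha, a7]⟩

theorem czZ5 : Cz (K := K) sZ5 sA ⊤ sJ := fun a =>
  ⟨fun ha => ⟨Z6_A (Z5_Z6 ha), fun b _ => c_Z5 ha b⟩, fun ⟨ha, hc⟩ => by
    obtain ⟨z, hz, e⟩ := comm_mod.1 (hc (X1 1) trivial)
    obtain ⟨y, hy, e'⟩ := comm_mod.1 (hc (Y8 1) trivial)
    rw [mem_sJ] at hz hy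
    rw [mem_sA] at ha
    have a8 : a.x8 = 0 := by simpa [hz, ha] using congrArg OU.y4 e
    have a6 : a.y6 = 0 := by simpa [hy, ha, a8] using congrArg OU.x7 e'
    have a4 : a.y4 = 0 := by simpa [hz, ha, a8, a6] using congrArg OU.x2 e
    simp [ha, a8, a6, a4]⟩

theorem czZ6 : Cz (K := K) sZ6 sA ⊤ sZ5 := fun a =>
  ⟨fun ha => ⟨Z6_A ha, fun b _ => c_Z6 ha b⟩, fun ⟨ha, hc⟩ => by
    obtain ⟨z, hz, e⟩ := comm_mod.1 (hc (X1 1) trivial)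
    rw [mem_sZ5] at hz
    rw [mem_sA] at ha
    have a8 : a.x8 = 0 := by simpa [hz, ha] using congrArg OU.y4 e
    simp [ha, a8]⟩

theorem czW : Cz (K := K) sW sZ5 sZ6 sZ := fun a =>
  ⟨fun ha => ⟨W_Z5 ha, fun b hb => c_WQ ha (D_Q (Z6_D hb))⟩, fun ⟨ha, hc⟩ => by
    obtain ⟨z, hz, e⟩ := comm_mod.1 (hc (Y4 1) (by simp))
    rw [mem_sZ] at hz
    rw [mem_sZ5] at ha
    have a7 : a.x7 = 0 := by simpa [hz, ha] using congrArg OU.x6 e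
    simp [ha, a7]⟩

theorem czR : Cz (K := K) sR ⊤ sW ⊥ := fun a =>
  ⟨fun ha => ⟨trivial, fun b hb => comm_bot.2 (m_WR hb ha).symm⟩,
    fun ⟨_, hc⟩ => Sh.cz_W fun w hw => comm_bot.1 (hc w hw)⟩

theorem czQ : Cz (K := K) sQ ⊤ sW sZ := fun a =>
  ⟨fun ha => ⟨trivial, fun b hb => sw (c_WQ hb ha)⟩, fun ⟨_, hc⟩ => by
    obtain ⟨z, hz, e⟩ := comm_mod.1 (hc (X2 1) (by simp))
    rw [mem_sZ] at hz
    have a8 : a.y8 = 0 := by simpa [hz] using congrArg OU.x3 e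
    have b8 : a.x8 = 0 := by simpa [hz, a8] using congrArg OU.x5 e
    exact ⟨a8, b8⟩⟩

theorem cR7 {a b : OU K} (ha : a ∈ (sR7 : Subgroup (OU K))) (hb : b ∈ (sR : Subgroup (OU K))) :
    ⁅a, b⁆ ∈ (sY : Subgroup (OU K)) := by
  rw [mem_sR7] at ha
  rw [mem_sR] at hb
  rw [commutatorElement_def, mem_sY]
  refine ⟨?_, ?_, ?_, ?_, ?_, ?_, ?_, ?_, ?_, ?_⟩ <;> simp [ha, hb, CharTwo.add_self_eq_zero] <;> grind

theorem czR7 : Cz (K := K) sR7 sQ sR sY := fun a =>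
  ⟨fun ha => ⟨⟨ha.2.2.2.1, ha.2.2.2.2⟩, fun b hb => cR7 ha hb⟩, fun ⟨⟨h1, h2⟩, hc⟩ => by
    obtain ⟨z, hz, e⟩ := comm_mod.1 (hc (Y4 1) (by simp))
    rw [mem_sY] at hz
    have a1 : a.x1 = 0 := by simpa [hz, h1, h2] using congrArg OU.x2 e
    have a2 : a.y2 = 0 := by simpa [hz, h1, h2] using congrArg OU.x3 e
    have a6 : a.y6 = 0 := by simpa [hz, h1, h2, a1] using congrArg OU.x5 e
    exact ⟨a1, a2, a6, h1, h2⟩⟩

theorem eD : (sQ ⊓ sT : Subgroup (OU K)) = sD := Subgroup.ext fun a => by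
  simp only [Subgroup.mem_inf, mem_sQ, mem_sT, mem_sD]; tauto

theorem eZ7 : (sT ⊓ sP8 : Subgroup (OU K)) = sZ7 := Subgroup.ext fun a => by
  simp only [Subgroup.mem_inf, mem_sP8, mem_sT, mem_sZ7]

theorem c1R (t : K) {b : OU K} (hb : b ∈ (sR : Subgroup (OU K))) : ⁅X1 t, b⁆ ∈ (sY0 : Subgroup (OU K)) := by
  rw [mem_sR] at hb
  rw [commutatorElement_def, mem_sY0]
  refine ⟨?_, ?_, ?_, ?_, ?_, ?_, ?_, ?_, ?_, ?_⟩ <;> simp [hb, CharTwo.add_self_eq_zero] <;> grind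

theorem decY {y : OU K} (hy : y ∈ (sY : Subgroup (OU K))) :
    ⁅(X7 1 : OU K), Y4 y.x6⁆⁻¹ * y ∈ (sZ : Subgroup (OU K)) := by
  rw [mem_sY] at hy
  rw [commutatorElement_inv, commutatorElement_def, mem_sZ]
  refine ⟨?_, ?_, ?_, ?_, ?_, ?_, ?_, ?_, ?_, ?_, ?_⟩ <;> simp [hy, CharTwo.add_self_eq_zero] <;> grind

theorem comm_eq {a b z : OU K} (h : a * b = z * (b * a)) : ⁅a, b⁆ = z := by
  rw [commutatorElement_def, h]; group

theorem cIT {a b : OU K} (ha : a ∈ (sI : Subgroup (OU K))) (hb : b.x1 = 0) :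
    ⁅a, b⁆ = EY (a.x5 * b.y2) (a.x5 * b.y8) := by
  rw [mem_sI] at ha
  refine comm_eq ?_
  ext <;> simp [ha, hb] <;> grind

theorem Au.tw {A : Subgroup (OU K)} (hA : Ch ⊤ A) (β : OU K ≃* OU K) : Au A β :=
  (Au.equiv β).res le_top (hA.inv _ (Au.equiv β))

theorem ess_tw {A B : Subgroup (OU K)} (hA : Ch ⊤ A) (hB : Ch ⊤ B) (β : OU K ≃* OU K)
    (h : ∃ f, Fa u A f ∧ ¬ ∀ y ∈ B, f y ∈ B) :
    ∃ f, Fa (u.comp β.toMonoidHom) A f ∧ ¬ ∀ y ∈ B, f y ∈ B := by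
  obtain ⟨f, hf, hn⟩ := h
  refine ⟨fun a => β.symm (f (β a)), ⟨(Au.tw hA β.symm).comp (hf.au.comp (Au.tw hA β)),
    hf.ind.tw β (Au.tw hA β).mem⟩, fun k => hn fun y hy => ?_⟩
  have := (Au.tw hB β).mem _ (k _ ((Au.tw hB β.symm).mem y hy))
  simpa using this

end Chr

open Chr Sh

theorem chS_Z : Ch (⊤ : Subgroup (OU K)) sZ := Ch.cz Ch.top Ch.top Ch.bot cz_ZU
theorem chS_Y : Ch (⊤ : Subgroup (OU K)) sY := Ch.cz Ch.top Ch.top chS_Z cz_YU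
theorem chS_T : Ch (⊤ : Subgroup (OU K)) sT := Ch.cz Ch.top chS_Y Ch.bot cz_T
theorem chS_I : Ch (⊤ : Subgroup (OU K)) sI := Ch.cz chS_T chS_T chS_Y cz_I
theorem chS_A : Ch (⊤ : Subgroup (OU K)) sA := Ch.cz chS_T chS_I Ch.bot czA
theorem chS_J7 : Ch (⊤ : Subgroup (OU K)) sJ7 := Ch.cz chS_A chS_A chS_Y czJ7
theorem chS_J : Ch (⊤ : Subgroup (OU K)) sJ := Ch.cz chS_J7 Ch.top chS_I czJ
theorem chS_Z5 : Ch (⊤ : Subgroup (OU K)) sZ5 := Ch.cz chS_A Ch.top chS_J czZ5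
theorem chS_Z6 : Ch (⊤ : Subgroup (OU K)) sZ6 := Ch.cz chS_A Ch.top chS_Z5 czZ6
theorem chS_P8 : Ch (⊤ : Subgroup (OU K)) sP8 := Ch.cz Ch.top chS_I chS_Z czP8
theorem chS_Z7 : Ch (⊤ : Subgroup (OU K)) sZ7 := eZ7 (K := K) ▸ chS_T.inf chS_P8
theorem chS_W : Ch (⊤ : Subgroup (OU K)) sW := Ch.cz chS_Z5 chS_Z6 chS_Z czW
theorem chS_R : Ch (⊤ : Subgroup (OU K)) sR := Ch.cz Ch.top chS_W Ch.bot czR
theorem chS_Q : Ch (⊤ : Subgroup (OU K)) sQ := Ch.cz Ch.top chS_W chS_Z czQ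
theorem chS_D : Ch (⊤ : Subgroup (OU K)) sD := eD (K := K) ▸ chS_Q.inf chS_T
theorem chS_R7 : Ch (⊤ : Subgroup (OU K)) sR7 := Ch.cz chS_Q chS_R chS_Y czR7
theorem chQ_Z : Ch (sQ : Subgroup (OU K)) sZ := Ch.cz Ch.top Ch.top Ch.bot cz_ZQ
theorem chQ_W : Ch (sQ : Subgroup (OU K)) sW := Ch.cz Ch.top Ch.top chQ_Z OCT.cz_W
theorem chQ_R : Ch (sQ : Subgroup (OU K)) sR := Ch.cz Ch.top chQ_W Ch.bot cz_R
theorem chT_Y : Ch (sT : Subgroup (OU K)) sY := Ch.cz Ch.top Ch.top Ch.bot cz_YT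
theorem chT_I : Ch (sT : Subgroup (OU K)) sI := Ch.cz Ch.top Ch.top chT_Y cz_I
theorem chT_A : Ch (sT : Subgroup (OU K)) sA := Ch.cz Ch.top chT_I Ch.bot czA
theorem chT_J7 : Ch (sT : Subgroup (OU K)) sJ7 := Ch.cz chT_A chT_A chT_Y czJ7

theorem q2 {f : OU K → OU K} (h : Au sQ f) : (∀ y ∈ (sY : Subgroup (OU K)), f y ∈ (sY : Subgroup (OU K))) ∨
    ∃ s : OU K, ∀ y ∈ (sY : Subgroup (OU K)), s * f y * s⁻¹ ∈ (sY0 : Subgroup (OU K)) := by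
  have m7 : (X7 1 : OU K) ∈ (sQ : Subgroup (OU K)) := by simp
  have dd : f (X7 1) * f (X7 1) = 1 := by
    rw [← h.mul _ m7 _ m7, sq_J7 (by simp), h.one]
  have key : ∀ y ∈ (sY : Subgroup (OU K)), ∃ r ∈ (sR : Subgroup (OU K)), ∃ z ∈ (sZ : Subgroup (OU K)),
      f y = ⁅f (X7 1), r⁆ * z := fun y hy => by
    have m4 : (Y4 y.x6 : OU K) ∈ (sQ : Subgroup (OU K)) := by simp
    refine ⟨_, chQ_R.inv f h (Y4 y.x6) (by simp), _, chQ_Z.inv f h _ (decY hy), ?_⟩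
    rw [← h.map_comm m7 m4, ← h.mul _ (cm_self m7 m4) _ (chQ_Z.le (decY hy)), mul_inv_cancel_left]
  by_cases h1 : (f (X7 1)).x1 = 0
  · refine Or.inl fun y hy => ?_
    obtain ⟨r, hr, z, hz, e⟩ := key y hy
    rw [e]
    exact mul_mem (sw (c_Z6Z5 (R_Z6 hr) (inv_Z6 dd h1 (h.mem _ m7).2).1)) (Z_Y hz)
  · obtain ⟨s, hs⟩ := inv_x1 dd h1
    refine Or.inr ⟨s, fun y hy => ?_⟩
    obtain ⟨r, hr, z, hz, e⟩ := key y hy
    have : s * f y * s⁻¹ = ⁅s * f (X7 1) * s⁻¹, s * r * s⁻¹⁆ * z := by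
      rw [e, mul_assoc, mul_assoc, m_Z hz, commutatorElement_def, commutatorElement_def]; group
    rw [this, hs]
    refine mul_mem (c1R _ (nm_of (sw (W_R (c_R hr s))) hr)) ?_
    rw [mem_sZ] at hz
    simp [hz]

theorem t2 {f : OU K → OU K} (h : Au sT f) :
    ∃ a b : K, (a ≠ 0 ∨ b ≠ 0) ∧ ∀ t, ∃ r, f (X4 t) = EY (r * a) (r * b) := by
  have m2 : (Y2 1 : OU K) ∈ (sT : Subgroup (OU K)) := by simp
  refine ⟨(f (Y2 1)).y2, (f (Y2 1)).y8, ?_, fun t => ⟨(f (X5 t)).x5, ?_⟩⟩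
  · by_contra hn
    push Not at hn
    obtain ⟨g, hg, e, -⟩ := h.exists_inv
    have := chT_A.inv g hg _ ⟨h.mem _ m2, hn.1, hn.2⟩
    rw [e _ m2] at this
    simp at this
  · have m5 : (X5 t : OU K) ∈ (sI : Subgroup (OU K)) := by simp
    have e : (X4 t : OU K) = ⁅X5 t, Y2 1⁆ := by
      rw [cIT m5 m2]; ext <;> simp
    rw [e, h.map_comm (chT_I.le m5) m2, cIT (chT_I.inv f h _ m5) (h.mem _ m2)]

theorem range_tw (u : OU K →* G) (β : OU K ≃* OU K) : (u.comp β.toMonoidHom).range = u.range :=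
  Subgroup.ext fun _ => ⟨fun ⟨a, e⟩ => ⟨β a, e⟩, fun ⟨a, e⟩ => ⟨β.symm a, by simpa using e⟩⟩

theorem Sat.tw (h : Sat u) (β : OU K ≃* OU K) : Sat (u.comp β.toMonoidHom) :=
  ⟨h.inj.comp β.injective, by rw [range_tw]; exact h.sat⟩

theorem EssQ.tw (h : EssQ u) (β : OU K ≃* OU K) : EssQ (u.comp β.toMonoidHom) := ess_tw chS_Q chS_Y β h

theorem EssT.tw (h : EssT u) (β : OU K ≃* OU K) : EssT (u.comp β.toMonoidHom) := ess_tw chS_T chS_Z β h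

end Cfsg.Agent.RFS
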