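import Cfsg.Agent.RFS.Ess
import Cfsg.Agent.RFS.Chr
import Cfsg.Agent.OCT.Line
import Cfsg.Agent.H42.FsBasic

/-! Project RFS: uniqueness of the normal form.  See `notes/RFS.md`. -/

set_option autoImplicit false
set_option linter.unusedSectionVars false

namespace Cfsg.Agent.RFS

open OCT OCT.OU
open scoped commutatorElement

variable {K : Type*} [Field K] [Tits K] [Finite K] {G : Type*} [Group G] {u : OU K →* G} [Finite G]
  {G' : Type*} [Group G'] [Finite G'] {u' : OU K →* G'}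

namespace Uniq

theorem nu_mem : ∀ a ∈ (sQ : Subgroup (OU K)), nu a ∈ (sQ : Subgroup (OU K)) := fun a _ => by
  constructor <;> simp

theorem mu_mem : ∀ a ∈ (sT : Subgroup (OU K)), mu a ∈ (sT : Subgroup (OU K)) := fun a _ => by
  simp

theorem au_nu : Au (sQ : Subgroup (OU K)) nu :=
  .of_inj nu_mem (fun _ ha _ hb => nu_mul ha hb) fun a ha b hb e => by
    rw [← nu_nu ha, e, nu_nu hb]

theorem au_mu : Au (sT : Subgroup (OU K)) mu :=
  .of_inj mu_mem (fun _ ha _ hb => mu_mul ha hb) fun a ha b hb e => by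
    rw [← mu_mu ha, e, mu_mu hb]

theorem nu_Y0 {y : OU K} (h : y ∈ (sY0 : Subgroup (OU K))) : nu y ∈ (sY : Subgroup (OU K)) := by
  obtain ⟨h0, h1, h2, h3, h4, h5, h6, h7, h8, h9⟩ := h
  simp [h0, h1, h2, h3, h4, h5, h6, h7]

theorem mu_EY (c : K) : mu (EY 0 c) ∈ (sZ : Subgroup (OU K)) := by simp

theorem eq_X4 {z : OU K} (h : z ∈ (sZ : Subgroup (OU K))) : z = X4 z.x4 := by
  ext <;> simp_all

theorem top (h : NF u) (h' : NF u') (hφ : ∀ φ : RingAut K, In u ⊤ (fld φ) → In u' ⊤ (fld φ))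
    {F : OU K → OU K} (hF : Fa u ⊤ F) : In u' ⊤ F := by
  obtain ⟨s, k, φ, e⟩ := h.std F hF
  have h1 : In u ⊤ (fld φ) :=
    ((h.tor k⁻¹).comp ((In.conj u ⊤ s⁻¹).comp hF.ind fun _ _ => trivial) fun _ _ => trivial).congr
      fun a _ => by
        rw [e a, show s⁻¹ * (s * torA k (fld φ a) * s⁻¹) * s⁻¹⁻¹ = torA k (fld φ a) by group,
          map_inv, MulAut.inv_apply_self]
  exact ((In.conj u' ⊤ s).comp ((h'.tor k).comp (hφ φ h1) fun _ _ => trivial)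
    fun _ _ => trivial).congr fun a _ => (e a).symm

theorem onQ (h : NF u) (h' : NF u') (hφ : ∀ φ : RingAut K, In u ⊤ (fld φ) → In u' ⊤ (fld φ))
    {f : OU K → OU K} (hf : Fa u sQ f) : In u' sQ f := by
  have key : ∀ g, Fa u sQ g → (∀ y ∈ (sY : Subgroup (OU K)), g y ∈ (sY : Subgroup (OU K))) →
      In u' sQ g := fun g hg hY => by
    obtain ⟨F, hF, e⟩ := h.sat.ctx.extQ g hg hY
    exact ((top h h' hφ hF).mono le_top).congr e
  rcases q2 hf.au with hY | ⟨s, hs⟩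
  · exact key f hf hY
  · have h1 := (Fa.conj u s (nm_Q s)).comp hf
    have h2 := (Fa.mk au_nu h.nu).comp h1
    exact ((In.conj u' sQ s⁻¹).comp (h'.nu.comp (key _ h2 fun y hy => nu_Y0 (hs y hy)) h2.au.mem)
      fun a ha => nu_mem _ (h2.au.mem a ha)).congr fun a ha => by
        rw [nu_nu (h1.au.mem a ha)]; group

theorem onT (h : NF u) (h' : NF u') (hφ : ∀ φ : RingAut K, In u ⊤ (fld φ) → In u' ⊤ (fld φ))
    {f : OU K → OU K} (hf : Fa u sT f) : In u' sT f := by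
  have key : ∀ g, Fa u sT g → (∀ y ∈ (sZ : Subgroup (OU K)), g y ∈ (sZ : Subgroup (OU K))) →
      In u' sT g := fun g hg hZ => by
    obtain ⟨F, hF, e⟩ := h.sat.ctx.extT g hg hZ
    exact ((top h h' hφ hF).mono le_top).congr e
  obtain ⟨a, b, -, hab⟩ := t2 hf.au
  by_cases hb : b = 0
  · refine key f hf fun y hy => ?_
    obtain ⟨r, hr⟩ := hab y.x4
    rw [eq_X4 hy, hr, hb]
    simp
  · have h1 := (Fa.conj u (X1 (a / b)) (nm_T _)).comp hf
    have h2 := (Fa.mk au_mu h.mu).comp h1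
    refine ((In.conj u' sT (X1 (a / b))⁻¹).comp (h'.mu.comp (key _ h2 fun y hy => ?_) h2.au.mem)
      fun c hc => mu_mem _ (h2.au.mem c hc)).congr fun c hc => by
        rw [mu_mu (h1.au.mem c hc)]; group
    obtain ⟨r, hr⟩ := hab y.x4
    have e : r * a + (X1 (a / b) : OU K).x1 * (r * b) = 0 := by
      have : (X1 (a / b) : OU K).x1 * (r * b) = r * a := by
        simp only [X1_x1]; field_simp
      rw [this, CharTwo.add_self_eq_zero]
    rw [eq_X4 hy, hr, conj_EY, e]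
    exact mu_EY _

open Function in
theorem fiso {M G G' : Type*} [Group M] [Group G] [Group G'] {φ : M →* G} {φ' : M →* G'}
    (hφ : Injective φ) (hφ' : Injective φ') (h : ∀ (X : Subgroup M) (f : M → M) (g : G),
      (∀ x ∈ X, g * φ x * g⁻¹ = φ (f x)) → ∃ g' : G', ∀ x ∈ X, g' * φ' x * g'⁻¹ = φ' (f x)) :
    H92.GIso φ.range φ'.range (fun x => φ' (invFun φ x)) (fun y => φ (invFun φ' y)) ∧
      ∀ P f, H91.M (groupFusionSystem φ.range) P f → H91.M (groupFusionSystem φ'.range)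
        (H91.im (fun x => φ' (invFun φ x)) P) fun y => φ' (invFun φ (f (φ (invFun φ' y)))) := by
  have a := leftInverse_invFun hφ
  have b := leftInverse_invFun hφ'
  have i : H92.GIso φ.range φ'.range (fun x => φ' (invFun φ x)) (fun y => φ (invFun φ' y)) := by
    refine ⟨?_, ?_, fun _ _ => ⟨_, rfl⟩, fun _ _ => ⟨_, rfl⟩, ?_, ?_⟩
    · rintro _ ⟨x, rfl⟩ _ ⟨y, rfl⟩
      simp only [← map_mul, a _]
    · rintro _ ⟨x, rfl⟩ _ ⟨y, rfl⟩
      simp only [← map_mul, b _]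
    · rintro _ ⟨x, rfl⟩
      simp only [a _, b _]
    · rintro _ ⟨x, rfl⟩
      simp only [a _, b _]
  refine ⟨i, fun P f hf => ?_⟩
  obtain ⟨hP, hm, g, hg⟩ := H91.M_group_iff.1 hf
  obtain ⟨g', e⟩ := h (P.comap φ) (fun m => invFun φ (f (φ m))) g fun x hx =>
    ((invFun_eq (hm _ hx)).trans (hg _ hx)).symm
  refine H91.M_group_iff.2 ⟨i.im_le hP, fun _ _ => ⟨_, rfl⟩, g', fun y hy => ?_⟩
  obtain ⟨x, hx, rfl⟩ := (i.mem_im hP).1 hy
  obtain ⟨m, rfl⟩ := hP hx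
  simp only [a _, b _, e m hx]

end Uniq

theorem uniq (h : NF u) (h' : NF u') (hφ : ∀ φ : RingAut K, In u ⊤ (fld φ) → In u' ⊤ (fld φ))
    {X : Subgroup (OU K)} {f : OU K → OU K} (hf : In u X f) : In u' X f := by
  have : Fact (Nat.Prime 2) := ⟨Nat.prime_two⟩
  obtain ⟨g, hg⟩ := hf
  have hM : H91.M (groupFusionSystem u.range) (X.map u) fun x => g * x * g⁻¹ :=
    H91.M_group_iff.2 ⟨Subgroup.map_le_range u X, by
      rintro _ ⟨a, ha, rfl⟩
      exact ⟨_, (hg a ha).symm⟩, g, fun _ _ => rfl⟩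
  obtain ⟨g', e⟩ := H91.alperin_induction (Ext.two_range u) h.sat.sat
    (C := fun F => ∃ g' : G', ∀ a ∈ X, ∀ b, F (u a) = u b → g' * u' a * g'⁻¹ = u' b)
    (fun F hF => ⟨1, fun a ha b e => by
      rw [hF _ ⟨a, ha, rfl⟩] at e
      rw [h.sat.inj e]; group⟩)
    (fun F F' R α _ ⟨g', e⟩ hR hα h1 h2 => by
      obtain ⟨A, rfl, hA⟩ : ∃ A : Subgroup (OU K), R = A.map u ∧ ∀ f, Fa u A f → In u' A f := by
        rcases hR with rfl | hR
        · exact ⟨⊤, MonoidHom.range_eq_map u, fun _ => Uniq.top h h' hφ⟩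
        · rcases h.sat.ess hR with ⟨rfl, -⟩ | ⟨rfl, -⟩
          · exact ⟨sQ, rfl, fun _ => Uniq.onQ h h' hφ⟩
          · exact ⟨sT, rfl, fun _ => Uniq.onT h h' hφ⟩
      obtain ⟨x, hx, rfl⟩ := (SR3.fus_mem_aut (Subgroup.map_le_range u A)).1 hα
      obtain ⟨φ, hφ', eφ⟩ := Fa.of_nm h.sat.inj hx
      obtain ⟨x', ex⟩ := hA φ hφ'
      refine ⟨x' * g', fun a ha b eb => ?_⟩
      have m := h1 _ ⟨a, ha, rfl⟩
      rw [h2 _ ⟨a, ha, rfl⟩, H91.efn_cjAut _ _ _ m] at eb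
      obtain ⟨c, hc, ec⟩ := m
      rw [← ec, eφ c hc] at eb
      rw [← h.sat.inj eb, ← ex c hc, ← e a ha c ec.symm]
      group) hM
  exact ⟨g', fun a ha => e a ha _ (hg a ha)⟩

theorem NF.realBy (h : NF u) (h' : NF u') (hφ : ∀ φ : RingAut K, In u ⊤ (fld φ) ↔ In u' ⊤ (fld φ))
    (ho : ¬ 2 ∣ u'.range.index) : H42.RealBy (groupFusionSystem u.range) G' := by
  have : Fact (Nat.Prime 2) := ⟨Nat.prime_two⟩
  obtain ⟨i, f⟩ := Uniq.fiso h.sat.inj h'.sat.inj fun X f g e =>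
    uniq h h' (fun φ => (hφ φ).1) (X := X) (f := f) ⟨g, e⟩
  have I : H92.FIso _ _ _ _ := ⟨i, f _ _, (Uniq.fiso h'.sat.inj h.sat.inj fun X f g e =>
    uniq h' h (fun φ => (hφ φ).2) (X := X) (f := f) ⟨g, e⟩).2 _ _⟩
  exact (H42.realBy_group ((Ext.two_range u').toSylow ho)).of_fIso I

end Cfsg.Agent.RFS
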