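import Cfsg.Agent.RFS.C2
import Cfsg.Agent.RFS.Sh

/-! Project RFS: subgroups of `Q X₈`.  See `notes/RFS.md`. -/

set_option autoImplicit false
set_option linter.unusedSectionVars false
set_option linter.unusedSimpArgs false
set_option linter.unusedTactic false
set_option linter.unreachableTactic false
set_option linter.unnecessarySeqFocus false

namespace Cfsg.Agent.RFS

open OCT OCT.OU Sh
open scoped commutatorElement

variable {K : Type*} [Field K] [Tits K] {a b d e : OU K}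

theorem c3_I (ha : a ∈ (sI : Subgroup (OU K))) (hb : b.y8 = 0) : ⁅a, b⁆ ∈ (sZ : Subgroup (OU K)) := by
  rw [mem_sI] at ha
  rw [commutatorElement_def, mem_sZ]
  refine ⟨?_, ?_, ?_, ?_, ?_, ?_, ?_, ?_, ?_, ?_, ?_⟩ <;> simp [ha, hb, CharTwo.add_self_eq_zero] <;> grind

theorem c3_W (ha : a ∈ (sW : Subgroup (OU K))) (hb : b.y8 = 0) : ⁅a, b⁆ ∈ (sI : Subgroup (OU K)) := by
  rw [mem_sW] at ha
  rw [commutatorElement_def, mem_sI]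
  refine ⟨?_, ?_, ?_, ?_, ?_, ?_, ?_, ?_, ?_⟩ <;> simp [ha, hb, CharTwo.add_self_eq_zero] <;> grind

theorem c3_Z6 (ha : a ∈ (sZ6 : Subgroup (OU K))) (hb : b.y8 = 0) : ⁅a, b⁆ ∈ (sW : Subgroup (OU K)) := by
  rw [mem_sZ6] at ha
  rw [commutatorElement_def, mem_sW]
  refine ⟨?_, ?_, ?_, ?_, ?_, ?_, ?_⟩ <;> simp [ha, hb, CharTwo.add_self_eq_zero] <;> grind

theorem c3_Q (ha : a ∈ (sQ : Subgroup (OU K))) (hb : b.y8 = 0) : ⁅a, b⁆ ∈ (sZ6 : Subgroup (OU K)) := by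
  rw [mem_sQ] at ha
  rw [commutatorElement_def, mem_sZ6]
  refine ⟨?_, ?_, ?_, ?_⟩ <;> simp [ha, hb, CharTwo.add_self_eq_zero] <;> grind

theorem c3_J (ha : a ∈ (sJ : Subgroup (OU K))) (hb : b.y8 = 0) : ⁅a, b⁆ ∈ (sY : Subgroup (OU K)) := by
  rw [mem_sJ] at ha
  rw [commutatorElement_def, mem_sY]
  refine ⟨?_, ?_, ?_, ?_, ?_, ?_, ?_, ?_, ?_, ?_⟩ <;> simp [ha, hb, CharTwo.add_self_eq_zero] <;> grind

/-- elements of `W` whose commutator with `e` is central -/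
theorem c3_WZ (hd : d ∈ (sW : Subgroup (OU K))) (h0 : e.y8 = 0) (h8 : e.x8 ≠ 0)
    (h : ⁅d, e⁆ ∈ (sZ : Subgroup (OU K))) : d ∈ (sI : Subgroup (OU K)) := by
  obtain ⟨z, hz, q⟩ := comm_iff.1 h
  rw [mem_sZ] at hz
  rw [mem_sW] at hd
  have e5 := congrArg OU.x5 q
  simp [hz, hd, h0, h8, add_comm] at e5
  have e6 := congrArg OU.x6 q
  simp [hz, hd, h0, h8, e5, add_comm] at e6
  simp [hd, e5, e6]

theorem c3_inv (hdd : d * d = 1) (h0 : e.y8 = 0) (h1 : e.x1 ≠ 0) (h8 : e.x8 ≠ 0)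
    (h : ⁅d, e⁆ ∈ (sW : Subgroup (OU K))) : d ∈ (sZ5 : Subgroup (OU K)) := by
  obtain ⟨z, hz, q⟩ := comm_iff.1 h
  rw [mem_sW] at hz
  have k0 := inv_y8 hdd
  have e4 := congrArg OU.y4 q
  simp only [mul_y4, hz, h0, k0] at e4
  have e4' : d.x8 * σ e.x1 = e.x8 * σ d.x1 := by grind
  have k1 : d.x1 = 0 := by
    by_contra k
    rw [inv_x8 hdd k] at e4'
    simp [h8, k] at e4'
  have k8 : d.x8 = 0 := by simpa [k1, h1] using e4'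
  exact (inv_Z6 hdd k1 k8).1

theorem c3_inv' (hd : d ∈ (sZ5 : Subgroup (OU K))) (h0 : e.y8 = 0) (h1 : e.x1 ≠ 0)
    (h : ⁅d, e⁆ ∈ (sI : Subgroup (OU K))) : d ∈ (sW : Subgroup (OU K)) := by
  obtain ⟨z, hz, q⟩ := comm_iff.1 h
  rw [mem_sI] at hz
  rw [mem_sZ5] at hd
  have e3 := congrArg OU.x3 q
  simp [hz, hd, h0, h1, add_comm] at e3
  simp [hd, e3]

theorem c3_QW (hd : d ∈ (sQ : Subgroup (OU K))) (h0 : e.y8 = 0) (h8 : e.x8 ≠ 0)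
    (h : ⁅d, e⁆ ∈ (sW : Subgroup (OU K))) : d ∈ (sZ6 : Subgroup (OU K)) := by
  obtain ⟨z, hz, q⟩ := comm_iff.1 h
  rw [mem_sW] at hz
  rw [mem_sQ] at hd
  have e6 := congrArg OU.y6 q
  simp [hz, hd, h0, h8, add_comm] at e6
  have e7 := congrArg OU.x7 q
  simp [hz, hd, h0, h8, e6, add_comm] at e7
  simp [hd, e6, e7]

/-- the elements of an abelian subgroup whose commutator with `e` lies in `V` -/
def c3S {H : Type*} [Group H] (W V : Subgroup H) (e : H) (hV : V ≤ W) (hW : ∀ a ∈ W, ∀ b ∈ W, a * b = b * a) :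
    Subgroup H where
  carrier := {d | d ∈ W ∧ ⁅d, e⁆ ∈ V}
  one_mem' := ⟨one_mem _, by simp⟩
  mul_mem' := fun {a b} ha hb => ⟨mul_mem ha.1 hb.1, by
    have e1 : ⁅a * b, e⁆ = a * ⁅b, e⁆ * a⁻¹ * ⁅a, e⁆ := by simp only [commutatorElement_def]; group
    rw [e1, hW a ha.1 _ (hV hb.2), mul_inv_cancel_right]
    exact mul_mem hb.2 ha.2⟩
  inv_mem' := fun {a} ha => ⟨inv_mem ha.1, by
    have e1 : ⁅a⁻¹, e⁆ = a⁻¹ * (⁅a, e⁆⁻¹ * a) := by simp only [commutatorElement_def]; group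
    rw [e1, hW _ (inv_mem (hV ha.2)) a ha.1, inv_mul_cancel_left]
    exact inv_mem ha.2⟩

variable [Finite K] {E : Subgroup (OU K)}

theorem c3_chW (h : ES ⊤ E) (h8 : ∀ e ∈ E, e.y8 = 0) (he : e ∈ E) (k1 : e.x1 ≠ 0) (k8 : e.x8 ≠ 0) :
    Ch E sW := by
  have k0 := h8 e he
  have hVW : Om E ≤ sW := c1W h fun hT => k1 (hT he)
  have hZV : sZ ≤ Om E := fun z hz =>
    ⟨h.cen z trivial fun b _ => m_Z hz b, sq_W (I_W (Y_I (Z_Y hz))), fun b _ => m_Z hz b⟩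
  have hVY : ∀ v ∈ Om E, v ∈ (sY : Subgroup (OU K)) → v ∈ (sZ : Subgroup (OU K)) := by
    intro v hv hy
    rw [mem_sY] at hy
    have e4 := congrArg OU.x4 (hv.2.2 e he)
    simp [hy, k1, add_comm] at e4
    simp [hy, e4]
  have hVI : Om E ≤ sI := fun v hv =>
    c3_WZ (hVW hv) k0 k8 (by rw [commutatorElement_eq_one_iff_mul_comm.2 (hv.2.2 e he)]; exact one_mem _)
  have hI : sI ≤ E := fun x hx => ch1 h trivial Ch.om (fun b hb => hZV (c3_I hx (h8 b hb)))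
    fun b hb => m_IA hx (I_A (hVI hb))
  have cN : Ch E (N2 E E (Om E)) := Ch.n2 Ch.top Ch.top Ch.om
  have hIN : sI ≤ N2 E E (Om E) := fun x hx =>
    mem_N2 (hI hx) (sq_W (I_W hx)) fun b hb => hZV (c3_I hx (h8 b hb))
  have hNS : N2 E E (Om E) ≤ c3S sW (Om E) e hVW fun _ ha _ hb => m_WW ha hb := N2_le fun a _ haa hc =>
    ⟨c3_inv' (c3_inv haa k0 k1 k8 (hVW (hc e he))) k0 k1 (hVI (hc e he)), hc e he⟩
  have hNJ : ∀ a ∈ N2 E E (Om E), a ∈ (sJ : Subgroup (OU K)) → a ∈ (sI : Subgroup (OU K)) := fun a ha hj =>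
    c3_WZ (J_W hj) k0 k8 (hVY _ (hNS ha).2 (c3_J hj k0))
  have hW : sW ≤ E := fun x hx => ch1 h trivial cN (fun b hb => hIN (c3_W hx (h8 b hb)))
    fun b hb => m_WW hx (hNS hb).1
  have e1 : N2 E E (N2 E E (Om E)) = sW := by
    refine le_antisymm (N2_le fun a _ haa hc => ?_)
      fun x hx => mem_N2 (hW hx) (sq_W hx) fun b hb => hIN (c3_W hx (h8 b hb))
    have h5 := c3_inv haa k0 k1 k8 (hNS (hc e he)).1
    exact c3_inv' h5 k0 k1 (hNJ _ (hc e he) (c_Z5 h5 e))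
  exact e1 ▸ Ch.n2 Ch.top Ch.top cN

omit [Finite K] in
theorem c3_Z5 : N2 (sZ6 : Subgroup (OU K)) sZ6 sZ6 = sZ5 := by
  refine le_antisymm (N2_le fun a ha haa _ => (inv_Z6 haa ha.1 ha.2.2.2).1) fun a ha => ?_
  have hw : a * X7 a.x7 ∈ (sW : Subgroup (OU K)) := by
    rw [mem_sZ5] at ha
    simp [ha, CharTwo.add_self_eq_zero]
  have h7 : X7 a.x7 ∈ (sJ7 : Subgroup (OU K)) := by simp
  have e1 : a = a * X7 a.x7 * X7 a.x7 := by rw [mul_assoc, sq_J7 h7, mul_one]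
  rw [e1]
  exact mul_mem (mem_N2 (Z5_Z6 (W_Z5 hw)) (sq_W hw) fun b hb => cm_self (Z5_Z6 (W_Z5 hw)) hb)
    (mem_N2 (Z5_Z6 (J7_Z5 h7)) (sq_J7 h7) fun b hb => cm_self (Z5_Z6 (J7_Z5 h7)) hb)

theorem c3 (h : ES ⊤ E) (h8 : ∀ e ∈ E, e.y8 = 0) (hT : ¬ E ≤ sT) (hQ : ¬ E ≤ sQ) : False := by
  obtain ⟨e, he, k1, k8⟩ : ∃ e ∈ E, e.x1 ≠ 0 ∧ e.x8 ≠ 0 := by
    obtain ⟨a, ha, ha'⟩ := SetLike.not_le_iff_exists.1 hT
    obtain ⟨b, hb, hb'⟩ := SetLike.not_le_iff_exists.1 hQ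
    rw [mem_sT] at ha'
    have hb8 : b.x8 ≠ 0 := fun q => hb' ⟨h8 b hb, q⟩
    by_cases q : a.x8 = 0
    · by_cases q' : b.x1 = 0
      · exact ⟨a * b, mul_mem ha hb, by simpa [q'] using ha', by simpa [q, h8 a ha] using hb8⟩
      · exact ⟨b, hb, q', hb8⟩
    · exact ⟨a, ha, ha', q⟩
  have k0 := h8 e he
  have cW := c3_chW h h8 he k1 k8
  obtain ⟨-, -, cZ⟩ := of_W h le_top cW
  have cEQ : Ch E (E ⊓ sQ) := Ch.cz Ch.top cW cZ fun a => ⟨fun ha => ⟨ha.1, fun b hb => sw (c_WQ hb ha.2)⟩,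
    fun ha => ⟨ha.1, h8 a ha.1, by
      obtain ⟨z, hz, q⟩ := comm_iff.1 (ha.2 (X2 1) (by simp))
      rw [mem_sZ] at hz
      have e5 := congrArg OU.x5 q
      simpa [hz, h8 a ha.1] using e5⟩⟩
  have hZ6 : sZ6 ≤ E := fun x hx => ch2 h trivial cW cZ (fun b hb => c3_Z6 hx (h8 b hb))
    (fun b hb => sw (c_WQ hb (D_Q (Z6_D hx)))) fun b hb => (m_Z hb x).symm
  have hQE : sQ ≤ E := fun x hx => ch3 h trivial cEQ cW cZ
    (fun b hb => ⟨hZ6 (c3_Q hx (h8 b hb)), D_Q (Z6_D (c3_Q hx (h8 b hb)))⟩)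
    (fun b hb => c_QQ hx hb.2) (fun b hb => sw (c_WQ hb hx)) fun b hb => (m_Z hb x).symm
  have cQ : Ch E sQ := inf_eq_right.2 hQE ▸ cEQ
  have cZ6 : Ch E sZ6 := Ch.cz cQ Ch.top cW fun a =>
    ⟨fun ha => ⟨D_Q (Z6_D ha), fun b hb => c3_Z6 ha (h8 b hb)⟩, fun ha => c3_QW ha.1 k0 k8 (ha.2 e he)⟩
  have cZ5 : Ch E sZ5 := c3_Z5 (K := K) ▸ Ch.n2 cZ6 cZ6 cZ6
  have cJ : Ch E sJ := Ch.cz cW cZ5 Ch.bot fun a => ⟨fun ha => ⟨J_W ha, fun b hb => comm_bot'.2 (m_JZ5 ha hb)⟩,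
    fun ⟨ha, hc⟩ => by
      rw [mem_sW] at ha
      have e4 := congrArg OU.x4 (comm_bot'.1 (hc (X7 1) (by simp)))
      simp [ha] at e4
      simp [ha, e4]⟩
  have cI : Ch E sI := Ch.cz cW Ch.top cZ fun a =>
    ⟨fun ha => ⟨I_W ha, fun b hb => c3_I ha (h8 b hb)⟩, fun ha => c3_WZ ha.1 k0 k8 (ha.2 e he)⟩
  have cD : Ch E sD := Ch.cz cQ cZ5 cI fun a => ⟨fun ha => ⟨D_Q ha, fun b hb => c_Z7Z5 (D_Z7 ha) hb⟩,
    fun ⟨ha, hc⟩ => by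
      obtain ⟨z, hz, q⟩ := comm_iff.1 (hc (X7 1) (by simp))
      rw [mem_sI] at hz
      rw [mem_sQ] at ha
      have e3 := congrArg OU.x3 q
      simp [hz, ha] at e3
      simp [ha, e3]⟩
  have cY : Ch E sY := Ch.cz cW cD Ch.bot fun a =>
    ⟨fun ha => ⟨I_W (Y_I ha), fun b hb => comm_bot'.2 (m_YT ha (D_T hb))⟩, fun ⟨ha, hc⟩ => by
      rw [mem_sW] at ha
      have e2 := congrArg OU.x4 (comm_bot'.1 (hc (X7 1) (by simp)))
      have e3 := congrArg OU.x4 (comm_bot'.1 (hc (Y6 1) (by simp)))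
      have e5 := congrArg OU.x4 (comm_bot'.1 (hc (Y2 1) (by simp)))
      simp [ha] at e2 e3 e5
      simp [ha, e2, e3, e5]⟩
  have := h8 (Y8 1) (by rw [top5 h cZ cY cI cJ cZ5]; trivial)
  simp at this

end Cfsg.Agent.RFS
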