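import Cfsg.Agent.RFS.C1
import Cfsg.Agent.RFS.Sh

/-! Project RFS: subgroups of `Q`.  See `notes/RFS.md`. -/

set_option autoImplicit false
set_option linter.unusedSectionVars false
set_option linter.unusedSimpArgs false
set_option linter.unusedTactic false
set_option linter.unreachableTactic false
set_option linter.unnecessarySeqFocus false

namespace Cfsg.Agent.RFS

open OCT OCT.OU Sh
open scoped commutatorElement

variable {K : Type*} [Field K] [Tits K] [Finite K] {E : Subgroup (OU K)} {w b d : OU K}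

/-- the commutator form `W × Q → Z` -/
def eqF (w b : OU K) : K := w.x5 * b.y2 + w.x3 * b.y6 + w.x6 * b.x1 + w.x2 * b.x7

theorem eq_cm (hw : w ∈ (sW : Subgroup (OU K))) (hb : b ∈ (sQ : Subgroup (OU K))) : ⁅b, w⁆ = X4 (eqF w b) := by
  have : b * w = X4 (eqF w b) * (w * b) := by
    rw [mem_sW] at hw
    rw [mem_sQ] at hb
    ext <;> simp [hw, hb, eqF, CharTwo.add_self_eq_zero] <;> grind
  rw [commutatorElement_def, this]; group

theorem eq_com (hw : w ∈ (sW : Subgroup (OU K))) (hb : b ∈ (sQ : Subgroup (OU K))) :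
    b * w = w * b ↔ eqF w b = 0 := by
  rw [← commutatorElement_eq_one_iff_mul_comm, eq_cm hw hb]
  exact ⟨fun e => congrArg OU.x4 e, fun e => by rw [e]; rfl⟩

theorem eq_Z (h : ES sQ E) : sZ ≤ Om E := fun z hz =>
  ⟨h.cen z (by simp_all) fun e _ => m_Z hz e, sq_W (I_W (Y_I (Z_Y hz))), fun e _ => m_Z hz e⟩

theorem eq_WQ : (sW : Subgroup (OU K)) ≤ sQ := fun _ h => by simp_all

theorem eq_RQ : (sR : Subgroup (OU K)) ≤ sQ := fun _ h => by simp_all

theorem eq_W (h : ES sQ E) (hV : Om E ≤ sW) : sW ≤ E := fun _ hx =>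
  ch1 h (eq_WQ hx) Ch.om (fun _ hb => eq_Z h (c_WQ hx (h.le hb))) fun _ hb => m_WW hx (hV hb)

theorem eq_om (h : ES sQ E) (hV : Om E ≤ sW) (hw : w ∈ (sW : Subgroup (OU K))) (hc : ∀ e ∈ E, eqF w e = 0) :
    w ∈ Om E := ⟨eq_W h hV hw, sq_W hw, fun e he => ((eq_com hw (h.le he)).2 (hc e he)).symm⟩

theorem eq_om' (h : ES sQ E) (hV : Om E ≤ sW) (hw : w ∈ Om E) (hb : b ∈ E) : eqF w b = 0 :=
  (eq_com (hV hw) (h.le hb)).1 (hw.2.2 b hb).symm

theorem eq_iv (h : ES sQ E) (hV : Om E ≤ sW) (hb : b ∈ (sQ : Subgroup (OU K))) (hn : b ∉ E) : Iv sQ E b :=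
  ⟨hb, fun _ he => nm_of (eq_W h hV (c_QQ hb (h.le he))) he, hn, eq_W h hV (by
    rw [mem_sQ] at hb
    simp [hb, CharTwo.add_self_eq_zero])⟩

/-- the hypothesis of the main step -/
def EqH (E : Subgroup (OU K)) : Prop :=
  Om E ≤ sZ ∨ (sR ≤ E ∧ ∃ w ∈ Om E, ∀ b ∈ (sQ : Subgroup (OU K)), b * w = w * b → b ∈ E)

theorem eq_H5 (h : ES sQ E) (hV : Om E ≤ sW) (hH : EqH E) (h5 : d ∈ (sZ5 : Subgroup (OU K)))
    (hc : ∀ b ∈ E, ⁅d, b⁆ ∈ Om E) : d.x7 = 0 := by
  by_contra h7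
  rw [mem_sZ5] at h5
  rcases hH with hZ | ⟨hR, w, hw, hw'⟩
  · have : X6 (1 : K) ∈ Om E := eq_om h hV (by simp) fun e he => by
      obtain ⟨z, hz, e1⟩ := comm_iff.1 (hZ (hc e he))
      have he' := h.le he
      rw [mem_sQ] at he'
      rw [mem_sZ] at hz
      have e3 := congrArg OU.x3 e1
      simp [h5, he', hz, add_comm, h7] at e3
      simp [eqF, e3]
    simpa using hZ this
  have hw2 := fun b hb e => hw' b hb ((eq_com (hV hw) hb).2 e)
  have k1 : ∀ e ∈ E, e.x1 = 0 := by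
    intro e he
    obtain ⟨z, hz, e1⟩ := comm_iff.1 (hc _ (hR (x := Y4 1) (by simp)))
    have hz' := hV hz
    rw [mem_sW] at hz'
    have e2 := congrArg OU.x2 e1
    have e3 := congrArg OU.x3 e1
    have e5 := congrArg OU.x5 e1
    have e6 := congrArg OU.x6 e1
    simp [h5, hz', add_comm] at e2 e3 e5 e6
    simpa [eqF, e2, e3, e5, ← e6, h7] using eq_om' h hV hz he
  have k5 : w.x5 = 0 := by
    by_contra k
    have m := hw2 (X1 1 * Y2 (w.x6 / w.x5)) (by simp) (by simp [eqF]; field_simp; grind)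
    have := k1 _ m
    simp at this
  have hy : Y2 (1 : K) ∈ E := hw2 _ (by simp) (by simp [eqF, k5])
  obtain ⟨z, hz, e1⟩ := comm_iff.1 (hc _ hy)
  have hz' := hV hz
  rw [mem_sW] at hz'
  have e5 := congrArg OU.x5 e1
  simp [h5, hz', add_comm] at e5
  simpa [eqF, ← e5, h7] using eq_om' h hV hz hy

theorem eq_H1 (h : ES sQ E) (hV : Om E ≤ sW) (hH : EqH E) {a : K} (ha : a ≠ 0)
    (hc : ∀ b ∈ E, ⁅X1 a, b⁆ ∈ Om E) : False := by
  rcases hH with hZ | ⟨hR, w, hw, hw'⟩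
  · have : X2 (1 : K) ∈ Om E := eq_om h hV (by simp) fun e he => by
      obtain ⟨z, hz, e1⟩ := comm_iff.1 (hZ (hc e he))
      have he' := h.le he
      rw [mem_sQ] at he'
      rw [mem_sZ] at hz
      have e5 := congrArg OU.x5 e1
      simp [he', hz, add_comm, ha] at e5
      simp [eqF, e5]
    simpa using hZ this
  have hw2 := fun b hb e => hw' b hb ((eq_com (hV hw) hb).2 e)
  have k1 : ∀ e ∈ E, e.x7 = 0 := by
    intro e he
    obtain ⟨z, hz, e1⟩ := comm_iff.1 (hc _ (hR (x := Y4 1) (by simp)))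
    have hz' := hV hz
    rw [mem_sW] at hz'
    have e2 := congrArg OU.x2 e1
    have e3 := congrArg OU.x3 e1
    have e5 := congrArg OU.x5 e1
    have e6 := congrArg OU.x6 e1
    simp [hz', add_comm] at e2 e3 e5 e6
    have e2' : z.x2 = a := by grind
    simpa [eqF, e2', ← e3, ← e5, ← e6, ha] using eq_om' h hV hz he
  have k3 : w.x3 = 0 := by
    by_contra k
    have m := hw2 (Y6 (w.x2 / w.x3) * X7 1) (by simp) (by simp [eqF]; field_simp; grind)
    have := k1 _ m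
    simp at this
  have hy : Y6 (1 : K) ∈ E := hw2 _ (by simp) (by simp [eqF, k3])
  obtain ⟨z, hz, e1⟩ := comm_iff.1 (hc _ hy)
  have hz' := hV hz
  rw [mem_sW] at hz'
  have e3 := congrArg OU.x3 e1
  simp [hz', add_comm] at e3
  have e3' : z.x3 = a := by grind
  simpa [eqF, e3', ha] using eq_om' h hV hz hy

theorem eq_nQ (s : OU K) (hb : b ∈ (sQ : Subgroup (OU K))) : s * b * s⁻¹ ∈ (sQ : Subgroup (OU K)) := by
  rw [mem_sQ] at hb
  simp [hb, CharTwo.add_self_eq_zero]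
  grind

theorem eq_H (h : ES sQ E) (hV : Om E ≤ sW) (hH : EqH E) : E = sQ := by
  have e : N2 E E (Om E) = sW := by
    refine le_antisymm (N2_le fun d hd hdd hc => ?_) fun a ha =>
      mem_N2 (eq_W h hV ha) (sq_W ha) fun b hb => eq_Z h (c_WQ ha (h.le hb))
    by_cases h1 : d.x1 = 0
    · obtain ⟨h5, -⟩ := inv_Z6 hdd h1 (h.le hd).2
      have := eq_H5 h hV hH h5 hc
      simp_all
    exfalso
    obtain ⟨s, hs⟩ := inv_x1 hdd h1
    obtain ⟨E', k1, k2, k3, k4, h'⟩ := h.conj s (fun a ha => eq_nQ s ha) fun a ha => by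
      simpa only [inv_inv] using eq_nQ s⁻¹ ha
    have back : ∀ {B : Subgroup (OU K)}, (∀ a ∈ B, ⁅a, s⁆ ∈ B) → Om E ≤ B → Om E' ≤ B := by
      intro B hB hle v hv
      have := nm_of (sw (hB _ (hle (k4 v hv)))) (hle (k4 v hv))
      rwa [show s * (s⁻¹ * v * s) * s⁻¹ = v by group] at this
    refine eq_H1 h' (back (fun a ha => c_R (W_R ha) s) hV) ?_ h1 fun b hb => ?_
    · rcases hH with hZ | ⟨hR, w, hw, hw'⟩
      · exact Or.inl (back (fun a ha => c_Y (Z_Y ha) s) hZ)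
      · refine Or.inr ⟨fun a ha => (k1 a).2 (hR ?_), _, k3 w hw, fun b hb e => (k1 b).2 (hw' _ ?_ ?_)⟩
        · simpa only [inv_inv] using nm_of (sw (W_R (c_R ha s⁻¹))) ha
        · simpa only [inv_inv] using eq_nQ s⁻¹ hb
        · calc _ = s⁻¹ * (b * (s * w * s⁻¹)) * s := by group
            _ = _ := by rw [e]; group
    · have := k3 _ (hc _ ((k1 b).1 hb))
      rwa [conjugate_commutatorElement, hs, show s * (s⁻¹ * b * s) * s⁻¹ = b by group] at this
  have cW : Ch E sW := e ▸ Ch.n2 Ch.top Ch.top Ch.om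
  obtain ⟨-, -, cZ⟩ := of_W h eq_RQ cW
  exact le_antisymm h.le fun x hx => ch2 h hx cW cZ (fun b hb => c_QQ hx (h.le hb))
    (fun b hb => sw (c_WQ hb hx)) fun b hb => (m_Z hb _).symm

theorem eqQ (h : ES sQ E) (hV : Om E ≤ sW) : E = sQ := by
  by_cases hZ : Om E ≤ sZ
  · exact eq_H h hV (Or.inl hZ)
  have nc : ∀ b ∈ (sQ : Subgroup (OU K)), b ∉ E → ∃ v ∈ Om E, eqF v b ≠ 0 := by
    intro b hb hn
    by_contra hc
    push Not at hc
    refine hZ fun v hv => ?_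
    have k : ∀ y ∈ (sQ : Subgroup (OU K)), eqF v y = 0 := fun y hy => by
      by_cases hy' : y ∈ E
      · exact eq_om' h hV hv hy'
      · exact (eq_com (hV hv) hy).1 (h.l1 (eq_iv h hV hb hn) (eq_iv h hV hy hy')
          (fun u hu => (eq_com (hV hu) hb).2 (hc u hu)) v hv)
    have k1 := k (X1 1) (by simp)
    have k2 := k (Y2 1) (by simp)
    have k3 := k (Y6 1) (by simp)
    have k4 := k (X7 1) (by simp)
    have := hV hv
    simp [eqF] at k1 k2 k3 k4
    simp_all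
  have hR : sR ≤ E := fun b hb => by
    by_contra hn
    obtain ⟨v, hv, e⟩ := nc b (eq_RQ hb) hn
    exact e ((eq_com (hV hv) (eq_RQ hb)).1 (m_WR (hV hv) hb).symm)
  by_contra hne
  refine h.off' sQ (fun b hb hn => eq_iv h hV hb hn) (fun e => hne (le_antisymm h.le e)) sZ (fun e => ?_)
    (fun b hb _ v hv => sw (c_WQ (hV hv) hb)) (fun b hb hn z hz => ?_) fun w hw => ?_
  · have : X4 (1 : K) ∈ (sZ : Subgroup (OU K)) := by simp
    rw [e, Subgroup.mem_bot] at this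
    exact one_ne_zero (congrArg OU.x4 this)
  · obtain ⟨v, hv, e⟩ := nc b hb hn
    obtain ⟨t, ht⟩ : ∃ t, t * eqF v b = z.x4 := ⟨z.x4 / eqF v b, div_mul_cancel₀ _ e⟩
    have m : (⟨0, 0, t * v.x2, t * v.x3, 0, 0, t * v.x5, 0, t * v.x6, 0, 0, 0⟩ : OU K) ∈ (sW : Subgroup (OU K)) := by
      simp
    have f : ∀ y, eqF (⟨0, 0, t * v.x2, t * v.x3, 0, 0, t * v.x5, 0, t * v.x6, 0, 0, 0⟩ : OU K) y = t * eqF v y :=
      fun y => by simp only [eqF]; ring
    refine ⟨_, eq_om h hV m fun y hy => by rw [f, eq_om' h hV hv hy, mul_zero], ?_⟩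
    rw [eq_cm m hb, f, ht]
    rw [mem_sZ] at hz
    ext <;> simp [hz]
  · by_contra hc
    push Not at hc
    exact hne (eq_H h hV (Or.inr ⟨hR, w, hw, fun b hb e => by_contra fun hn => hc b hb hn e⟩))

end Cfsg.Agent.RFS
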