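import Cfsg.Agent.RFS.ET1

/-! Project RFS: subgroups of `T`.  See `notes/RFS.md`. -/

set_option autoImplicit false
set_option linter.unusedSectionVars false
set_option linter.unusedSimpArgs false

namespace Cfsg.Agent.RFS

open OCT OCT.OU
open scoped commutatorElement

variable {K : Type*} [Field K] [Tits K] [Finite K] {E : Subgroup (OU K)}

namespace ET2

theorem csym {H : Type*} [Group H] {B : Subgroup H} {a b : H} (h : ⁅a, b⁆ ∈ B) : ⁅b, a⁆ ∈ B := by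
  rw [← commutatorElement_inv]; exact inv_mem h

theorem Y_le_T : (sY : Subgroup (OU K)) ≤ sT := fun _ h => h.1
theorem A_le_T : (sA : Subgroup (OU K)) ≤ sT := fun _ h => h.1
theorem Z_le_Y : (sZ : Subgroup (OU K)) ≤ sY := fun a h => by
  rw [mem_sZ] at h; rw [mem_sY]; simp [h]
theorem I_le_J7 : (sI : Subgroup (OU K)) ≤ sJ7 := fun a h => by
  rw [mem_sI] at h; rw [mem_sJ7]; simp [h]
theorem I_le_J : (sI : Subgroup (OU K)) ≤ sJ := fun a h => by
  rw [mem_sI] at h; rw [mem_sJ]; simp [h]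
theorem J_le_J7 : (sJ : Subgroup (OU K)) ≤ sJ7 := fun a h => by
  rw [mem_sJ] at h; rw [mem_sJ7]; simp [h]
theorem J_le_Z5 : (sJ : Subgroup (OU K)) ≤ sZ5 := fun a h => by
  rw [mem_sJ] at h; rw [mem_sZ5]; simp [h]
theorem J7_le_Z5 : (sJ7 : Subgroup (OU K)) ≤ sZ5 := fun a h => by
  rw [mem_sJ7] at h; rw [mem_sZ5]; simp [h]
theorem W_le_Z5 : (sW : Subgroup (OU K)) ≤ sZ5 := fun a h => by
  rw [mem_sW] at h; rw [mem_sZ5]; simp [h]
theorem J7_le_A : (sJ7 : Subgroup (OU K)) ≤ sA := fun a h => by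
  rw [mem_sJ7] at h; rw [mem_sA]; simp [h]

theorem sq_J7 {a : OU K} (h : a ∈ (sJ7 : Subgroup (OU K))) : a * a = 1 := by
  rw [mem_sJ7] at h
  ext <;> simp [h, CharTwo.add_self_eq_zero]

theorem cYT {x b : OU K} (hx : x ∈ (sT : Subgroup (OU K))) (hb : b ∈ (sY : Subgroup (OU K))) :
    ⁅x, b⁆ ∈ (⊥ : Subgroup (OU K)) := comm_bot'.2 (m_YT hb hx).symm

theorem omY (h : ES sT E) : Om E = sY := by
  refine le_antisymm (fun v hv => ?_) fun y hy => ?_
  · obtain ⟨e, he, hA⟩ := SetLike.not_le_iff_exists.1 (etA h)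
    have hI := etI h hv
    have h1 : e.x1 = 0 := h.le he
    have hc := hv.2.2 e he
    rw [mem_sI] at hI
    have e4 := congrArg OU.x4 hc
    have e6 := congrArg OU.x6 hc
    simp [hI, h1, add_comm] at e4 e6
    rw [mem_sY]
    rw [mem_sA] at hA
    have : v.x5 = 0 := by
      by_contra h5
      exact hA ⟨h1, by simpa [h5] using e4, by simpa [h5] using e6⟩
    simp [hI, this]
  · exact ⟨h.cen y (Y_le_T hy) fun e he => m_YT hy (h.le he), sq_J7 (by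
      rw [mem_sY] at hy; rw [mem_sJ7]; simp [hy]), fun e he => m_YT hy (h.le he)⟩

theorem chY (h : ES sT E) : Ch E sY := omY h ▸ Ch.om

theorem top (h : ES sT E) (hI : Ch E sI) (hA : sA ≤ E) : E = sT := by
  have cA : Ch E sA := by
    refine Ch.cz Ch.top hI Ch.bot fun a => ⟨fun ha => ⟨hA ha, fun b hb => comm_bot'.2 (m_IA hb ha).symm⟩,
      fun ⟨ha, hc⟩ => ?_⟩
    have h1 : a.x1 = 0 := h.le ha
    have hc := comm_bot'.1 (hc (X5 1) (by simp))
    have e4 := congrArg OU.x4 hc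
    have e6 := congrArg OU.x6 hc
    simp [h1] at e4 e6
    exact ⟨h1, e4, e6⟩
  have cJ : Ch E sJ7 := by
    refine Ch.cz cA cA (chY h) fun a => ⟨fun ha => ⟨J7_le_A ha, fun b hb => c_J7A ha hb⟩,
      fun ⟨ha, hc⟩ => ?_⟩
    rw [mem_sA] at ha
    have key : ∀ b ∈ (sA : Subgroup (OU K)), a.y6 * b.y4 + a.x8 * b.x2 = b.y6 * a.y4 + b.x8 * a.x2 := by
      intro b hb
      obtain ⟨z, hz, e⟩ := comm_iff.1 (hc b hb)
      rw [mem_sY] at hz
      rw [mem_sA] at hb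
      have e5 := congrArg OU.x5 e
      simp [ha, hb, hz] at e5
      linear_combination e5
    have k1 := key (Y4 1) (by simp)
    have k2 := key (Y6 1) (by simp)
    have k3 := key (X2 1) (by simp)
    have k4 := key (X8 1) (by simp)
    simp at k1 k2 k3 k4
    exact ⟨ha.1, ha.2.1, k4.symm, k2.symm, k1, ha.2.2, k3⟩
  refine le_antisymm h.le fun x hx => h.chain hx ?_
  exact .step cA (fun b hb => c_TT hx (h.le hb)) (.step cJ (fun b hb => csym (c_AT hb hx))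
    (.step hI (fun b hb => csym (c_J7T hb hx)) (.step (chY h) (fun b hb => csym (c_I hb x))
      (.step Ch.bot (fun b hb => cYT hx hb) .bot))))

/-- the coordinates `x3`, `x7` of a commutator `[A, T]` -/
theorem co37 {d e : OU K} (hd : d ∈ (sA : Subgroup (OU K))) (he : e.x1 = 0)
    (hc : ⁅d, e⁆ ∈ (sI : Subgroup (OU K))) :
    d.y4 * e.y2 = e.y8 * d.x2 ∧ d.x8 * e.y2 = e.y8 * d.y6 := by
  obtain ⟨z, hz, e⟩ := comm_iff.1 hc
  rw [mem_sI] at hz
  rw [mem_sA] at hd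
  have e3 := congrArg OU.x3 e
  have e7 := congrArg OU.x7 e
  simp [hd, he, hz] at e3 e7
  exact ⟨by linear_combination e3, by linear_combination e7⟩

theorem co7 {d e : OU K} (hd : d ∈ (sA : Subgroup (OU K))) (he : e.x1 = 0)
    (hc : ⁅d, e⁆ ∈ (sJ : Subgroup (OU K))) : d.x8 * e.y2 = e.y8 * d.y6 := by
  obtain ⟨z, hz, e⟩ := comm_iff.1 hc
  rw [mem_sJ] at hz
  rw [mem_sA] at hd
  have e7 := congrArg OU.x7 e
  simp [hd, he, hz] at e7
  linear_combination e7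

theorem co5 {d e : OU K} (hd : d ∈ (sJ7 : Subgroup (OU K))) (he : e.x1 = 0)
    (hc : ⁅d, e⁆ ∈ (sY : Subgroup (OU K))) : d.x7 * σ e.y2 = σ e.y8 * d.x3 := by
  obtain ⟨z, hz, e⟩ := comm_iff.1 hc
  rw [mem_sY] at hz
  rw [mem_sJ7] at hd
  have e5 := congrArg OU.x5 e
  simp [hd, he, hz] at e5
  linear_combination e5

theorem co5' {d e : OU K} (hd : d ∈ (sZ5 : Subgroup (OU K))) (he : e.x1 = 0) (he8 : e.y8 = 0)
    (hc : ⁅d, e⁆ ∈ (sY : Subgroup (OU K))) : d.x7 * σ e.y2 = e.x8 * d.x2 := by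
  obtain ⟨z, hz, e⟩ := comm_iff.1 hc
  rw [mem_sY] at hz
  rw [mem_sZ5] at hd
  have e5 := congrArg OU.x5 e
  simp [hd, he, hz, he8] at e5
  linear_combination e5

theorem sol {a b p q r s : K} (hd : p * s ≠ r * q) (h1 : a * p = q * b) (h2 : a * r = s * b) :
    a = 0 ∧ b = 0 := by
  have hd' : p * s - r * q ≠ 0 := sub_ne_zero.2 hd
  refine ⟨(mul_eq_zero.1 (?_ : a * (p * s - r * q) = 0)).resolve_right hd',
    (mul_eq_zero.1 (?_ : b * (p * s - r * q) = 0)).resolve_right hd'⟩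
  · linear_combination s * h1 - q * h2
  · linear_combination r * h1 - p * h2

theorem Y_le_I : (sY : Subgroup (OU K)) ≤ sI := fun a h => by
  rw [mem_sY] at h; rw [mem_sI]; simp [h]

theorem case1 (h : ES sT E) {e₁ e₂ : OU K} (h1 : e₁ ∈ E) (h2 : e₂ ∈ E)
    (hd : e₁.y2 * e₂.y8 ≠ e₂.y2 * e₁.y8) : E = sT := by
  have hJ := (etJ h).2
  have k7 : ∀ d ∈ E, d * d = 1 → (∀ b ∈ E, ⁅d, b⁆ ∈ (sI : Subgroup (OU K))) →
      d ∈ (sJ7 : Subgroup (OU K)) := by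
    intro d hd' hdd hc
    have hA := inv_A hdd (h.le hd')
    obtain ⟨a1, a2⟩ := co37 hA (h.le h1) (hc _ h1)
    obtain ⟨b1, b2⟩ := co37 hA (h.le h2) (hc _ h2)
    obtain ⟨c1, c2⟩ := sol hd a1 b1
    obtain ⟨c3, c4⟩ := sol hd a2 b2
    exact ⟨hA.1, hA.2.1, c2, c1, c4, hA.2.2, c3⟩
  have eI : N2 E E sY = sI := by
    refine le_antisymm (N2_le fun d hd' hdd hc => ?_) fun a ha =>
      mem_N2 (hJ (I_le_J7 ha)) (sq_J7 (I_le_J7 ha)) fun b _ => c_I ha b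
    have h7 := k7 d hd' hdd fun b hb => Y_le_I (hc b hb)
    have hd2 : σ e₁.y2 * σ e₂.y8 ≠ σ e₂.y2 * σ e₁.y8 := by
      rw [← map_mul, ← map_mul]; exact fun e => hd (σ_inj.1 e)
    obtain ⟨c1, c2⟩ := sol hd2 (co5 h7 (h.le h1) (hc _ h1)) (co5 h7 (h.le h2) (hc _ h2))
    rw [mem_sJ7] at h7
    rw [mem_sI]
    simp [h7, c1, c2]
  have cI : Ch E sI := eI ▸ Ch.n2 Ch.top Ch.top (chY h)
  have e7 : N2 E E sI = sJ7 := le_antisymm (N2_le k7) fun a ha =>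
    mem_N2 (hJ ha) (sq_J7 ha) fun b hb => c_J7T ha (h.le hb)
  have c7 : Ch E sJ7 := e7 ▸ Ch.n2 Ch.top Ch.top cI
  refine top h cI fun x hx => h.chain (A_le_T hx) ?_
  exact .step c7 (fun b hb => c_AT hx (h.le hb)) (.step (chY h) (fun b hb => csym (c_J7A hb hx))
    (.step Ch.bot (fun b hb => cYT (A_le_T hx) hb) .bot))

theorem Z5_le {D : Subgroup (OU K)} (h2 : ∀ t, X2 t ∈ D) (h7 : sJ7 ≤ D) : sZ5 ≤ D := by
  intro a ha
  have : a = X2 a.x2 * ((X2 a.x2)⁻¹ * a) := by group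
  rw [this]
  refine mul_mem (h2 _) (h7 ?_)
  rw [mem_sZ5] at ha
  rw [mem_sJ7]
  simp [ha, CharTwo.add_self_eq_zero]

theorem sq_X2 (t : K) : (X2 t : OU K) * X2 t = 1 := by
  ext <;> simp [CharTwo.add_self_eq_zero]

theorem sq_X8 (t : K) : (X8 t : OU K) * X8 t = 1 := by
  ext <;> simp [CharTwo.add_self_eq_zero]

theorem cin {H : Type*} [Group H] {B : Subgroup H} {a b : H} (ha : a ∈ B) (hb : b ∈ B) : ⁅a, b⁆ ∈ B := by
  rw [commutatorElement_def]
  exact mul_mem (mul_mem (mul_mem ha hb) (inv_mem ha)) (inv_mem hb)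

theorem case2a (h : ES sT E) (hy : ∀ e ∈ E, e.y8 = 0) (hx : ∀ e ∈ E, e.x8 = 0) : False := by
  have hJ := (etJ h).2
  have hW : sW ≤ E := fun w hw => h.chain (hw.1 : w.x1 = 0)
    (.step (chY h) (fun b hb => Z_le_Y (c_WQ hw ⟨hy b hb, hx b hb⟩))
      (.step Ch.bot (fun b hb => cYT (hw.1 : w.x1 = 0) hb) .bot))
  have e5 : N2 E E E = sZ5 := by
    refine le_antisymm (N2_le fun d hd hdd _ => (inv_Z6 hdd (h.le hd) (hx d hd)).1) (Z5_le (fun t => ?_) ?_)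
    · have : (X2 t : OU K) ∈ E := hW (by simp)
      exact mem_N2 this (sq_X2 t) fun b hb => cin this hb
    · exact fun a ha => mem_N2 (hJ ha) (sq_J7 ha) fun b hb => cin (hJ ha) hb
  have c5 : Ch E sZ5 := e5 ▸ Ch.n2 Ch.top Ch.top Ch.top
  have cJ : Ch E sJ := by
    refine Ch.cz c5 c5 Ch.bot fun a => ⟨fun ha => ⟨J_le_Z5 ha, fun b hb => comm_bot'.2 (m_JZ5 ha hb)⟩,
      fun ⟨ha, hc⟩ => ?_⟩
    have k2 := congrArg OU.x4 (comm_bot'.1 (hc (X2 1) (by simp)))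
    have k7 := congrArg OU.x4 (comm_bot'.1 (hc (X7 1) (by simp)))
    rw [mem_sZ5] at ha
    simp [ha] at k2 k7
    rw [mem_sJ]
    simp [ha, k2, k7]
  have h8 : (X8 1 : OU K) ∈ E := by
    refine h.chain (by simp) (.step c5 (fun b hb => ?_) (.step cJ (fun b hb => csym (c_Z5 hb _))
      (.step (chY h) (fun b hb => csym (c_J7A (J_le_J7 hb) (by simp)))
        (.step Ch.bot (fun b hb => cYT (by simp) hb) .bot))))
    exact J7_le_Z5 (c_AT (by simp) (h.le hb))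
  simpa using hx _ h8

theorem case2b (h : ES sT E) (hy : ∀ e ∈ E, e.y8 = 0) {e : OU K} (he : e ∈ E) (h2 : e.y2 ≠ 0)
    (h8 : e.x8 ≠ 0) : False := by
  have hJ := (etJ h).2
  have k5 : ∀ d ∈ E, d * d = 1 → ⁅d, e⁆ ∈ (sJ : Subgroup (OU K)) →
      d ∈ (sZ5 : Subgroup (OU K)) ∧ d.x7 * d.x2 = 0 := by
    intro d hd hdd hc
    have := co7 (inv_A hdd (h.le hd)) (h.le he) hc
    exact inv_Z6 hdd (h.le hd) (by simpa [hy e he, h2] using this)
  have eJ : N2 E E sY = sJ := by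
    refine le_antisymm (N2_le fun d hd hdd hc => ?_) fun a ha =>
      mem_N2 (hJ (J_le_J7 ha)) (sq_J7 (J_le_J7 ha)) fun b hb => ?_
    · obtain ⟨h5, h72⟩ := k5 d hd hdd (I_le_J (Y_le_I (hc e he)))
      have k := co5' h5 (h.le he) (hy e he) (hc e he)
      have k7 : d.x7 = 0 := by
        rcases mul_eq_zero.1 h72 with k7 | k2
        · exact k7
        · simpa [k2, h2] using k
      have k2 : d.x2 = 0 := by simpa [k7, h8] using k
      rw [mem_sZ5] at h5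
      rw [mem_sJ]
      simp [h5, k7, k2]
    · have hb1 : b.x1 = 0 := h.le hb
      have hb8 := hy b hb
      rw [mem_sJ] at ha
      rw [commutatorElement_def, mem_sY]
      refine ⟨?_, ?_, ?_, ?_, ?_, ?_, ?_, ?_, ?_, ?_⟩ <;>
        simp [ha, hb1, hb8, CharTwo.add_self_eq_zero] <;> grind
  have cJ : Ch E sJ := eJ ▸ Ch.n2 Ch.top Ch.top (chY h)
  have hW : sW ≤ E := fun w hw => h.chain (hw.1 : w.x1 = 0)
    (.step cJ (fun b _ => c_Z5 (W_le_Z5 hw) b)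
      (.step Ch.bot (fun b hb => comm_bot'.2 (m_JZ5 hb (W_le_Z5 hw)).symm) .bot))
  have e5 : N2 E E sJ = sZ5 := by
    refine le_antisymm (N2_le fun d hd hdd hc => (k5 d hd hdd (hc e he)).1) (Z5_le (fun t => ?_) ?_)
    · exact mem_N2 (hW (by simp)) (sq_X2 t) fun b _ => c_Z5 (by simp) b
    · exact fun a ha => mem_N2 (hJ ha) (sq_J7 ha) fun b _ => c_Z5 (J7_le_Z5 ha) b
  have c5 : Ch E sZ5 := e5 ▸ Ch.n2 Ch.top Ch.top cJ
  have hA : sA ≤ E := fun x hx => h.chain (A_le_T hx)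
    (.step c5 (fun b hb => J7_le_Z5 (c_AT hx (h.le hb))) (.step cJ (fun b hb => csym (c_Z5 hb _))
      (.step (chY h) (fun b hb => csym (c_J7A (J_le_J7 hb) hx))
        (.step Ch.bot (fun b hb => cYT (A_le_T hx) hb) .bot))))
  have hO : N2 E E E ≤ sA := N2_le fun d hd hdd _ => inv_A hdd (h.le hd)
  have cI : Ch E sI := by
    refine Ch.cz cJ (Ch.n2 Ch.top Ch.top Ch.top) Ch.bot fun a =>
      ⟨fun ha => ⟨I_le_J ha, fun b hb => comm_bot'.2 (m_IA ha (hO hb))⟩, fun ⟨ha, hc⟩ => ?_⟩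
    have h8' : (X8 1 : OU K) ∈ E := hA (by simp)
    have k := congrArg OU.x6 (comm_bot'.1 (hc (X8 1) (mem_N2 h8' (sq_X8 1) fun b hb => cin h8' hb)))
    rw [mem_sJ] at ha
    simp [ha] at k
    rw [mem_sI]
    simp [ha, k]
  have hT := top h cI hA
  simpa using hy (Y8 1) (by rw [hT]; simp)

theorem case2 (h : ES sT E) (hy : ∀ e ∈ E, e.y8 = 0) : False := by
  obtain ⟨e, he, hA⟩ := SetLike.not_le_iff_exists.1 (etA h)
  have h2 : e.y2 ≠ 0 := fun h2 => hA ⟨h.le he, h2, hy e he⟩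
  by_cases hx : ∀ e ∈ E, e.x8 = 0
  · exact case2a h hy hx
  push Not at hx
  obtain ⟨f, hf, h8⟩ := hx
  by_cases k8 : e.x8 = 0
  · by_cases k2 : f.y2 = 0
    · have f1 : f.x1 = 0 := h.le hf
      exact case2b h hy (mul_mem he hf) (by simpa [k2, f1] using h2) (by simpa [k8, hy e he] using h8)
    · exact case2b h hy hf k2 h8
  · exact case2b h hy he h2 k8

end ET2

open ET2 in
theorem eqT (h : ES sT E) : E = sT := by
  by_cases hd : ∃ e₁ ∈ E, ∃ e₂ ∈ E, e₁.y2 * e₂.y8 ≠ e₂.y2 * e₁.y8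
  · obtain ⟨e₁, h1, e₂, h2, hd⟩ := hd
    exact case1 h h1 h2 hd
  push Not at hd
  exfalso
  by_cases hy : ∀ e ∈ E, e.y8 = 0
  · exact case2 h hy
  push Not at hy
  obtain ⟨e, he, h8⟩ := hy
  obtain ⟨E', hE', -, -, -, h'⟩ := h.conj (X1 (e.y2 / e.y8))
    (fun a ha => by rw [mem_sT] at ha ⊢; simp [ha, CharTwo.add_self_eq_zero])
    (fun a ha => by rw [mem_sT] at ha ⊢; simp [ha, CharTwo.add_self_eq_zero])
  obtain ⟨E'', hE'', -, -, -, h''⟩ := h'.mu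
  refine case2 h'' fun a ha => ?_
  obtain ⟨-, ha⟩ := (hE'' a).1 ha
  have k := hd _ ((hE' _).1 ha) e he
  simp at k
  field_simp at k
  simpa [h8] using k

end Cfsg.Agent.RFS
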