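import Cfsg.Agent.RFS.Ext
import Cfsg.Agent.RFS.C3
import Cfsg.Agent.RFS.EQ
import Cfsg.Agent.RFS.ET2
import Cfsg.Agent.SPQ.Fus
import Cfsg.Agent.H42.FsBasic

/-! Project RFS: the essential subgroups.  See `notes/RFS.md`. -/

set_option autoImplicit false
set_option linter.unusedSectionVars false

namespace Cfsg.Agent.RFS

open OCT OCT.OU
open scoped commutatorElement

namespace Ess

open Subgroup SR3

/-- two involutions generate a dihedral group -/
theorem dih {Q : Type*} [Group Q] [Finite Q] {a b : Q} (ha : a * a = 1) (hb : b * b = 1) :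
    (∃ k, Odd k ∧ (a * b) ^ k = 1) ∨
      ∃ j : ℕ, (a * b) ^ j ≠ 1 ∧ (a * b) ^ j * (a * b) ^ j = 1 ∧
        a * (a * b) ^ j * a⁻¹ = (a * b) ^ j ∧ (a * b) ^ j * b * ((a * b) ^ j)⁻¹ = b := by
  rcases Nat.even_or_odd (orderOf (a * b)) with ⟨j, hj⟩ | h
  swap
  · exact Or.inl ⟨_, h, pow_orderOf_eq_one _⟩
  have h0 := orderOf_pos (a * b)
  have ia : a⁻¹ = a := inv_eq_of_mul_eq_one_right ha
  have ib : b⁻¹ = b := inv_eq_of_mul_eq_one_right hb
  have hz : (a * b) ^ j * (a * b) ^ j = 1 := by rw [← pow_add, ← hj, pow_orderOf_eq_one]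
  have iz : ((a * b) ^ j)⁻¹ = (a * b) ^ j := inv_eq_of_mul_eq_one_right hz
  have e1 : a * (a * b) * a⁻¹ = (a * b)⁻¹ := by
    rw [← mul_assoc, ha, one_mul, mul_inv_rev, ib]
  have e2 : b * (a * b) * b⁻¹ = (a * b)⁻¹ := by
    rw [mul_inv_rev, ia, mul_assoc, mul_inv_cancel_right, ib]
  refine Or.inr ⟨j, pow_ne_one_of_lt_orderOf (by omega) (by omega), hz, ?_, ?_⟩
  · rw [← conj_pow, e1, inv_pow, iz]
  · have : b * (a * b) ^ j * b⁻¹ = (a * b) ^ j := by rw [← conj_pow, e2, inv_pow, iz]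
    rw [mul_inv_eq_iff_eq_mul] at this ⊢
    exact this.symm

variable {G : Type*} [Group G] [Finite G] {N E M : Subgroup G}

theorem se (h : Loc 2 N E) (h1 : N ⊔ ce E ≤ M) (h2 : M ≤ nm E)
    (h3 : ∀ g ∈ nm E, ∀ x ∈ N, x ∉ E → g * x * g⁻¹ ∈ M → g ∈ M) {g x y : G} (hg : g ∈ nm E) (hg' : g ∉ M)
    (hx : x ∈ N) (hx' : x ∉ E) (hxx : x * x ∈ E) (hy : y ∈ N) (hy' : y ∉ E) (hyy : y * y ∈ E) :
    (∃ k, Odd k ∧ (g * x * g⁻¹ * y) ^ k ∈ E ⊔ ce E) ∧ g * x * g⁻¹ * y ∉ E ⊔ ce E := by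
  have : Fact (Nat.Prime 2) := ⟨Nat.prime_two⟩
  have n0 : nm E ≤ nm (E ⊔ ce E) := fun a ha => nm_sup (nm_nm ha |> fun _ => ha) (nm_ce ha)
  have l0 : E ⊔ ce E ≤ M := sup_le ((h.le.trans le_sup_left).trans h1) (le_sup_right.trans h1)
  have lN : N ≤ M := le_sup_left.trans h1
  have hx1 : g * x * g⁻¹ ∉ M := fun e => hg' (h3 g hg x hx hx' e)
  refine ⟨?_, fun e => hx1 (by simpa using mul_mem (l0 e) (inv_mem (lN hy)))⟩
  have nr : ((E ⊔ ce E).subgroupOf (nm E)).Normal := ⟨fun a ha b => mem_subgroupOf.2 (conj_mem (n0 b.2) (mem_subgroupOf.1 ha))⟩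
  obtain ⟨π, hπ⟩ : ∃ π : nm E →* nm E ⧸ (E ⊔ ce E).subgroupOf (nm E), ∀ a, π a = 1 ↔ (a : G) ∈ E ⊔ ce E :=
    ⟨QuotientGroup.mk' _, fun a => QuotientGroup.eq_one_iff a⟩
  obtain ⟨a, ha⟩ : ∃ a : nm E, (a : G) = g * x * g⁻¹ :=
    ⟨⟨_, mul_mem (mul_mem hg (h.norm hx)) (inv_mem hg)⟩, rfl⟩
  obtain ⟨b, hb⟩ : ∃ b : nm E, (b : G) = y := ⟨⟨_, h.norm hy⟩, rfl⟩
  have aa : π a * π a = 1 := by
    rw [← map_mul, hπ, coe_mul, ha, show g * x * g⁻¹ * (g * x * g⁻¹) = g * (x * x) * g⁻¹ by group]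
    exact mem_sup_left (conj_mem hg hxx)
  have bb : π b * π b = 1 := by
    rw [← map_mul, hπ, coe_mul, hb]
    exact mem_sup_left hyy
  have mM : ∀ c d : nm E, π c = π d → (d : G) ∈ M → (c : G) ∈ M := fun c d e hd => by
    have : π (c * d⁻¹) = 1 := by rw [map_mul, map_inv, e, mul_inv_cancel]
    simpa using mul_mem (l0 ((hπ _).1 this)) hd
  rcases dih aa bb with ⟨k, hk, e⟩ | ⟨j, z1, z2, z3, z4⟩
  · rw [← map_mul, ← map_pow, hπ, coe_pow, coe_mul, ha, hb] at e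
    exact ⟨k, hk, e⟩
  exfalso
  rw [← map_mul, ← map_pow] at z1 z2 z3 z4
  generalize (a * b) ^ j = z at z1 z2 z3 z4
  have zM : (z : G) ∈ M := h3 z z.2 y hy hy' (by
    have := mM (z * b * z⁻¹) b (by rw [map_mul, map_mul, map_inv, z4]) (hb ▸ lN hy)
    simpa [hb] using this)
  obtain ⟨m, hm, e⟩ := syl_conj (p := 2) (K := E ⊔ ce E) (P := zpowers (z : G)) h.pg h.norm h.syl le_sup_right n0
    lN h2 (zpowers_le.2 zM) (by
      rintro _ ⟨i, rfl⟩
      refine ⟨1, ?_⟩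
      have : (z : G) * z ∈ E ⊔ ce E := by rw [← coe_mul, ← hπ, map_mul, z2]
      have := zpow_mem this i
      rwa [← sq, ← zpow_natCast, ← zpow_mul, mul_comm, zpow_mul, zpow_natCast, ← pow_one 2] at this)
  have e1 : m * z * m⁻¹ ∈ N ⊔ (E ⊔ ce E) :=
    (sup_le_sup_left inf_le_left N) (e (conj_mem_cj m (mem_zpowers _)))
  obtain ⟨n, hn, c, hc, e2⟩ := (mem_sup_of_nm (h.norm.trans n0)).1 e1
  obtain ⟨m', rfl⟩ : ∃ m' : nm E, (m' : G) = m := ⟨⟨_, h2 hm⟩, rfl⟩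
  obtain ⟨n', rfl⟩ : ∃ n' : nm E, (n' : G) = n := ⟨⟨_, h.norm hn⟩, rfl⟩
  have e3 : π n' = π m' * π z * (π m')⁻¹ := by
    have : π (n'⁻¹ * (m' * z * m'⁻¹)) = 1 := by
      rw [hπ]
      simpa [← e2] using hc
    rw [map_mul, map_inv, inv_mul_eq_one] at this
    rw [this, map_mul, map_mul, map_inv]
  have hn' : (n' : G) ∉ E := fun k => z1 (by
    have := (hπ n').2 (mem_sup_left k)
    rw [e3] at this
    simpa using this)
  have hw := h3 (m' * a * m'⁻¹ : nm E) (m' * a * m'⁻¹).2 n' hn hn' (by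
    have := mM (m' * a * m'⁻¹ * n' * (m' * a * m'⁻¹)⁻¹) n' (by
      simp only [map_mul, map_inv, e3]
      calc _ = π m' * (π a * π z * (π a)⁻¹) * (π m')⁻¹ := by group
        _ = _ := by rw [z3]) (lN hn)
    simpa using this)
  refine hx1 (ha ▸ ?_)
  simpa [mul_assoc] using mul_mem (mul_mem (inv_mem hm) hw) hm

/-- the strongly embedded subgroup of the normalizer of an essential subgroup -/
theorem exists_M {S : Subgroup G} (hS : IsPGroup 2 S) (hF : (groupFusionSystem S).IsSaturated 2)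
    (hE : (groupFusionSystem S).IsEssential 2 E) : ∃ M : Subgroup G, (S ⊓ nm E) ⊔ ce E ≤ M ∧ M ≤ nm E ∧
      ¬ nm E ≤ M ∧ ∀ g ∈ nm E, ∀ x ∈ S ⊓ nm E, x ∉ E → g * x * g⁻¹ ∈ M → g ∈ M := by
  have : Fact (Nat.Prime 2) := ⟨Nat.prime_two⟩
  obtain ⟨hlt, hfn, hne⟩ := (H91.isEssential_iff hS hF).1 hE
  have hES := hlt.le
  obtain ⟨M, hM0, hM⟩ : ∃ M : Subgroup G, M ≤ nm E ∧ ∀ g, ∀ hg : g ∈ nm E,
      g ∈ M ↔ H91.cjAut E g hg ∈ H91.extAut (groupFusionSystem S) E :=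
    ⟨((H91.extAut (groupFusionSystem S) E).comap E.normalizerMonoidHom).map (nm E).subtype,
      map_subtype_le _, fun g hg => mem_map_iff_mem (nm E).subtype_injective (x := ⟨g, hg⟩)⟩
  have hle := H91.extAut_le_autGroup (groupFusionSystem S) E
  have hle' := H91.autInducedBy_le_extAut (groupFusionSystem S) hlt
  refine ⟨M, fun g hg => ?_, hM0, fun e => hne (le_antisymm hle fun α hα => ?_), fun g hg x hx hx' e => ?_⟩
  · have hg' : g ∈ nm E := (sup_le inf_le_right (ce_le_nm le_rfl) : _ ≤ nm E) hg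
    exact (hM g hg').2 (hle' ((fus_mem_autS hg').2 hg))
  · obtain ⟨g, hg, rfl⟩ := (fus_mem_aut hES).1 hα
    exact (hM g hg).1 (e hg)
  · have hn := mul_mem (mul_mem hg hx.2) (inv_mem hg)
    have e1 := (hM _ hn).1 e
    rw [H93.cjAut_mul E (mul_mem hg hx.2) (inv_mem hg), H93.cjAut_mul E hg hx.2,
      H93.cjAut_inv E hg] at e1
    have := H91.finite_mulAut hES
    obtain ⟨k, hk⟩ := H91.pow_eq_one_of_mem_isPGroup (H91.isPGroup_autInducedBy hS E)
      (H91.cjAut_mem_autInducedBy hx.1 hx.2)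
    obtain ⟨a, ha, e2⟩ := ((H91.sat_sylIn hS hF hfn).of_le hle' hle).exists_conj_mem
      (H91.isPGroup_zpowers_of_pow ⟨k, by rw [conj_pow, hk]; simp⟩) (zpowers_le.2 e1)
    have h2 := H91.mem_extAut_of_not_le (H91.sat_receptive' hS hF hfn)
      (mul_mem (hle ha) ((fus_mem_aut hES).2 ⟨g, hg, rfl⟩)) fun h => hx'
      (h (H91.mem_extSub_of_conj_mem hx (by
        convert e2 _ (mem_zpowers _) using 1; group)))
    exact (hM g hg).2 ((Subgroup.mul_mem_cancel_left _ ha).1 h2)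

omit [Finite G] in
theorem inn_iff (w : nm E) :
    E.normalizerMonoidHom w ∈ (MulAut.conj : E →* MulAut E).range ↔ (w : G) ∈ E ⊔ ce E := by
  rw [mem_sup_of_nm (X := E) (Y := ce E) fun a ha => nm_ce (le_normalizer ha)]
  constructor
  · rintro ⟨e, he⟩
    refine ⟨e, e.2, (e : G)⁻¹ * w, mem_ce.2 fun x hx => ?_, by group⟩
    have := congrArg Subtype.val (DFunLike.congr_fun he ⟨x, hx⟩)
    rw [rho_coe] at this
    simp only [MulAut.conj_apply, coe_mul, coe_inv] at this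
    calc x * ((e : G)⁻¹ * w) = (e : G)⁻¹ * (e * x * (e : G)⁻¹) * w := by group
      _ = _ := by rw [this]; group
  · rintro ⟨e, he, c, hc, h⟩
    refine ⟨⟨e, he⟩, MulEquiv.ext fun x => Subtype.ext ?_⟩
    rw [rho_coe, ← h]
    simp only [MulAut.conj_apply, coe_mul, coe_inv]
    calc e * x * e⁻¹ = e * (x * c) * c⁻¹ * e⁻¹ := by group
      _ = _ := by rw [mem_ce.1 hc x x.2]; group

end Ess

variable {K : Type*} [Field K] [Tits K] [Finite K] {G : Type*} [Group G] {u : OU K →* G} [Finite G]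

theorem ess {E : Subgroup (OU K)} (h : ES ⊤ E) (hne : E ≠ ⊤) : E = sQ ∨ E = sT := by
  by_cases hT : E ≤ sT
  · exact Or.inr (eqT (h.mono hT le_top))
  by_cases hQ : E ≤ sQ
  · exact Or.inl (eqQ (h.mono hQ le_top) (c1W h hT))
  exfalso
  by_cases h8 : ∀ e ∈ E, e.y8 = 0
  · exact c3 h h8 hT hQ
  push Not at h8
  obtain ⟨e', he', h8⟩ := h8
  obtain ⟨e, he, h1⟩ := SetLike.not_le_iff_exists.1 hT
  rw [mem_sT] at h1
  by_cases k8 : e.y8 = 0
  · by_cases k1 : e'.x1 = 0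
    · exact hne (reg h (mul_mem he he') (by simpa [k1] using h1) (by simpa [k8] using h8))
    · exact hne (reg h he' k1 h8)
  · exact hne (reg h he h1 k8)

namespace Ess

theorem two (_ : Sat u) : IsPGroup 2 u.range := by
  rw [MonoidHom.range_eq_map]
  exact two_OU.map u

open SR3 in
/-- an essential normal subgroup has an automorphism that does not extend -/
theorem not_ext (h : Sat u) {A : Subgroup (OU K)} (hE : (groupFusionSystem u.range).IsEssential 2 (A.map u))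
    (hn : ∀ s, ∀ a ∈ A, s * a * s⁻¹ ∈ A)
    (hx : ∀ f, Fa u A f → ∃ F, Fa u ⊤ F ∧ ∀ a ∈ A, F a = f a) : False := by
  have : Fact (Nat.Prime 2) := ⟨Nat.prime_two⟩
  have es := SPQ.es_of (two h) h.sat hE
  have nS : u.range ≤ nm (A.map u) := by
    rintro _ ⟨s, rfl⟩
    exact nm_of_ind (hn s) fun a _ => by simp
  refine es.ne fun s hs => es.rad (u.range ⊔ ce (A.map u)) (sup_le nS (ce_le_nm le_rfl)) (fun g hg => ?_)
    (fun g hg => ?_) ⟨hs, Subgroup.mem_sup_left hs⟩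
  · obtain ⟨f, hf, e⟩ := Fa.of_nm h.inj hg
    obtain ⟨F, hF, e'⟩ := hx f hf
    obtain ⟨g', hg'⟩ := hF.ind
    have n1 : g' ∈ nm u.range := by
      rw [MonoidHom.range_eq_map]
      exact nm_of_ind hF.au.mem hg'
    have n2 : g' ∈ nm (A.map u) :=
      nm_of_ind (f := F) (fun a ha => by rw [e' a ha]; exact hf.au.mem a ha) fun a _ => hg' a trivial
    have c1 : g'⁻¹ * g ∈ ce (A.map u) := mem_ce.2 (by
      rintro _ ⟨a, ha, rfl⟩
      have := (hg' a trivial).trans (e' a ha ▸ (e a ha).symm)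
      calc u a * (g'⁻¹ * g) = g'⁻¹ * (g' * u a * g'⁻¹) * g := by group
        _ = _ := by rw [this]; group)
    have := mul_mem (nm_sup n1 (nm_ce n2)) (Subgroup.le_normalizer (Subgroup.mem_sup_right c1))
    simpa using this
  · obtain ⟨a, ha, c, hc, rfl⟩ := (mem_sup_of_nm fun a ha => nm_ce (nS ha)).1 hg
    obtain ⟨m, hm⟩ := two h ⟨a, ha⟩
    have hm' : a ^ 2 ^ m = 1 := congrArg Subtype.val hm
    refine ⟨m, ?_⟩
    have key : ∀ n : ℕ, (a ^ n)⁻¹ * (a * c) ^ n ∈ ce (A.map u) := fun n => by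
      induction n with
      | zero => simp
      | succ n ih =>
        have := mul_mem (conj_mem (inv_mem (nm_ce (nS ha))) ih) hc
        convert this using 1
        rw [pow_succ, pow_succ]; group
    simpa [hm'] using key (2 ^ m)

end Ess

theorem Sat.es (h : Sat u) {E : Subgroup G} (hE : (groupFusionSystem u.range).IsEssential 2 E) :
    ES ⊤ (E.comap u) ∧ E.comap u ≠ ⊤ := by
  have : Fact (Nat.Prime 2) := ⟨Nat.prime_two⟩
  have es := SPQ.es_of (Ess.two h) h.sat hE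
  refine ⟨⟨two_OU, le_top, fun x _ hx => es.cen ⟨⟨x, rfl⟩, SR3.mem_ce.2 fun e he => ?_⟩, ?_⟩, fun e => es.ne ?_⟩
  · obtain ⟨a, rfl⟩ := es.le he
    rw [← map_mul, ← map_mul, hx a he]
  swap
  · rintro _ ⟨a, rfl⟩
    exact (e.ge trivial : a ∈ E.comap u)
  obtain ⟨M, h1, h2, h3, h4⟩ := Ess.exists_M (Ess.two h) h.sat hE
  obtain ⟨g, hg, hg'⟩ := SetLike.not_le_iff_exists.1 h3
  obtain ⟨e, he⟩ : ∃ e : E.comap u ≃* E, ∀ a, ((e a : E) : G) = u a :=
    ⟨MulEquiv.ofBijective ((u.comp (E.comap u).subtype).codRestrict E fun a => a.2)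
      ⟨fun a b k => Subtype.ext (h.inj (congrArg Subtype.val k)), fun b => by
        obtain ⟨a, ha⟩ := es.le b.2
        exact ⟨⟨a, show u a ∈ E from ha ▸ b.2⟩, Subtype.ext ha⟩⟩, fun _ => rfl⟩
  have nu : ∀ x : Subgroup.normalizer (E.comap u : Set (OU K)), u x ∈ SR3.nm E := fun x =>
    SR3.mem_nm_of_conj fun b hb => by
      obtain ⟨a, rfl⟩ := es.le hb
      have := SR3.conj_mem x.2 (show a ∈ E.comap u from hb)
      simpa using this
  have rho : ∀ x : Subgroup.normalizer (E.comap u : Set (OU K)), (E.comap u).normalizerMonoidHom x =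
      MulAut.congr e.symm (E.normalizerMonoidHom ⟨u x, nu x⟩) := fun x => by
    refine MulEquiv.ext fun a => e.injective (Subtype.ext ?_)
    rw [he, rho_coe]
    simp [MulAut.congr, he]
  refine ⟨MulAut.congr e.symm (E.normalizerMonoidHom ⟨g, hg⟩), fun x y hx hy => ?_⟩
  obtain ⟨⟨k, hk, k1⟩, k2⟩ := Ess.se es.loc h1 h2 h4 hg hg' (x := u x) (y := u y) ⟨⟨_, rfl⟩, nu x⟩ hx.out
    (by rw [← map_mul]; exact hx.sq) ⟨⟨_, rfl⟩, nu y⟩ hy.out (by rw [← map_mul]; exact hy.sq)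
  rw [rho, rho, ← map_inv, ← map_mul, ← map_mul, ← map_mul, ← map_inv, ← map_mul, ← map_mul, ← map_mul,
    congr_range, Ess.inn_iff]
  refine ⟨⟨k, hk, ?_⟩, k2⟩
  rw [← map_pow, ← map_pow, congr_range, Ess.inn_iff]
  exact k1

theorem Sat.ess (h : Sat u) {E : Subgroup G} (hE : (groupFusionSystem u.range).IsEssential 2 E) :
    (E = sQ.map u ∧ EssQ u) ∨ (E = sT.map u ∧ EssT u) := by
  obtain ⟨h1, h2⟩ := h.es hE
  have e0 : (E.comap u).map u = E := Subgroup.map_comap_eq_self hE.1.1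
  rcases RFS.ess h1 h2 with e | e
  · rw [e] at e0
    subst e0
    refine Or.inl ⟨rfl, by_contra fun hn => Ess.not_ext h hE nm_Q fun f hf => h.ctx.extQ f hf ?_⟩
    by_contra k
    exact hn ⟨f, hf, k⟩
  · rw [e] at e0
    subst e0
    refine Or.inr ⟨rfl, by_contra fun hn => Ess.not_ext h hE nm_T fun f hf => h.ctx.extT f hf ?_⟩
    by_contra k
    exact hn ⟨f, hf, k⟩

theorem Sat.real (h : Sat u) (hn : ¬ EssQ u ∨ ¬ EssT u) : (groupFusionSystem u.range).IsRealizable 2 := by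
  have : Fact (Nat.Prime 2) := ⟨Nat.prime_two⟩
  obtain ⟨G', _, ι, h1, h2, h3, -⟩ := H92.exists_model (Ess.two h) (SPQ.constr (Ess.two h) h.sat
    fun E E' hE hE' => by
      rcases h.ess hE with ⟨a, a'⟩ | ⟨a, a'⟩ <;> rcases h.ess hE' with ⟨b, b'⟩ | ⟨b, b'⟩
      · exact a.trans b.symm
      · exact (hn.elim (· a') (· b')).elim
      · exact (hn.elim (· b') (· a')).elim
      · exact a.trans b.symm)
  exact ⟨G', _, h1, ι, h2, h3⟩

end Cfsg.Agent.RFS
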