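import Cfsg.Agent.RFS.Chr
import Cfsg.Agent.OCT.Rig

/-! Project RFS: automorphisms of `S`.  See `notes/RFS.md`. -/

set_option autoImplicit false
set_option linter.unusedSectionVars false
set_option linter.unusedSimpArgs false
set_option linter.unusedTactic false
set_option linter.unreachableTactic false
set_option linter.unnecessarySeqFocus false

namespace Cfsg.Agent.RFS

open OCT OCT.OU Sh
open scoped commutatorElement

variable {K : Type*} [Field K] [Tits K]

namespace AuS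

variable {p q : OU K}

theorem inv_comm' {a b z : OU K} (h : a * b = z * (b * a)) : ⁅a, b⁆ = z := by
  rw [commutatorElement_def, h]; group

theorem cy2 (p q : OU K) : ⁅p, q⁆.y2 = p.y8 * q.x1 + q.y8 * p.x1 := by
  rw [commutatorElement_def]; simp; grind

theorem cy6 (hp : p ∈ (sZ7 : Subgroup (OU K))) (hq : q.y8 = 0) : ⁅p, q⁆.y6 = p.x8 * q.x1 := by
  rw [mem_sZ7] at hp
  rw [commutatorElement_def]; simp [hp, hq]; grind

theorem cx7 (hp : p ∈ (sZ6 : Subgroup (OU K))) (q : OU K) : ⁅p, q⁆.x7 = p.y6 * q.y8 := by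
  rw [mem_sZ6] at hp
  rw [commutatorElement_def]; simp [hp]; grind

theorem cx5 (hp : p ∈ (sZ5 : Subgroup (OU K))) (hq : q ∈ (sD : Subgroup (OU K))) :
    ⁅p, q⁆.x5 = p.x7 * σ q.y2 := by
  rw [mem_sZ5] at hp
  rw [mem_sD] at hq
  rw [commutatorElement_def]; simp [hp, hq]; grind

theorem cx6 (hp : p ∈ (sI : Subgroup (OU K))) (q : OU K) : ⁅p, q⁆.x6 = p.x5 * q.y8 := by
  obtain ⟨z, hz, e⟩ := comm_iff.1 (c_I hp q)
  rw [inv_comm' e]
  rw [mem_sI] at hp
  rw [mem_sY] at hz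
  have := congrArg OU.x6 e
  simp [hp, hz] at this
  grind

theorem cx4 (hp : p ∈ (sW : Subgroup (OU K))) (hq : q ∈ (sQ : Subgroup (OU K))) :
    ⁅p, q⁆.x4 = p.x5 * q.y2 + p.x3 * q.y6 + p.x6 * q.x1 + p.x2 * q.x7 := by
  obtain ⟨z, hz, e⟩ := comm_iff.1 (c_WQ hp hq)
  rw [inv_comm' e]
  rw [mem_sW] at hp
  rw [mem_sQ] at hq
  rw [mem_sZ] at hz
  have := congrArg OU.x4 e
  simp [hp, hq, hz] at this
  grind

theorem cx4' (hp : p ∈ (sY : Subgroup (OU K))) (q : OU K) : ⁅p, q⁆.x4 = p.x6 * q.x1 := by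
  obtain ⟨z, hz, e⟩ := comm_iff.1 (c_Y hp q)
  rw [inv_comm' e]
  rw [mem_sY] at hp
  rw [mem_sZ] at hz
  have := congrArg OU.x4 e
  simp [hp, hz] at this
  grind

variable [Finite K] (α : MulAut (OU K))

theorem pr {B : Subgroup (OU K)} (h : Ch ⊤ B) {a : OU K} (ha : a ∈ B) : α a ∈ B := h.inv α (Au.equiv α) a ha

theorem dec (a b : OU K) : α a = α b * α (b⁻¹ * a) := by rw [← map_mul, mul_inv_cancel_left]

theorem ax1 (a : OU K) : (α a).x1 = (α (X1 a.x1)).x1 := by
  have := pr α chS_T (a := (X1 a.x1)⁻¹ * a) (by simp [CharTwo.add_self_eq_zero])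
  rw [dec α a (X1 a.x1), mul_x1, mem_sT.1 this, add_zero]

theorem ay8 (a : OU K) : (α a).y8 = (α (Y8 a.y8)).y8 := by
  have := pr α chS_P8 (a := (Y8 a.y8)⁻¹ * a) (by simp [CharTwo.add_self_eq_zero])
  rw [dec α a (Y8 a.y8), mul_y8, mem_sP8.1 this, add_zero]

theorem ay2 {a : OU K} (ha : a ∈ (sZ7 : Subgroup (OU K))) : (α a).y2 = (α (Y2 a.y2)).y2 := by
  rw [mem_sZ7] at ha
  have := pr α chS_A (a := (Y2 a.y2)⁻¹ * a) (by simp [ha, CharTwo.add_self_eq_zero])
  rw [mem_sA] at this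
  rw [dec α a (Y2 a.y2), mul_y2, this.1, this.2.1, mul_zero, add_zero, add_zero]

theorem iso (s t : K) : (α (Y2 (s * t))).y2 = (α (Y8 s)).y8 * (α (X1 t)).x1 := by
  have e := ay2 α (c_top (Y8 s) (X1 t))
  rw [map_commutatorElement, cy2, cy2, mem_sP8.1 (pr α chS_P8 (a := X1 t) (by simp))] at e
  simpa using e.symm

end AuS

open AuS

variable [Finite K]

theorem aut_dec (α : MulAut (OU K)) : ∃ (k : Kˣ × Kˣ) (φ : RingAut K),
    ∀ a, (α a).x1 = k.1 * φ a.x1 ∧ (α a).y8 = k.2 * φ a.y8 := by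
  let f : K → K := fun t => (α (X1 t)).x1
  let g : K → K := fun t => (α (Y8 t)).y8
  have fa : ∀ s t, f (s + t) = f s + f t := fun s t => by
    have := ax1 α (X1 s * X1 t)
    rw [map_mul, mul_x1] at this
    exact this.symm
  have f0 : ∀ t, f t = 0 → t = 0 := fun t h => by
    simpa using pr α⁻¹ chS_T (a := α (X1 t)) h
  have g1 : g 1 ≠ 0 := fun h => by
    simpa using pr α⁻¹ chS_P8 (a := α (Y8 1)) h
  have f1 : f 1 ≠ 0 := fun h => one_ne_zero (f0 1 h)
  have m : ∀ s t, g 1 * f (s * t) = g s * f t := fun s t => by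
    have := iso α 1 (s * t)
    rw [one_mul, iso] at this
    exact this.symm
  have gf : ∀ s, g s = g 1 * (f s / f 1) := fun s => by
    have := m s 1
    rw [mul_one] at this
    field_simp
    exact this.symm
  let φ : K →+* K :=
    { toFun := fun t => f t / f 1
      map_one' := div_self f1
      map_mul' := fun s t => by
        have := m s t
        rw [gf s, mul_assoc] at this
        rw [mul_left_cancel₀ g1 this, mul_div_assoc]
      map_zero' := by
        have := fa 0 0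
        rw [add_zero, CharTwo.add_self_eq_zero] at this
        rw [this, zero_div]
      map_add' := fun s t => by rw [fa, add_div] }
  refine ⟨(Units.mk0 _ f1, Units.mk0 _ g1),
    RingEquiv.ofBijective φ ⟨φ.injective, Finite.surjective_of_injective φ.injective⟩, fun a => ⟨?_, ?_⟩⟩
  · rw [ax1]
    change f a.x1 = f 1 * (f a.x1 / f 1)
    field_simp
  · rw [ay8]
    exact gf a.y8

theorem aut_two (α : MulAut (OU K)) (h : ∀ a, (α a).x1 = a.x1 ∧ (α a).y8 = a.y8) : ∃ j : ℕ, α ^ 2 ^ j = 1 := by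
  have ns : ∀ a : K, ∃ b, b * σ b = a := Finite.surjective_of_injective fun _ _ => nrm_inj
  have hy2 : ∀ a ∈ (sZ7 : Subgroup (OU K)), (α a).y2 = a.y2 := fun a ha => by
    have := iso α a.y2 1
    rw [mul_one, (h _).1, (h _).2] at this
    rw [ay2 α ha, this]; simp
  have hx8 : ∀ a ∈ (sZ7 : Subgroup (OU K)), (α a).x8 = a.x8 := fun a ha => by
    obtain ⟨s, hs⟩ := ns a.x8
    rw [mem_sZ7] at ha
    have := pr α chS_D (a := (Y8 s * Y8 s)⁻¹ * a) (by simp [ha, hs, CharTwo.add_self_eq_zero])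
    rw [mem_sD] at this
    rw [dec α a (Y8 s * Y8 s), mul_x8, this.2.1, this.2.2, map_mul]
    simp [(h _).2, hs, CharTwo.add_self_eq_zero]
  have hy6 : ∀ a ∈ (sZ6 : Subgroup (OU K)), (α a).y6 = a.y6 := fun a ha => by
    have b7 : X8 a.y6 ∈ (sZ7 : Subgroup (OU K)) := by simp
    have b6 := c_Z7 b7 (X1 1)
    have e := cy6 b7 (q := X1 1) (by simp)
    have e' := cy6 (pr α chS_Z7 b7) (q := α (X1 1)) (h _).2
    rw [← map_commutatorElement, hx8 _ b7, (h _).1] at e'
    have b6' := pr α chS_Z6 b6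
    generalize ⁅X8 a.y6, X1 (1 : K)⁆ = b at b6 e e' b6'
    rw [mem_sZ6] at ha b6 b6'
    have := pr α chS_R7 (a := b⁻¹ * a) (by simp [ha, b6, e, CharTwo.add_self_eq_zero])
    rw [mem_sR7] at this
    rw [dec α a b]
    simp only [mul_y6, this, b6', e']
    simp
  have hx7 : ∀ a ∈ (sR7 : Subgroup (OU K)), (α a).x7 = a.x7 := fun a ha => by
    have b7 : Y6 a.x7 ∈ (sZ6 : Subgroup (OU K)) := by simp
    have b6 := c_Z6 b7 (Y8 1)
    have e := cx7 b7 (Y8 1)
    have e' := cx7 (pr α chS_Z6 b7) (α (Y8 1))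
    rw [← map_commutatorElement, hy6 _ b7, (h _).2] at e'
    have b6' := pr α chS_Z5 b6
    generalize ⁅Y6 a.x7, Y8 (1 : K)⁆ = b at b6 e e' b6'
    rw [mem_sZ5] at b6 b6'
    rw [mem_sR7] at ha
    have := pr α chS_R (a := b⁻¹ * a) (by simp [ha, b6, e, CharTwo.add_self_eq_zero])
    rw [mem_sR] at this
    rw [dec α a b]
    simp only [mul_x7, this, b6', e']
    simp
  have R7 : ∀ t : K, X7 t ∈ (sR7 : Subgroup (OU K)) := fun t => by simp
  have hx5 : ∀ a ∈ (sI : Subgroup (OU K)), (α a).x5 = a.x5 := fun a ha => by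
    have b7 : X7 a.x5 ∈ (sZ5 : Subgroup (OU K)) := by simp
    have bD : Y2 1 ∈ (sD : Subgroup (OU K)) := by simp
    have b6 := sw (c_Z7Z5 (D_Z7 bD) b7)
    have e := cx5 b7 bD
    have e' := cx5 (pr α chS_Z5 b7) (pr α chS_D bD)
    rw [← map_commutatorElement, hx7 _ (R7 _), hy2 _ (D_Z7 bD)] at e'
    have b6' := pr α chS_I b6
    generalize ⁅X7 a.x5, Y2 (1 : K)⁆ = b at b6 e e' b6'
    rw [mem_sI] at ha b6 b6'
    have := pr α chS_Y (a := b⁻¹ * a) (by simp [ha, b6, e, CharTwo.add_self_eq_zero])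
    rw [mem_sY] at this
    rw [dec α a b]
    simp only [mul_x5, this, b6', e']
    simp
  have hx6 : ∀ a ∈ (sY : Subgroup (OU K)), (α a).x6 = a.x6 := fun a ha => by
    have b7 : X5 a.x6 ∈ (sI : Subgroup (OU K)) := by simp
    have b6 := c_I b7 (Y8 1)
    have e := cx6 b7 (Y8 1)
    have e' := cx6 (pr α chS_I b7) (α (Y8 1))
    rw [← map_commutatorElement, hx5 _ b7, (h _).2] at e'
    have b6' := pr α chS_Y b6
    generalize ⁅X5 a.x6, Y8 (1 : K)⁆ = b at b6 e e' b6'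
    rw [mem_sY] at ha b6 b6'
    have := pr α chS_Z (a := b⁻¹ * a) (by simp [ha, b6, e, CharTwo.add_self_eq_zero])
    rw [mem_sZ] at this
    rw [dec α a b]
    simp only [mul_x6, this, b6', e']
    simp
  have hx4 : ∀ a ∈ (sZ : Subgroup (OU K)), (α a).x4 = a.x4 := fun a ha => by
    have b7 : X6 a.x4 ∈ (sY : Subgroup (OU K)) := by simp
    have b6 := c_Y b7 (X1 1)
    have e := cx4' b7 (X1 1)
    have e' := cx4' (pr α chS_Y b7) (α (X1 1))
    rw [← map_commutatorElement, hx6 _ b7, (h _).1] at e'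
    have : a = ⁅X6 a.x4, X1 (1 : K)⁆ := by
      generalize ⁅X6 a.x4, X1 (1 : K)⁆ = b at b6 e
      rw [mem_sZ] at ha b6
      ext <;> simp [ha, b6, e]
    rw [← this] at e'
    simpa using e'
  have hW : ∀ a ∈ (sW : Subgroup (OU K)), ∀ b ∈ (sQ : Subgroup (OU K)),
      (α a).x5 * (α b).y2 + (α a).x3 * (α b).y6 + (α a).x6 * (α b).x1 + (α a).x2 * (α b).x7 =
        a.x5 * b.y2 + a.x3 * b.y6 + a.x6 * b.x1 + a.x2 * b.x7 := fun a ha b hb => by
    rw [← cx4 (pr α chS_W ha) (pr α chS_Q hb), ← cx4 ha hb, ← map_commutatorElement, hx4 _ (c_WQ ha hb)]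
  have hx3 : ∀ a ∈ (sJ : Subgroup (OU K)), (α a).x3 = a.x3 := fun a ha => by
    have b6 : Y6 1 ∈ (sZ6 : Subgroup (OU K)) := by simp
    have e := hW a (J_W ha) _ (D_Q (Z6_D b6))
    have k1 := pr α chS_Z6 b6
    have k2 := pr α chS_J ha
    rw [mem_sZ6] at k1
    rw [mem_sJ] at k2
    simpa [k1, k2, hy6 _ b6] using e
  have hx2 : ∀ a ∈ (sW : Subgroup (OU K)), (α a).x2 = a.x2 := fun a ha => by
    have e := hW a ha (X7 1) (by simp)
    have k1 := pr α chS_R7 (R7 1)
    rw [mem_sR7] at k1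
    simpa [k1, hx7 _ (R7 1)] using e
  have hy4 : ∀ a ∈ (sR : Subgroup (OU K)), (α a).y4 = a.y4 := fun a ha => by
    have e := hx4 _ (sq_R ha)
    have k1 := pr α chS_R ha
    rw [mem_sR] at ha k1
    rw [map_mul] at e
    exact nrm_inj (by simpa [ha, k1, CharTwo.add_self_eq_zero] using e)
  obtain ⟨n, hn⟩ := (two_OU (K := K)).exists_card_eq
  rw [Subgroup.card_top] at hn
  have st : ∀ {A B : Subgroup (OU K)}, Ch ⊤ A → (∀ a ∈ A, α a ∈ A → α a * a⁻¹ ∈ B) → RigTr α B → RigTr α A :=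
    fun hA h1 h2 => rig_step (k := n) (fun _ ha => pr α hA ha) (fun a ha => h1 a ha (pr α hA ha))
      (fun b _ => by rw [← hn, pow_card_eq_one']) h2
  have t0 : RigTr α sZ := ⟨0, fun a ha => by
    have k := pr α chS_Z ha
    have e := hx4 a ha
    rw [mem_sZ] at ha k
    rw [pow_zero, pow_one]
    ext <;> simp [ha, k, e]⟩
  have t1 := st chS_Y (fun a ha k => by
    have e := hx6 a ha
    rw [mem_sY] at ha k
    simp [ha, k, e, CharTwo.add_self_eq_zero]) t0
  have t2 := st chS_I (fun a ha k => by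
    have e := hx5 a ha
    rw [mem_sI] at ha k
    simp [ha, k, e, CharTwo.add_self_eq_zero]) t1
  have t3 := st chS_J (fun a ha k => by
    have e := hx3 a ha
    rw [mem_sJ] at ha k
    simp [ha, k, e, CharTwo.add_self_eq_zero]) t2
  have t4 := st chS_W (fun a ha k => by
    have e := hx2 a ha
    rw [mem_sW] at ha k
    simp [ha, k, e, CharTwo.add_self_eq_zero]) t3
  have t5 := st chS_R (fun a ha k => by
    have e := hy4 a ha
    rw [mem_sR] at ha k
    simp [ha, k, e, CharTwo.add_self_eq_zero]) t4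
  have t6 := st chS_R7 (fun a ha k => by
    have e := hx7 a ha
    rw [mem_sR7] at ha k
    simp [ha, k, e, CharTwo.add_self_eq_zero]) t5
  have t7 := st chS_Z6 (fun a ha k => by
    have e := hy6 a ha
    rw [mem_sZ6] at ha k
    simp [ha, k, e, CharTwo.add_self_eq_zero]) t6
  have t8 := st chS_D (fun a ha k => by
    have e := hy2 a (D_Z7 ha)
    rw [mem_sD] at ha k
    simp [ha, k, e, CharTwo.add_self_eq_zero]) t7
  have t9 := st chS_Z7 (fun a ha k => by
    have e := hx8 a ha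
    rw [mem_sZ7] at ha k
    simp [ha, k, e, CharTwo.add_self_eq_zero]) t8
  obtain ⟨j, hj⟩ := st Ch.top (fun a _ _ => by simp [h a, CharTwo.add_self_eq_zero]) t9
  exact ⟨j, MulEquiv.ext fun a => hj a trivial⟩

end Cfsg.Agent.RFS
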