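import Cfsg.Agent.RFS.C1

/-! Project RFS: regular elements.  See `notes/RFS.md`. -/

set_option autoImplicit false
set_option linter.unusedSectionVars false
set_option linter.unusedSimpArgs false

namespace Cfsg.Agent.RFS

open OCT OCT.OU
open scoped commutatorElement

variable {K : Type*} [Field K] [Tits K] [Finite K] {E : Subgroup (OU K)}

namespace C2

theorem flip {H : Type*} [Group H] {C : Subgroup H} {a b : H} (h : ⁅a, b⁆ ∈ C) : ⁅b, a⁆ ∈ C := by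
  rw [← commutatorElement_inv]; exact inv_mem h

theorem tZ (x : OU K) : Cn E x sZ :=
  .step Ch.bot (fun b hb => comm_bot'.2 (m_Z hb x).symm) .bot

theorem tY (hZ : Ch E sZ) (x : OU K) : Cn E x sY :=
  .step hZ (fun _ hb => flip (c_Y hb x)) (tZ x)

theorem tI (hZ : Ch E sZ) (hY : Ch E sY) (x : OU K) : Cn E x sI :=
  .step hY (fun _ hb => flip (c_I hb x)) (tY hZ x)

theorem tJ (hZ : Ch E sZ) (hY : Ch E sY) (hI : Ch E sI) (x : OU K) : Cn E x sJ :=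
  .step hI (fun _ hb => flip (c_J hb x)) (tI hZ hY x)

theorem t5 (hZ : Ch E sZ) (hY : Ch E sY) (hI : Ch E sI) (hJ : Ch E sJ) (x : OU K) : Cn E x sZ5 :=
  .step hJ (fun _ hb => flip (c_Z5 hb x)) (tJ hZ hY hI x)

theorem Z_le_Y : (sZ : Subgroup (OU K)) ≤ sY :=
  fun _ ⟨h1, h2, h3, h4, h5, h6, h7, _, h9, h10, h11⟩ => ⟨h1, h2, h3, h4, h5, h6, h7, h9, h10, h11⟩

theorem Y_le_I : (sY : Subgroup (OU K)) ≤ sI :=
  fun _ ⟨h1, h2, h3, h4, h5, _, h7, h9, h10, h11⟩ => ⟨h1, h2, h3, h4, h5, h7, h9, h10, h11⟩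

theorem I_le_J : (sI : Subgroup (OU K)) ≤ sJ :=
  fun _ ⟨h1, h2, h3, _, h5, h7, h9, h10, h11⟩ => ⟨h1, h2, h3, h5, h7, h9, h10, h11⟩

theorem test_I {a : OU K} (h : ∀ b ∈ (sZ5 : Subgroup (OU K)), ⁅a, b⁆ ∈ (sI : Subgroup (OU K))) :
    a ∈ (sZ7 : Subgroup (OU K)) := by
  obtain ⟨z, hz, e⟩ := comm_iff.1 (h (X7 1) (by simp))
  obtain ⟨z', hz', e'⟩ := comm_iff.1 (h (X2 1) (by simp))
  rw [mem_sI] at hz hz'
  have e1 := congrArg OU.x3 e
  have e2 := congrArg OU.x3 e'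
  exact ⟨by simpa [hz] using e1, by simpa [hz'] using e2⟩

theorem test_Y {a : OU K} (h : ∀ b ∈ (sZ5 : Subgroup (OU K)), ⁅a, b⁆ ∈ (sY : Subgroup (OU K))) :
    a ∈ (sZ6 : Subgroup (OU K)) := by
  obtain ⟨k1, k2⟩ := test_I fun b hb => Y_le_I (h b hb)
  obtain ⟨z, hz, e⟩ := comm_iff.1 (h (X7 1) (by simp))
  obtain ⟨z', hz', e'⟩ := comm_iff.1 (h (X2 1) (by simp))
  rw [mem_sY] at hz hz'
  have e1 := congrArg OU.x5 e
  have e2 := congrArg OU.x5 e'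
  exact ⟨k1, by simpa [hz, k1, k2] using e1, k2, by simpa [hz', k1, k2] using e2⟩

variable {d e : OU K}

theorem starJ (h1 : e.x1 ≠ 0) (h8 : e.y8 ≠ 0) (hd : d * d = 1) (h : ⁅d, e⁆ ∈ (sJ : Subgroup (OU K))) :
    d ∈ (sZ5 : Subgroup (OU K)) ∧ d.x7 * d.x2 = 0 := by
  obtain ⟨z, hz, q⟩ := comm_iff.1 h
  rw [mem_sJ] at hz
  have k8 := inv_y8 hd
  have k1 : d.x1 = 0 := by
    have q2 := congrArg OU.y2 q
    simp [hz, k8] at q2
    have : e.y8 * d.x1 = 0 := by grind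
    simpa [h8] using this
  have k2 := inv_y2 hd k1
  have k9 : d.x8 = 0 := by
    have q2 := congrArg OU.y4 q
    simp [hz, k8, k1, k2] at q2
    have : d.x8 * σ e.x1 = 0 := by grind
    simpa [h1] using this
  exact inv_Z6 hd k1 k9

theorem starI (h1 : e.x1 ≠ 0) (h8 : e.y8 ≠ 0) (hd : d * d = 1) (h : ⁅d, e⁆ ∈ (sI : Subgroup (OU K))) :
    d ∈ (sJ : Subgroup (OU K)) := by
  obtain ⟨⟨k1, k2, k3, k4, k5, k6⟩, k7⟩ := starJ h1 h8 hd (I_le_J h)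
  obtain ⟨z, hz, q⟩ := comm_iff.1 h
  rw [mem_sI] at hz
  have q2 := congrArg OU.x3 q
  simp [hz, k1, k2, k3, k4, k5, k6] at q2
  have k8 : d.x7 = 0 := by
    have : d.x7 * d.x7 * σ e.x1 = 0 := by grind
    simpa [h1] using this
  have k9 : d.x2 = 0 := by
    have : e.y8 * d.x2 = 0 := by grind
    simpa [h8] using this
  exact ⟨k1, k2, k9, k3, k4, k8, k5, k6⟩

theorem starY (h1 : e.x1 ≠ 0) (h8 : e.y8 ≠ 0) (hd : d * d = 1) (h : ⁅d, e⁆ ∈ (sY : Subgroup (OU K))) :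
    d ∈ (sI : Subgroup (OU K)) := by
  obtain ⟨k1, k2, k3, k4, k5, k6, k7, k8⟩ := starI h1 h8 hd (Y_le_I h)
  obtain ⟨z, hz, q⟩ := comm_iff.1 h
  rw [mem_sY] at hz
  have q2 := congrArg OU.x5 q
  simp [hz, k1, k2, k3, k4, k5, k6, k7, k8] at q2
  have k9 : d.x3 = 0 := by
    have : σ e.y8 * d.x3 = 0 := by grind
    simpa [h8] using this
  exact ⟨k1, k2, k3, k9, k4, k5, k6, k7, k8⟩

theorem starZ (h1 : e.x1 ≠ 0) (h8 : e.y8 ≠ 0) (hd : d * d = 1) (h : ⁅d, e⁆ ∈ (sZ : Subgroup (OU K))) :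
    d ∈ (sY : Subgroup (OU K)) := by
  obtain ⟨k1, k2, k3, k4, k5, k6, k7, k8, k9⟩ := starY h1 h8 hd (Z_le_Y h)
  obtain ⟨z, hz, q⟩ := comm_iff.1 h
  rw [mem_sZ] at hz
  have q2 := congrArg OU.x6 q
  simp [hz, k1, k2, k3, k4, k5, k6, k7, k8, k9] at q2
  have k10 : d.x5 = 0 := by
    have : e.y8 * d.x5 = 0 := by grind
    simpa [h8] using this
  exact ⟨k1, k2, k3, k4, k5, k10, k6, k7, k8, k9⟩

theorem star1 (h1 : e.x1 ≠ 0) (h8 : e.y8 ≠ 0) (hd : d * d = 1) (q : d * e = e * d) :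
    d ∈ (sZ : Subgroup (OU K)) := by
  obtain ⟨k1, k2, k3, k4, k5, k6, k7, k8, k9, k10⟩ :=
    starZ h1 h8 hd (comm_iff.2 ⟨1, one_mem _, by rw [one_mul, q]⟩)
  have q2 := congrArg OU.x4 q
  simp [k1, k2, k3, k4, k5, k6, k7, k8, k9, k10] at q2
  have k11 : d.x6 = 0 := by
    have : d.x6 * e.x1 = 0 := by grind
    simpa [h1] using this
  exact ⟨k1, k2, k3, k4, k5, k6, k7, k11, k8, k9, k10⟩

theorem sqW (h : d ∈ (sW : Subgroup (OU K))) : d * d = 1 := by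
  rw [mem_sW] at h
  ext <;> simp [h, CharTwo.add_self_eq_zero]

theorem J_le_W : (sJ : Subgroup (OU K)) ≤ sW :=
  fun _ ⟨h1, h2, _, h5, h7, h9, h10, h11⟩ => ⟨h1, h2, h5, h7, h9, h10, h11⟩

end C2

open C2

theorem top5 (h : ES ⊤ E) (hZ : Ch E sZ) (hY : Ch E sY) (hI : Ch E sI) (hJ : Ch E sJ) (h5 : Ch E sZ5) :
    E = ⊤ := by
  have l6 : sZ6 ≤ E := fun x hx =>
    h.chain trivial (.step h5 (fun b _ => c_Z6 hx b) (t5 hZ hY hI hJ x))
  have h6 : Ch E sZ6 := Ch.cz Ch.top h5 hY fun a =>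
    ⟨fun ha => ⟨l6 ha, fun b hb => c_Z6Z5 ha hb⟩, fun ha => test_Y ha.2⟩
  have t6 : ∀ x, Cn E x sZ6 := fun x => .step h5 (fun _ hb => C2.flip (c_Z6 hb x)) (t5 hZ hY hI hJ x)
  have l7 : sZ7 ≤ E := fun x hx => h.chain trivial (.step h6 (fun b _ => c_Z7 hx b) (t6 x))
  have h7 : Ch E sZ7 := Ch.cz Ch.top h5 hI fun a =>
    ⟨fun ha => ⟨l7 ha, fun b hb => c_Z7Z5 ha hb⟩, fun ha => test_I ha.2⟩
  exact top_le_iff.1 fun x _ => h.chain trivial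
    (.step h7 (fun b _ => c_top x b) (.step h6 (fun _ hb => C2.flip (c_Z7 hb x)) (t6 x)))

theorem reg (h : ES ⊤ E) {e : OU K} (he : e ∈ E) (h1 : e.x1 ≠ 0) (h8 : e.y8 ≠ 0) : E = ⊤ := by
  have hZ : Ch E sZ := by
    have : Om E = sZ := le_antisymm (fun v hv => star1 h1 h8 hv.2.1 (hv.2.2 e he)) fun z hz =>
      ⟨h.cen z trivial fun b _ => m_Z hz b, sqW (J_le_W (I_le_J (Y_le_I (Z_le_Y hz)))), fun b _ => m_Z hz b⟩
    exact this ▸ Ch.om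
  have lY : sY ≤ E := fun x hx => h.chain trivial (.step hZ (fun b _ => c_Y hx b) (tZ x))
  have hY : Ch E sY := by
    have : N2 E E sZ = sY := le_antisymm (N2_le fun a _ h2 h3 => starZ h1 h8 h2 (h3 e he)) fun z hz =>
      mem_N2 (lY hz) (sqW (J_le_W (I_le_J (Y_le_I hz)))) fun b _ => c_Y hz b
    exact this ▸ Ch.n2 Ch.top Ch.top hZ
  have lI : sI ≤ E := fun x hx => h.chain trivial (.step hY (fun b _ => c_I hx b) (tY hZ x))
  have hI : Ch E sI := by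
    have : N2 E E sY = sI := le_antisymm (N2_le fun a _ h2 h3 => starY h1 h8 h2 (h3 e he)) fun z hz =>
      mem_N2 (lI hz) (sqW (J_le_W (I_le_J hz))) fun b _ => c_I hz b
    exact this ▸ Ch.n2 Ch.top Ch.top hY
  have lJ : sJ ≤ E := fun x hx => h.chain trivial (.step hI (fun b _ => c_J hx b) (tI hZ hY x))
  have hJ : Ch E sJ := by
    have : N2 E E sI = sJ := le_antisymm (N2_le fun a _ h2 h3 => starI h1 h8 h2 (h3 e he)) fun z hz =>
      mem_N2 (lJ hz) (sqW (J_le_W hz)) fun b _ => c_J hz b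
    exact this ▸ Ch.n2 Ch.top Ch.top hI
  have l5 : sZ5 ≤ E := fun x hx => h.chain trivial (.step hJ (fun b _ => c_Z5 hx b) (tJ hZ hY hI x))
  have h5 : Ch E sZ5 := by
    have : N2 E E sJ = sZ5 := by
      refine le_antisymm (N2_le fun a _ h2 h3 => (starJ h1 h8 h2 (h3 e he)).1) fun z hz => ?_
      have m7 : X7 z.x7 ∈ (sZ5 : Subgroup (OU K)) := by simp
      have s7 : X7 z.x7 * X7 z.x7 = (1 : OU K) := by ext <;> simp [CharTwo.add_self_eq_zero]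
      have mw : z * X7 z.x7 ∈ (sZ5 : Subgroup (OU K)) := mul_mem hz m7
      have hw : z * X7 z.x7 ∈ (sW : Subgroup (OU K)) := by
        rw [mem_sZ5] at hz
        simp [hz, CharTwo.add_self_eq_zero]
      have : z = z * X7 z.x7 * X7 z.x7 := by rw [mul_assoc, s7, mul_one]
      rw [this]
      exact mul_mem (mem_N2 (l5 mw) (sqW hw) fun b _ => c_Z5 mw b) (mem_N2 (l5 m7) s7 fun b _ => c_Z5 m7 b)
    exact this ▸ Ch.n2 Ch.top Ch.top hJ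
  exact top5 h hZ hY hI hJ h5

end Cfsg.Agent.RFS
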