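import Cfsg.Agent.RFS.Chr

/-! Project RFS: invariant central chains in `Q` and `T`.  See `notes/RFS.md`. -/

set_option autoImplicit false
set_option linter.unusedSectionVars false
set_option linter.unusedSimpArgs false
set_option linter.unusedTactic false
set_option linter.unreachableTactic false
set_option linter.unnecessarySeqFocus false

namespace Cfsg.Agent.RFS

open OCT OCT.OU
open scoped commutatorElement

variable {K : Type*} [Field K] [Tits K] [Finite K]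

namespace CfA

theorem cm {H : Type*} [Group H] [Finite H] {E D₂ D₃ : Subgroup H} {f : H → H} (h : Au E f) (l2 : D₂ ≤ E)
    (h2 : ∀ a ∈ D₂, f a ∈ D₂) (h3 : ∀ a ∈ D₃, f a ∈ D₃) {a : H} (ha : a ∈ E)
    (k : ∀ b ∈ D₂, ⁅a, b⁆ ∈ D₃) : ∀ b ∈ D₂, ⁅f a, b⁆ ∈ D₃ := fun b hb => by
  obtain ⟨c, hc, rfl⟩ := (h.res l2 h2).sur b hb
  rw [← h.map_comm ha (l2 hc)]
  exact h3 _ (k c hc)

theorem bt {H : Type*} [Group H] {E : Subgroup H} {f : H → H} (h : Au E f) :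
    ∀ a ∈ (⊥ : Subgroup H), f a ∈ (⊥ : Subgroup H) := fun a ha => by
  rw [Subgroup.mem_bot.1 ha, h.one]; exact one_mem _

variable {a b : OU K}

theorem c_R7R (ha : a ∈ (sR7 : Subgroup (OU K))) (hb : b ∈ (sR : Subgroup (OU K))) :
    ⁅a, b⁆ ∈ (sY : Subgroup (OU K)) := by
  rw [mem_sR7] at ha
  rw [mem_sR] at hb
  rw [commutatorElement_def, mem_sY]
  refine ⟨?_, ?_, ?_, ?_, ?_, ?_, ?_, ?_, ?_, ?_⟩ <;> simp [ha, hb, CharTwo.add_self_eq_zero] <;> grind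

theorem c_Z7I (ha : a ∈ (sZ7 : Subgroup (OU K))) (hb : b ∈ (sI : Subgroup (OU K))) :
    ⁅a, b⁆ ∈ (sZ : Subgroup (OU K)) := by
  rw [mem_sZ7] at ha
  rw [mem_sI] at hb
  rw [commutatorElement_def, mem_sZ]
  refine ⟨?_, ?_, ?_, ?_, ?_, ?_, ?_, ?_, ?_, ?_, ?_⟩ <;> simp [ha, hb, CharTwo.add_self_eq_zero] <;> grind

theorem c_JZ7 (ha : a ∈ (sJ : Subgroup (OU K))) (hb : b ∈ (sZ7 : Subgroup (OU K))) :
    ⁅a, b⁆ ∈ (sY : Subgroup (OU K)) := by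
  rw [mem_sJ] at ha
  rw [mem_sZ7] at hb
  rw [commutatorElement_def, mem_sY]
  refine ⟨?_, ?_, ?_, ?_, ?_, ?_, ?_, ?_, ?_, ?_⟩ <;> simp [ha, hb, CharTwo.add_self_eq_zero] <;> grind

theorem c_Z6Z7 (ha : a ∈ (sZ6 : Subgroup (OU K))) (hb : b ∈ (sZ7 : Subgroup (OU K))) :
    ⁅a, b⁆ ∈ (sJ : Subgroup (OU K)) := by
  rw [mem_sZ6] at ha
  rw [mem_sZ7] at hb
  rw [commutatorElement_def, mem_sJ]
  refine ⟨?_, ?_, ?_, ?_, ?_, ?_, ?_, ?_⟩ <;> simp [ha, hb, CharTwo.add_self_eq_zero] <;> grind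

theorem c_Z5J7 (ha : a ∈ (sZ5 : Subgroup (OU K))) (hb : b ∈ (sJ7 : Subgroup (OU K))) :
    ⁅a, b⁆ ∈ (sZ : Subgroup (OU K)) := by
  rw [mem_sZ5] at ha
  rw [mem_sJ7] at hb
  rw [commutatorElement_def, mem_sZ]
  refine ⟨?_, ?_, ?_, ?_, ?_, ?_, ?_, ?_, ?_, ?_, ?_⟩ <;> simp [ha, hb, CharTwo.add_self_eq_zero] <;> grind

theorem c_R7 (ha : a ∈ (sR7 : Subgroup (OU K))) (b : OU K) : ⁅a, b⁆ ∈ (sR : Subgroup (OU K)) := by
  rw [mem_sR7] at ha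
  rw [commutatorElement_def, mem_sR]
  refine ⟨?_, ?_, ?_, ?_, ?_, ?_⟩ <;> simp [ha, CharTwo.add_self_eq_zero] <;> grind

theorem m_JR7 (ha : a ∈ (sJ : Subgroup (OU K))) (hb : b ∈ (sR7 : Subgroup (OU K))) : a * b = b * a := by
  rw [mem_sJ] at ha
  rw [mem_sR7] at hb
  ext <;> simp [ha, hb, CharTwo.add_self_eq_zero, add_comm]

theorem tail {f : OU K → OU K} (hI : ∀ y ∈ (sI : Subgroup (OU K)), f y ∈ (sI : Subgroup (OU K)))
    (hY : ∀ y ∈ (sY : Subgroup (OU K)), f y ∈ (sY : Subgroup (OU K)))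
    (hZ : ∀ y ∈ (sZ : Subgroup (OU K)), f y ∈ (sZ : Subgroup (OU K)))
    (h0 : ∀ y ∈ (⊥ : Subgroup (OU K)), f y ∈ (⊥ : Subgroup (OU K))) : Cf f sJ :=
  .step Sh.I_J (fun s _ hb => Sh.sw (c_J hb s)) hI <| .step Sh.Y_I (fun s _ hb => Sh.sw (c_I hb s)) hY <|
    .step Sh.Z_Y (fun s _ hb => Sh.sw (c_Y hb s)) hZ <|
      .step bot_le (fun s _ hb => comm_bot'.2 (m_Z hb s).symm) h0 .bot

end CfA

open CfA in
theorem cf_Q {f : OU K → OU K} (h : Au sQ f) (hY : ∀ y ∈ (sY : Subgroup (OU K)), f y ∈ (sY : Subgroup (OU K))) :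
    Cf f sQ := by
  have hZ := chQ_Z.inv f h
  have hW := chQ_W.inv f h
  have hR := chQ_R.inv f h
  have l7 : (sR7 : Subgroup (OU K)) ≤ sZ6 := fun _ h => by simp_all
  have l6 : (sZ6 : Subgroup (OU K)) ≤ sQ := Sh.Z6_D.trans Sh.D_Q
  have lR : (sR : Subgroup (OU K)) ≤ sQ := Sh.R_Z6.trans l6
  have lW : (sW : Subgroup (OU K)) ≤ sQ := Sh.W_R.trans lR
  have hD : ∀ y ∈ (sD : Subgroup (OU K)), f y ∈ (sD : Subgroup (OU K)) := fun y hy => by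
    have k := h.mem y (Sh.D_Q hy)
    have e := congrArg OU.x4 (comm_bot'.1 (cm h ((Sh.Y_I.trans Sh.I_W).trans lW) hY (bt h) (Sh.D_Q hy)
      (fun b hb => comm_bot'.2 (m_YT hb (Sh.D_T hy)).symm) (X6 1) (by simp)))
    simp [add_comm] at e
    exact ⟨e, k⟩
  have h7 : ∀ y ∈ (sR7 : Subgroup (OU K)), f y ∈ (sR7 : Subgroup (OU K)) := fun y hy => by
    obtain ⟨k1, k2⟩ := h.mem y (l6 (l7 hy))
    obtain ⟨z, hz, e⟩ := comm_iff.1 (cm h lR hR hY (l6 (l7 hy)) (fun b hb => c_R7R hy hb) (Y4 1) (by simp))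
    rw [mem_sY] at hz
    have e2 := congrArg OU.x2 e
    simp [hz, k1, k2] at e2
    have e3 := congrArg OU.x3 e
    simp [hz, k1, k2, e2] at e3
    have e5 := congrArg OU.x5 e
    simp [hz, k1, k2, e2, e3] at e5
    exact ⟨e2, e3, e5, k1, k2⟩
  have hJ : ∀ y ∈ (sJ : Subgroup (OU K)), f y ∈ (sJ : Subgroup (OU K)) := fun y hy => by
    have k := hW y (Sh.J_W hy)
    have e := congrArg OU.x4 (comm_bot'.1 (cm h (l7.trans l6) h7 (bt h) (lW (Sh.J_W hy))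
      (fun b hb => comm_bot'.2 (m_JR7 hy hb)) (X7 1) (by simp)))
    rw [mem_sW] at k
    simp [k] at e
    simp [k, e]
  have h6 : ∀ y ∈ (sZ6 : Subgroup (OU K)), f y ∈ (sZ6 : Subgroup (OU K)) := fun y hy => by
    obtain ⟨k1, k2, k3⟩ := hD y (Sh.Z6_D hy)
    have e := (hJ (y * y) (by
      rw [mem_sZ6] at hy
      simp [hy, CharTwo.add_self_eq_zero])).2.2.1
    rw [h.mul y (l6 hy) y (l6 hy)] at e
    simp [k1, k2, k3, CharTwo.add_self_eq_zero] at e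
    exact ⟨k1, e, k2, k3⟩
  have hI : ∀ y ∈ (sI : Subgroup (OU K)), f y ∈ (sI : Subgroup (OU K)) := fun y hy => by
    have k := hJ y (Sh.I_J hy)
    have e := congrArg OU.x4 (comm_bot'.1 (cm h l6 h6 (bt h) (lW (Sh.I_W hy))
      (fun b hb => comm_bot'.2 (m_IA hy (Sh.Z6_A hb))) (Y6 1) (by simp)))
    rw [mem_sJ] at k
    simp [k] at e
    simp [k, e]
  refine .step Sh.D_Q (fun s b hb => ?_) hD <| .step Sh.Z6_D (fun s _ hb => Sh.sw (c_Z7 (Sh.D_Z7 hb) s)) h6 <|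
    .step l7 (fun s _ hb => Sh.sw ((show (sZ5 : Subgroup (OU K)) ≤ sR7 from fun _ h => by simp_all)
      (c_Z6 hb s))) h7 <|
    .step (fun _ h => by simp_all) (fun s _ hb => Sh.sw (c_R7 hb s)) hR <|
    .step Sh.W_R (fun s _ hb => Sh.sw (c_R hb s)) hW <|
    .step Sh.J_W (fun s _ hb => Sh.sw (c_Z5 (Sh.W_Z5 hb) s)) hJ (tail hI hY hZ (bt h))
  exact ⟨(c_top s b).1, mul_mem (nm_Q s b hb) (inv_mem hb)⟩

open CfA in
theorem cf_T {f : OU K → OU K} (h : Au sT f) (hZ : ∀ y ∈ (sZ : Subgroup (OU K)), f y ∈ (sZ : Subgroup (OU K))) :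
    Cf f sT := by
  have hY := chT_Y.inv f h
  have hI := chT_I.inv f h
  have hA := chT_A.inv f h
  have hJ7 := chT_J7.inv f h
  have l7 : (sZ7 : Subgroup (OU K)) ≤ sT := fun _ h => h.1
  have lA : (sA : Subgroup (OU K)) ≤ sZ7 := fun _ h => by simp_all
  have l6 := (Sh.Z6_A (K := K)).trans Sh.A_T
  have l5 := (Sh.Z5_Z6 (K := K)).trans l6
  have lJ7 := (Sh.J7_Z5 (K := K)).trans l5
  have lJ := (Sh.J_J7 (K := K)).trans lJ7
  have h7 : ∀ y ∈ (sZ7 : Subgroup (OU K)), f y ∈ (sZ7 : Subgroup (OU K)) := fun y hy => by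
    have k : (f y).x1 = 0 := h.mem y (l7 hy)
    obtain ⟨z, hz, e⟩ := comm_iff.1 (cm h (Sh.I_A.trans Sh.A_T) hI hZ (l7 hy) (fun b hb => c_Z7I hy hb)
      (X5 1) (by simp))
    rw [mem_sZ] at hz
    have e2 := congrArg OU.x6 e
    simp [hz, k] at e2
    exact ⟨k, e2⟩
  have hJ : ∀ y ∈ (sJ : Subgroup (OU K)), f y ∈ (sJ : Subgroup (OU K)) := fun y hy => by
    have k := hJ7 y (Sh.J_J7 hy)
    obtain ⟨z, hz, e⟩ := comm_iff.1 (cm h l7 h7 hY (lJ hy) (fun b hb => c_JZ7 hy hb) (Y2 1) (by simp))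
    rw [mem_sY] at hz
    rw [mem_sJ7] at k
    have e2 := congrArg OU.x5 e
    simp [hz, k] at e2
    simp [k, e2]
  have h6 : ∀ y ∈ (sZ6 : Subgroup (OU K)), f y ∈ (sZ6 : Subgroup (OU K)) := fun y hy => by
    have k := hA y (Sh.Z6_A hy)
    obtain ⟨z, hz, e⟩ := comm_iff.1 (cm h l7 h7 hJ (l6 hy) (fun b hb => c_Z6Z7 hy hb) (Y2 1) (by simp))
    rw [mem_sJ] at hz
    rw [mem_sA] at k
    have e2 := congrArg OU.x7 e
    simp [hz, k] at e2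
    simp [k, e2]
  have h5 : ∀ y ∈ (sZ5 : Subgroup (OU K)), f y ∈ (sZ5 : Subgroup (OU K)) := fun y hy => by
    have k := h6 y (Sh.Z5_Z6 hy)
    obtain ⟨z, hz, e⟩ := comm_iff.1 (cm h lJ7 hJ7 hZ (l5 hy) (fun b hb => c_Z5J7 hy hb) (X7 1) (by simp))
    have e3 := congrArg OU.x4 (comm_bot'.1 (cm h lJ hJ (bt h) (l5 hy)
      (fun b hb => comm_bot'.2 (m_JZ5 hb hy).symm) (X3 1) (by simp)))
    rw [mem_sZ] at hz
    rw [mem_sZ6] at k
    have e2 := congrArg OU.x6 e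
    simp [hz, k] at e2
    simp [k, e2] at e3
    simp [k, e2, e3]
  exact .step l7 (fun s b _ => c_top s b) h7 <| .step lA (fun s _ hb => Sh.sw (Sh.Z6_A (c_Z7 hb s))) hA <|
    .step Sh.Z6_A (fun s _ hb => Sh.sw (c_Z7 (lA hb) s)) h6 <|
    .step Sh.Z5_Z6 (fun s _ hb => Sh.sw (c_Z6 hb s)) h5 <|
    .step Sh.J7_Z5 (fun s _ hb => Sh.sw (Sh.J_J7 (c_Z5 hb s))) hJ7 <|
    .step Sh.J_J7 (fun s _ hb => Sh.sw (c_Z5 (Sh.J7_Z5 hb) s)) hJ (tail hI hY hZ (bt h))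

end Cfsg.Agent.RFS
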