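import Cfsg.Agent.RFS.Defs2
import Cfsg.Agent.OCT.Chase

/-! Project RFS: automorphisms of `Q` that commute with the torus.  See `notes/RFS.md`. -/

set_option autoImplicit false
set_option linter.unusedSectionVars false
set_option linter.unnecessarySeqFocus false

namespace Cfsg.Agent.RFS

open OCT OCT.OU
open scoped commutatorElement

variable {K : Type*} [Field K] [Tits K] [Finite K]

namespace ChQ

theorem fix17 {r : K} (r0 : r ≠ 0) (r1 : r ≠ 1) {b : OU K} (hb : b ∈ (sQ : Subgroup (OU K))) :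
    (tor 1 r b = b → b = X1 b.x1) ∧ (tor (r ^ 2 * σ r) r⁻¹ b = b → b = X7 b.x7) := by
  have n3 : r * σ r ≠ 1 := fun e => r1 (nrm_inj (by simpa using e))
  have n4 : r ^ 2 * σ r ≠ 1 := fun e => r1 (nrm2_inj (by simpa using e))
  have s0 : σ r ≠ 0 := by simpa using r0
  have n5 : r ^ 3 * σ r ^ 2 ≠ 1 := fun e => by
    have e' := congrArg σ e
    simp only [map_mul, map_pow, σσ, map_one] at e'
    exact n3 (by grind)
  have n6 : r ^ 2 * σ r ^ 2 ≠ 1 := fun e => n3 (by grind)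
  obtain ⟨h8, h9⟩ := hb
  refine ⟨fun h => ?_, fun h => ?_⟩
  · rw [show tor 1 r b = ⟨b.x1, r * b.y2, r * σ r * b.x2, r ^ 2 * σ r * b.x3, r * σ r * b.y4,
      r ^ 3 * σ r ^ 2 * b.x4, r ^ 2 * σ r ^ 2 * b.x5, r * σ r * b.y6, r ^ 3 * σ r ^ 2 * b.x6,
      r ^ 2 * σ r * b.x7, 0, 0⟩ by ext <;> simp [h8, h9]] at h
    simp only [OU.ext_iff, mul_left_eq_self₀, r1, n3, n4, n5, n6, false_or, true_and] at h
    obtain ⟨h0, h1, h2, h3, h4, h5, h6, h7, h8', -⟩ := h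
    ext <;> simp [h0, h1, h2, h3, h4, h5, h6, h7, h8', h8, h9]
  · rw [show tor (r ^ 2 * σ r) r⁻¹ b = ⟨r ^ 2 * σ r * b.x1, r * σ r * b.y2, r ^ 3 * σ r ^ 2 * b.x2,
      r ^ 2 * σ r ^ 2 * b.x3, r * σ r * b.y4, r ^ 3 * σ r ^ 2 * b.x4, r ^ 2 * σ r * b.x5, r * b.y6,
      r * σ r * b.x6, b.x7, 0, 0⟩ by ext <;> simp [h8, h9] <;> first | exact Or.inl (by field_simp) | field_simp] at h
    simp only [OU.ext_iff, mul_left_eq_self₀, r1, n3, n4, n5, n6, false_or, true_and] at h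
    obtain ⟨h0, h1, h2, h3, h4, h5, h6, h7, h8', -⟩ := h
    ext <;> simp [h0, h1, h2, h3, h4, h5, h6, h7, h8', h8, h9]

theorem x1_zero {α β : K} (h1 : α ≠ 1) {b : OU K} (h : tor α β b = b) : b.x1 = 0 := by
  have := congrArg OU.x1 h
  rw [tor_x1, mul_left_eq_self₀] at this
  exact this.resolve_left h1

theorem exists_r (hq : 2 < Nat.card K) : ∃ r : K, r ≠ 0 ∧ r ≠ 1 := by
  by_contra! h
  have := Nat.card_le_card_of_surjective (fun b : Bool => if b then (1 : K) else 0) fun a => by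
    by_cases e : a = 0
    exacts [⟨false, e.symm⟩, ⟨true, (h a e).symm⟩]
  simp at this
  omega

variable {ν : OU K → OU K}

theorem fx (hk : ∀ k, ∀ a ∈ (sQ : Subgroup (OU K)), ν (torA k a) = torA k (ν a)) {α β : K} (hα : α ≠ 0)
    (hβ : β ≠ 0) (a a' : OU K) (h : a ∈ (sQ : Subgroup (OU K))) (e : tor α β a = a') : tor α β (ν a) = ν a' :=
  e ▸ (hk (Units.mk0 _ hα, Units.mk0 _ hβ) a h).symm

theorem f6 (hq : 2 < Nat.card K) (hk : ∀ k, ∀ a ∈ (sQ : Subgroup (OU K)), ν (torA k a) = torA k (ν a)) (a : K) :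
    ν (Y6 a) = Y6 (ν (Y6 a)).y6 * X6 (ν (Y6 a)).x6 := by
  obtain ⟨r, r0, r1⟩ := exists_r hq
  have s0 : σ r ≠ 0 := by simpa using r0
  have e := fx hk (mul_ne_zero r0 s0) (inv_ne_zero r0) (Y6 a) (Y6 a) ⟨rfl, rfl⟩ (by ext <;> simp <;> field_simp)
  exact (chase_fix r0 r1 (x1_zero (fun e => r1 (nrm_inj (by simpa using e))) e)).2.2.2 e

theorem core (hq : 2 < Nat.card K) (hT : ∀ a ∈ (sQ : Subgroup (OU K)), ν a ∈ (sQ : Subgroup (OU K)))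
    (hm : ∀ a ∈ (sQ : Subgroup (OU K)), ∀ b ∈ (sQ : Subgroup (OU K)), ν (a * b) = ν a * ν b)
    (hk : ∀ k, ∀ a ∈ (sQ : Subgroup (OU K)), ν (torA k a) = torA k (ν a))
    (x4 : ∀ t, ν (X4 t) = X4 t) (h6 : (ν (Y6 1)).y6 = 1) : ∀ a ∈ (sQ : Subgroup (OU K)), ν a = a := by
  obtain ⟨r, r0, r1⟩ := exists_r hq
  have s0 : σ r ≠ 0 := by simpa using r0
  have n3 : r * σ r ≠ 1 := fun e => r1 (nrm_inj (by simpa using e))
  have σs : ∀ a : K, ∃ b, σ b = a := Finite.surjective_of_injective fun _ _ => σ_inj.1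
  have ns : ∀ a : K, ∃ b, b * σ b = a := Finite.surjective_of_injective fun _ _ => nrm_inj
  have mm : ∀ a b c d : OU K, a ∈ (sQ : Subgroup (OU K)) → b ∈ (sQ : Subgroup (OU K)) →
      c ∈ (sQ : Subgroup (OU K)) → d ∈ (sQ : Subgroup (OU K)) → a * b = c * d → ν a * ν b = ν c * ν d :=
    fun a b c d h1 h2 h3 h4 e => by rw [← hm a h1 b h2, e, hm c h3 d h4]
  have f1 := fun a => (fix17 r0 r1 (hT (X1 a) ⟨rfl, rfl⟩)).1
    (fx hk one_ne_zero r0 _ _ ⟨rfl, rfl⟩ (by ext <;> simp))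
  have f7 := fun a => (fix17 r0 r1 (hT (X7 a) ⟨rfl, rfl⟩)).2
    (fx hk (mul_ne_zero (pow_ne_zero 2 r0) s0) (inv_ne_zero r0) _ _ ⟨rfl, rfl⟩ (by ext <;> simp <;> field_simp))
  have f2 : ∀ a, ν (Y2 a) = Y2 (ν (Y2 a)).y2 * X2 (ν (Y2 a)).x2 := fun a => by
    have e := fx hk r0 (inv_ne_zero r0) (Y2 a) (Y2 a) ⟨rfl, rfl⟩ (by ext <;> simp [r0])
    exact (chase_fix r0 r1 (x1_zero r1 e)).2.1 e
  have f4 : ∀ a, ν (Y4 a) = Y4 (ν (Y4 a)).y4 * X4 (ν (Y4 a)).x4 := fun a => by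
    have e := fx hk (inv_ne_zero (mul_ne_zero r0 s0)) s0 (Y4 a) (Y4 a) ⟨rfl, rfl⟩ (by ext <;> simp <;> field_simp)
    exact (chase_fix r0 r1 (x1_zero (fun e => n3 (inv_eq_one.1 e)) e)).2.2.1 e
  have f6 := f6 hq hk
  have y4 : ∀ a, ν (Y4 a) = Y4 a := by
    have e : ∀ a, (ν (Y4 a)).y4 = a := fun a => nrm_inj (by
      have := congrArg OU.x4 ((hm (Y4 a) ⟨rfl, rfl⟩ (Y4 a) ⟨rfl, rfl⟩).symm.trans
        ((congrArg ν (by ext <;> simp <;> grind)).trans (x4 (a * σ a))))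
      rw [f4] at this
      simp at this
      grind)
    have k := chase_kill r0 r1 (fun a => (ν (Y4 a)).x4) (fun a b => by
      have := congrArg OU.x4 (mm (Y4 a) (Y4 b) (Y4 (a + b)) (X4 (a * σ b)) ⟨rfl, rfl⟩ ⟨rfl, rfl⟩ ⟨rfl, rfl⟩
        ⟨rfl, rfl⟩ (by ext <;> simp))
      rw [f4 a, f4 b, f4 (a + b), x4, e, e, e] at this
      simp at this
      grind) fun a ha => by
      obtain ⟨b, rfl⟩ := σs a
      have := congrArg OU.x4 (fx hk (α := b) (by simpa using ha) one_ne_zero (Y4 1) (Y4 (σ b)) ⟨rfl, rfl⟩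
        (by ext <;> simp))
      simp at this ⊢
      grind
    intro a
    rw [f4, e, k]
    ext <;> simp
  have e6 : ∀ a, (ν (Y6 a)).y6 = a := fun a => by
    by_cases ha : a = 0
    · have := congrArg OU.y6 (hm (Y6 a) ⟨rfl, rfl⟩ (Y6 a) ⟨rfl, rfl⟩)
      rw [show Y6 a * Y6 a = Y6 a by ext <;> simp [ha], f6] at this
      simp at this
      grind
    · have := congrArg OU.y6 (fx hk ha one_ne_zero (Y6 1) (Y6 a) ⟨rfl, rfl⟩ (by ext <;> simp))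
      simpa [h6] using this.symm
  have x6 : ∀ a, ν (X6 a) = X6 a := fun a => by
    obtain ⟨a, rfl⟩ := ns a
    rw [show X6 (a * σ a) = Y6 a * Y6 a by ext <;> simp <;> grind, hm _ ⟨rfl, rfl⟩ _ ⟨rfl, rfl⟩, f6, e6]
    ext <;> simp <;> grind
  have y6 : ∀ a, ν (Y6 a) = Y6 a := by
    have k := chase_kill r0 r1 (fun a => (ν (Y6 a)).x6) (fun a b => by
      have := congrArg OU.x6 (mm (Y6 a) (Y6 b) (Y6 (a + b)) (X6 (a * σ b)) ⟨rfl, rfl⟩ ⟨rfl, rfl⟩ ⟨rfl, rfl⟩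
        ⟨rfl, rfl⟩ (by ext <;> simp))
      rw [f6 a, f6 b, f6 (a + b), x6, e6, e6, e6] at this
      simp at this
      grind) fun a ha => by
      have := congrArg OU.x6 (fx hk ha one_ne_zero (Y6 1) (Y6 a) ⟨rfl, rfl⟩ (by ext <;> simp))
      simp at this ⊢
      grind
    intro a
    rw [f6, e6, k]
    ext <;> simp
  have cm : ∀ a b c : OU K, a ∈ (sQ : Subgroup (OU K)) → b ∈ (sQ : Subgroup (OU K)) →
      c ∈ (sQ : Subgroup (OU K)) → ν a = a → ν b = b → b * a = c * (a * b) → ν c = c :=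
    fun a b c h1 h2 h3 e1 e2 e => by
      have := mm b a c (a * b) h2 h1 h3 (mul_mem h1 h2) e
      rw [hm a h1 b h2, e1, e2, e] at this
      exact (mul_right_cancel this).symm
  have x5 : ∀ a, ν (X5 a) = X5 a := fun a =>
    cm (Y4 a) (Y6 1) _ ⟨rfl, rfl⟩ ⟨rfl, rfl⟩ ⟨rfl, rfl⟩ (y4 _) (y6 _) (by ext <;> simp)
  have e2 : ∀ a, (ν (Y2 a)).y2 = a := fun a => by
    have := congrArg OU.x4 (mm (X5 1) (Y2 a) (X4 a) (Y2 a * X5 1) ⟨rfl, rfl⟩ ⟨rfl, rfl⟩ ⟨rfl, rfl⟩ (by simp)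
      (by ext <;> simp))
    rw [hm _ ⟨rfl, rfl⟩ _ ⟨rfl, rfl⟩, f2, x4, x5] at this
    simpa using this
  have x2 : ∀ a, ν (X2 a) = X2 a := fun a => by
    obtain ⟨a, rfl⟩ := ns a
    rw [show X2 (a * σ a) = Y2 a * Y2 a by ext <;> simp <;> grind, hm _ ⟨rfl, rfl⟩ _ ⟨rfl, rfl⟩, f2, e2]
    ext <;> simp <;> grind
  have y2 : ∀ a, ν (Y2 a) = Y2 a := by
    have k := chase_kill r0 r1 (fun a => (ν (Y2 a)).x2) (fun a b => by
      have := congrArg OU.x2 (mm (Y2 a) (Y2 b) (Y2 (a + b)) (X2 (a * σ b)) ⟨rfl, rfl⟩ ⟨rfl, rfl⟩ ⟨rfl, rfl⟩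
        ⟨rfl, rfl⟩ (by ext <;> simp))
      rw [f2 a, f2 b, f2 (a + b), x2, e2, e2, e2] at this
      simp at this
      grind) fun a ha => by
      have := congrArg OU.x2 (fx hk ha one_ne_zero (Y2 1) (Y2 a) ⟨rfl, rfl⟩ (by ext <;> simp))
      simp at this ⊢
      grind
    intro a
    rw [f2, e2, k]
    ext <;> simp
  have x3 : ∀ a, ν (X3 a) = X3 a := fun a =>
    cm (Y2 a) (Y4 1) _ ⟨rfl, rfl⟩ ⟨rfl, rfl⟩ ⟨rfl, rfl⟩ (y2 _) (y4 _) (by ext <;> simp)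
  have x1 : ∀ a, ν (X1 a) = X1 a := fun a => by
    have := congrArg OU.x2 (mm (Y4 1) (X1 a) (X2 a) (X1 a * Y4 1) ⟨rfl, rfl⟩ ⟨rfl, rfl⟩ ⟨rfl, rfl⟩ (by simp)
      (by ext <;> simp))
    rw [hm _ ⟨rfl, rfl⟩ _ ⟨rfl, rfl⟩, f1, x2, y4] at this
    rw [f1, show (ν (X1 a)).x1 = a by simpa using this]
  have x7 : ∀ a, ν (X7 a) = X7 a := fun a => by
    have := congrArg OU.x6 (mm (X7 a) (Y4 1) (X6 a) (Y4 1 * X7 a) ⟨rfl, rfl⟩ ⟨rfl, rfl⟩ ⟨rfl, rfl⟩ (by simp)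
      (by ext <;> simp))
    rw [hm _ ⟨rfl, rfl⟩ _ ⟨rfl, rfl⟩, f7, x6, y4] at this
    rw [f7, show (ν (X7 a)).x7 = a by simpa using this]
  intro a ha
  have st : ∀ b c : OU K, b ∈ (sQ : Subgroup (OU K)) → ν b = b → c ∈ (sQ : Subgroup (OU K)) ∧ ν c = c →
      b * c ∈ (sQ : Subgroup (OU K)) ∧ ν (b * c) = b * c :=
    fun b c h1 h2 h3 => ⟨mul_mem h1 h3.1, by rw [hm b h1 c h3.1, h2, h3.2]⟩
  rw [nf a, ha.1, ha.2, show Y8 (0 : K) = 1 from rfl, show X8 (0 : K) = 1 from rfl, mul_one, mul_one]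
  exact (st _ _ ⟨rfl, rfl⟩ (x1 _) (st _ _ ⟨rfl, rfl⟩ (y2 _) (st _ _ ⟨rfl, rfl⟩ (x2 _) (st _ _ ⟨rfl, rfl⟩ (x3 _)
    (st _ _ ⟨rfl, rfl⟩ (y4 _) (st _ _ ⟨rfl, rfl⟩ (x4 _) (st _ _ ⟨rfl, rfl⟩ (x5 _) (st _ _ ⟨rfl, rfl⟩ (y6 _)
      (st _ _ ⟨rfl, rfl⟩ (x6 _) ⟨⟨rfl, rfl⟩, x7 _⟩))))))))).2

end ChQ

theorem chaseQ (hq : 2 < Nat.card K) {ω : OU K → OU K} (h : Au sQ ω)
    (hk : ∀ k, ∀ a ∈ (sQ : Subgroup (OU K)), ω (torA k a) = torA k (ω a)) (hz : ∀ t, ω (X4 t) = X4 t) :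
    ∃ s : Kˣ, ∀ a ∈ (sQ : Subgroup (OU K)), ω a = del (s : K) a := by
  have c0 : (ω (Y6 1)).y6 ≠ 0 := fun e => by
    have k := h.mul (Y6 1) ⟨rfl, rfl⟩ (Y6 1) ⟨rfl, rfl⟩
    rw [ChQ.f6 hq hk, e, show (Y6 0 * X6 (ω (Y6 1)).x6) * (Y6 0 * X6 (ω (Y6 1)).x6) = X4 0 by
      ext <;> simp [CharTwo.add_self_eq_zero], ← hz] at k
    simpa using congrArg OU.x6 (h.inj _ (mul_mem ⟨rfl, rfl⟩ ⟨rfl, rfl⟩) _ ⟨rfl, rfl⟩ k)
  refine ⟨Units.mk0 _ c0, fun a ha => ?_⟩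
  have := ChQ.core hq (ν := fun a => torA (dk (Units.mk0 _ c0)⁻¹) (ω a))
    (fun a ha => by rw [torA_dk]; simp [(h.mem a ha).1, (h.mem a ha).2]) (fun a ha b hb => by rw [h.mul a ha b hb, map_mul])
    (fun k a ha => by
      rw [hk k a ha, ← MulAut.mul_apply, ← MulAut.mul_apply, ← map_mul, ← map_mul, mul_comm])
    (fun t => by rw [hz, torA_dk]; ext <;> simp) (by rw [torA_dk]; simp [c0]) a ha
  rw [← torA_dk]
  conv_rhs => rw [← this]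
  rw [← MulAut.mul_apply, ← map_mul, ← map_mul, mul_inv_cancel, map_one, map_one, MulAut.one_apply]

end Cfsg.Agent.RFS
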