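import Cfsg.Agent.RFS.Bas
import Cfsg.Agent.RFS.AbsB
import Cfsg.Agent.RFS.Sh

/-! Project RFS: subgroups of `T`, the centre.  See `notes/RFS.md`. -/

set_option autoImplicit false
set_option linter.unusedSectionVars false
set_option linter.unusedSimpArgs false
set_option linter.unusedTactic false
set_option linter.unreachableTactic false
set_option linter.unnecessarySeqFocus false

namespace Cfsg.Agent.RFS

open OCT OCT.OU Sh
open scoped commutatorElement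

variable {K : Type*} [Field K] [Tits K] [Finite K] {E : Subgroup (OU K)}

theorem et1_Y (h : ES sT E) : sY ≤ Om E := fun y hy =>
  have hc : ∀ e ∈ E, y * e = e * y := fun _ he => m_YT hy (h.le he)
  ⟨h.cen y (A_T (I_A (Y_I hy))) hc, sq_W (I_W (Y_I hy)), hc⟩

theorem et1_A (h : ES sT E) : Om E ≤ sA := fun _ hv => inv_A hv.2.1 (h.le hv.1)

theorem et1_I (h : ES sT E) : sI ≤ E := fun _ hx =>
  ch1 h (A_T (I_A hx)) Ch.om (fun b _ => et1_Y h (c_I hx b)) fun _ hb => m_IA hx (et1_A h hb)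

theorem etJ0 (h : ES sT E) {v : OU K} (hv : v ∈ Om E) (h8 : v.x8 = 0) : v.x2 = 0 := by
  by_contra h2
  have h1 : v.x1 = 0 := h.le hv.1
  obtain ⟨h5, h7⟩ := inv_Z6 hv.2.1 h1 h8
  have h7' : v.x7 = 0 := by simpa [h2] using h7
  rw [mem_sZ5] at h5
  have hD : E ≤ sD := by
    intro e he
    have k1 : e.x1 = 0 := h.le he
    have e3 := congrArg OU.x3 (hv.2.2 e he)
    simp [h5, h7', k1, add_comm, h2] at e3
    have e5 := congrArg OU.x5 (hv.2.2 e he)
    simp [h5, h7', k1, add_comm, h2, e3] at e5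
    exact ⟨k1, e3, e5⟩
  have hinv : ∀ d ∈ E, d * d = 1 → d ∈ (sW : Subgroup (OU K)) := by
    intro d hd hdd
    obtain ⟨k1, k2, k3⟩ := hD hd
    obtain ⟨k5, -⟩ := inv_Z6 hdd k1 k3
    rw [mem_sZ5] at k5
    have e4 := congrArg OU.x4 (hv.2.2 d hd)
    simp [h5, h7', k5, add_comm, h2] at e4
    simp [k5, e4]
  have hW : sW ≤ E := fun x hx => ch1 h (R_T (W_R hx)) Ch.om
    (fun b hb => et1_Y h (Z_Y (c_WQ hx (D_Q (hD hb))))) fun b hb => m_WW hx (hinv b hb.1 hb.2.1)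
  have cW : Ch E sW := by
    have e : N2 E E E = sW := le_antisymm (N2_le fun a ha haa _ => hinv a ha haa)
      fun a ha => mem_N2 (hW ha) (sq_W ha) fun b hb => cm_self (hW ha) hb
    exact e ▸ Ch.n2 Ch.top Ch.top Ch.top
  obtain ⟨-, -, cZ⟩ := of_W h R_T cW
  have hx : X7 (1 : K) ∈ E := ch2 h (by simp) cW cZ (fun b hb => c_QQ (by simp) (D_Q (hD hb)))
    (fun b hb => sw (c_WQ hb (by simp))) fun b hb => (m_Z hb _).symm
  have e4 := congrArg OU.x4 (hv.2.2 _ hx)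
  simp [h5, h7', add_comm, h2] at e4

theorem etJ1 (h : ES sT E) {v : OU K} (hv : v ∈ Om E) : v.x8 = 0 := by
  by_contra h8
  obtain ⟨k1, k2, k3⟩ := et1_A h hv
  obtain ⟨E', -, -, h3, -, h'⟩ := h.conj (X1 (v.y6 / v.x8))
    (fun a ha => by rw [mem_sT] at ha; simp [ha, CharTwo.add_self_eq_zero])
    (fun a ha => by rw [mem_sT] at ha; simp [ha, CharTwo.add_self_eq_zero])
  have hv' := h3 v hv
  set v' := X1 (v.y6 / v.x8) * v * (X1 (v.y6 / v.x8))⁻¹ with hv'e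
  have l8 : v'.x8 = v.x8 := by simp [hv'e, k3]
  have l6 : v'.y6 = 0 := by
    simp [hv'e, k1, k2, k3]
    field_simp
    grind
  obtain ⟨m1, m2, m3⟩ := et1_A h' hv'
  have l8' : v'.x8 ≠ 0 := l8 ▸ h8
  have e5 := congrArg OU.x5 hv'.2.1
  simp [m1, m2, m3, l6, l8', CharTwo.add_self_eq_zero] at e5
  obtain ⟨E'', -, -, h4, -, h''⟩ := h'.mu
  have := etJ0 h'' (h4 v' hv') (by simpa using e5)
  exact l8' (by simpa using this)

theorem etJ (h : ES sT E) : Om E ≤ sJ7 ∧ sJ7 ≤ E := by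
  have h1 : Om E ≤ sJ7 := by
    intro v hv
    have h8 := etJ1 h hv
    have h2 := etJ0 h hv h8
    obtain ⟨h5, -⟩ := inv_Z6 hv.2.1 (h.le hv.1) h8
    rw [mem_sZ5] at h5
    simp [h5, h2]
  refine ⟨h1, fun x hx => ?_⟩
  have hI : sI ≤ N2 E E (Om E) := fun a ha =>
    mem_N2 (et1_I h ha) (sq_W (I_W ha)) fun b _ => et1_Y h (c_I ha b)
  have hA : N2 E E (Om E) ≤ sA := N2_le fun a ha haa _ => inv_A haa (h.le ha)
  exact ch2 h (A_T (Z6_A (Z5_Z6 (J7_Z5 hx)))) (Ch.n2 Ch.top Ch.top Ch.om) Ch.om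
    (fun b hb => hI (c_J7T hx (h.le hb))) (fun b hb => et1_Y h (c_J7A hx (hA hb)))
    fun b hb => m_J7 hx (h1 hb)

omit [Finite K] in
theorem et1_cR {b w : OU K} (hb : b ∈ (sR : Subgroup (OU K))) (hw : w ∈ (sJ7 : Subgroup (OU K)))
    (h7 : w.x7 ≠ 0) (e : b * w = w * b) : b.x2 = 0 ∧ b.y4 = 0 := by
  rw [mem_sR] at hb
  rw [mem_sJ7] at hw
  have e4 := congrArg OU.x4 e
  have e6 := congrArg OU.x6 e
  simp [hb, hw, add_comm, h7] at e4 e6
  exact ⟨e4, e6⟩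

theorem etI0 (h : ES sT E) {v : OU K} (hv : v ∈ Om E) : v.x7 = 0 := by
  by_contra h7
  obtain ⟨h1, h2⟩ := etJ h
  refine h.off sR (fun b hb hbE => ⟨R_T hb, fun e he => nm_of (h2 (c_AT (R_A hb) (h.le he))) he, hbE,
      et1_I h (Y_I (Z_Y (sq_R hb)))⟩) (fun p : K × K => X2 p.1 * Y4 p.2) (fun p => by simp)
    (fun p p' hp he => hp ?_) OU.x7 (fun v hv w _ => ?_) (fun b hb hbE w hw => ⟨fun e => ?_, fun e => ?_⟩)
    ⟨v, hv, h7⟩
  · obtain ⟨e1, e2⟩ := et1_cR (by simp) (h1 hv) h7 (hv.2.2 _ he).symm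
    simp [CharTwo.add_eq_zero] at e1 e2
    exact Prod.ext e1 e2
  · have := h1 hv
    rw [mem_sJ7] at this
    simp [this]
  · by_contra k7
    obtain ⟨e1, e2⟩ := et1_cR hb (h1 hw) k7 e
    rw [mem_sR] at hb
    exact hbE (h2 (by simp [hb, e1, e2]))
  · have := h1 hw
    rw [mem_sJ7] at this
    exact (m_WR (by simp [this, e]) hb).symm

theorem etI (h : ES sT E) : Om E ≤ sI := by
  intro v hv
  have h7 := etI0 h hv
  have h1 := (etJ h).1 hv
  rw [mem_sJ7] at h1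
  obtain ⟨E', -, -, h4, -, h'⟩ := h.mu
  have h3 := etI0 h' (h4 v hv)
  simp [h1] at h3
  simp [h1, h7, h3]

theorem etA (h : ES sT E) : ¬ E ≤ sA := by
  intro hA
  have h1 : sI ≤ Om E := fun x hx => ⟨et1_I h hx, sq_W (I_W hx), fun e he => m_IA hx (hA he)⟩
  have h2 := etI h
  have h3 : sA ≤ E := fun x hx => ch1 h (A_T hx) Ch.om (fun b hb => h1 (c_AA hx (hA hb)))
    fun b hb => (m_IA (h2 hb) hx).symm
  refine h.off sT (fun b hb hbE => ⟨hb, fun e he => nm_of (h3 (c_TT hb (h.le he))) he, hbE, h3 ?_⟩)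
    (fun p : K × K => Y2 p.1 * Y8 p.2) (fun p => by simp)
    (fun p p' hp he => hp ?_) OU.x5 (fun v hv w hw => ?_) (fun b hb hbE w hw => ⟨fun e => ?_, fun e => ?_⟩)
    ⟨X5 1, h1 (by simp), by simp⟩
  · rw [mem_sT] at hb
    simp [hb, CharTwo.add_self_eq_zero]
  · obtain ⟨-, e1, e2⟩ := hA he
    simp [CharTwo.add_eq_zero] at e1 e2
    exact Prod.ext e1 e2
  · have := h2 hv
    rw [mem_sI] at this
    simp [this]
  · by_contra k5
    have hw' := h2 hw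
    rw [mem_sI] at hw'
    rw [mem_sT] at hb
    have e4 := congrArg OU.x4 e
    have e6 := congrArg OU.x6 e
    simp [hb, hw', add_comm, k5] at e4 e6
    exact hbE (h3 ⟨hb, e4, e6⟩)
  · have hw' := h2 hw
    rw [mem_sI] at hw'
    exact (m_YT (by simp [hw', e]) hb).symm

end Cfsg.Agent.RFS
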