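import Cfsg.Agent.RFS.Cf

/-! Project RFS: consequences of saturation.  See `notes/RFS.md`. -/

set_option autoImplicit false
set_option linter.unusedSectionVars false

namespace Cfsg.Agent.RFS

open OCT OCT.OU
open scoped commutatorElement

variable {K : Type*} [Field K] [Tits K] [Finite K] {G : Type*} [Group G] {u : OU K →* G} [Finite G]

namespace Ext

open SR3

theorem two_map (u : OU K →* G) (B : Subgroup (OU K)) : IsPGroup 2 (B.map u) :=
  (two_OU.to_le le_top).map u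

theorem two_range (u : OU K →* G) : IsPGroup 2 u.range := by
  rw [MonoidHom.range_eq_map]; exact two_map u ⊤

theorem range_nm {B : Subgroup (OU K)} (h : ∀ s : OU K, ∀ b ∈ B, s * b * s⁻¹ ∈ B) :
    u.range ≤ nm (B.map u) := by
  rintro _ ⟨s, rfl⟩
  exact nm_of_ind (f := fun a => s * a * s⁻¹) (h s) fun a _ => by simp

theorem chain {A B : Subgroup (OU K)} {f : OU K → OU K} {x : G}
    (hx : ∀ a ∈ A, x * u a * x⁻¹ = u (f a)) (hc : Cf f B) (hB : B ≤ A) (hf : ∀ b ∈ B, f b ∈ B) :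
    ∃ L : Subgroup G, u.range ≤ L ∧ ce (A.map u) ≤ L ∧ x ∈ nm L ∧
      ∀ g ∈ L, ∃ m, g ^ 2 ^ m ∈ ce (B.map u) := by
  have : Fact (Nat.Prime 2) := ⟨Nat.prime_two⟩
  induction hc with
  | bot =>
    refine ⟨⊤, le_top, le_top, mem_nm_of_conj fun _ _ => trivial, fun g _ => ⟨0, mem_ce.2 ?_⟩⟩
    intro y hy
    rw [Subgroup.map_bot, Subgroup.mem_bot] at hy
    rw [hy, one_mul, mul_one]
  | @step B C hCB h1 h2 _ ih =>
    obtain ⟨L, l1, l2, l3, l4⟩ := ih (hCB.trans hB) h2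
    refine ⟨L ⊓ St (B.map u : Subgroup G) (C.map u), le_inf l1 (le_St (range_nm fun s c hc => ?_) ?_),
      le_inf l2 (ce_le_St (Subgroup.map_mono hB) (Subgroup.map_mono (hCB.trans hB))),
      nm_inf l3 (nm_St (nm_of_ind hf fun a ha => hx a (hB ha))
        (nm_of_ind h2 fun a ha => hx a (hB (hCB ha)))), fun g hg => ?_⟩
    · rw [conj_eq_comm]; exact mul_mem (h1 s c (hCB hc)) hc
    · rintro _ ⟨s, rfl⟩ _ ⟨b, hb, rfl⟩
      exact ⟨_, h1 s b hb, map_commutatorElement u s b⟩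
    · obtain ⟨m, hm⟩ := l4 g (Subgroup.mem_inf.1 hg).1
      obtain ⟨n, hn⟩ := St_pow (Z := ⊥) (two_map u B) (Subgroup.map_mono hCB)
        (pow_mem (Subgroup.mem_inf.1 hg).2 (2 ^ m)) (by rw [St_bot]; exact hm)
      exact ⟨m + n, by rwa [St_bot, ← pow_mul, ← pow_add] at hn⟩

theorem loc (h : Sat u) {B : Subgroup (OU K)} (hB : ∀ s : OU K, ∀ b ∈ B, s * b * s⁻¹ ∈ B) :
    Loc 2 u.range (B.map u) := by
  have : Fact (Nat.Prime 2) := ⟨Nat.prime_two⟩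
  have := loc_of (two_range u) h.sat (H91.isFullyNormalized_of_normal (groupFusionSystem u.range)
    (P := B.map u) (Subgroup.map_le_range u B) (range_nm hB))
  rwa [inf_eq_left.2 (range_nm hB)] at this

theorem iter {F : OU K → OU K} {x : G} (hx : ∀ a, x * u a * x⁻¹ = u (F a)) (m : ℕ) (a : OU K) :
    x ^ m * u a * (x ^ m)⁻¹ = u (F^[m] a) := by
  induction m with
  | zero => simp
  | succ m ih => rw [Function.iterate_succ_apply', ← hx, ← ih, pow_succ']; group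

end Ext

theorem ext_cf (hu : Function.Injective u) {A : Subgroup (OU K)} (h : SR3.Loc 2 u.range (A.map u))
    {f : OU K → OU K} (hf : Fa u A f) (hc : Cf f A) : ∃ F, Fa u ⊤ F ∧ ∀ a ∈ A, F a = f a := by
  have : Fact (Nat.Prime 2) := ⟨Nat.prime_two⟩
  obtain ⟨x, hx⟩ := hf.ind
  have xn : x ∈ SR3.nm (A.map u) := nm_of_ind hf.au.mem hx
  obtain ⟨L, l1, l2, l3, l4⟩ := Ext.chain hx hc le_rfl hf.au.mem
  have m1 : u.range ≤ L ⊓ SR3.nm (A.map u) := le_inf l1 h.norm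
  obtain ⟨l, hl, e⟩ := h.frat (L ⊓ SR3.nm (A.map u)) m1 (le_inf l2 (SR3.ce_le_nm le_rfl))
    inf_le_right x xn (SR3.nm_inf l3 (SR3.nm_nm xn))
  have m2 := h.max (K := SR3.ce (A.map u)) le_rfl (fun _ hg => SR3.nm_ce hg) m1 inf_le_right
    (fun g hg => l4 g (Subgroup.mem_inf.1 hg).1) hl
  rw [inf_eq_left.2 (SR3.ce_le_nm le_rfl)] at m2
  obtain ⟨s, hs, c, hc', rfl⟩ := (SR3.mem_sup_of_nm fun g hg => SR3.nm_ce (h.norm hg)).1 m2
  have m3 : x * (s * c) * s⁻¹ ∈ SR3.nm ((⊤ : Subgroup (OU K)).map u) := by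
    rw [← MonoidHom.range_eq_map]
    exact mul_mem e (inv_mem (Subgroup.le_normalizer hs))
  obtain ⟨F, hF, eF⟩ := Fa.of_nm hu m3
  refine ⟨F, hF, fun a ha => hu ?_⟩
  have m4 := SR3.mem_ce.1 (SR3.conj_mem (SR3.nm_ce (h.norm hs)) hc') (u a) ⟨a, ha, rfl⟩
  rw [← eF a trivial, ← hx a ha]
  calc x * (s * c) * s⁻¹ * u a * (x * (s * c) * s⁻¹)⁻¹
      = x * (s * c * s⁻¹ * u a) * (x * (s * c) * s⁻¹)⁻¹ := by group
    _ = x * u a * x⁻¹ := by rw [← m4]; group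

theorem Sat.ctx (h : Sat u) : Ctx u := by
  have : Fact (Nat.Prime 2) := ⟨Nat.prime_two⟩
  refine ⟨h.inj, fun F hF => ?_,
    fun f hf hY => ext_cf h.inj (Ext.loc h nm_Q) hf (cf_Q hf.au hY),
    fun f hf hZ => ext_cf h.inj (Ext.loc h nm_T) hf (cf_T hf.au hZ)⟩
  obtain ⟨x, hx⟩ := hF.ind
  have xn : x ∈ SR3.nm u.range := by
    rw [MonoidHom.range_eq_map]; exact nm_of_ind hF.au.mem hx
  obtain ⟨m, hm, e⟩ := (SR3.Rows.loc_top (Ext.two_range u) h.sat).cop xn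
  obtain ⟨_, ⟨s, rfl⟩, c, hc, e⟩ :=
    (SR3.mem_sup_of_nm fun g hg => SR3.nm_ce (Subgroup.le_normalizer hg)).1 e
  refine ⟨m, Nat.coprime_two_right.1 hm, s, fun a => h.inj ?_⟩
  rw [← Ext.iter (fun a => hx a trivial), ← e, map_mul, map_mul, map_inv]
  calc u s * c * u a * (u s * c)⁻¹ = u s * (c * u a) * c⁻¹ * (u s)⁻¹ := by group
    _ = _ := by rw [← SR3.mem_ce.1 hc (u a) ⟨a, rfl⟩]; group

end Cfsg.Agent.RFS
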