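import Cfsg.Agent.RFS.Chr

/-! Project RFS: the reflection `m`, `q = 2`.  See `notes/RFS.md`. -/

set_option autoImplicit false
set_option linter.unusedSectionVars false
set_option linter.unusedSimpArgs false

namespace Cfsg.Agent.RFS

open OCT OCT.OU
open scoped commutatorElement

variable {K : Type*} [Field K] [Tits K] [Finite K]

namespace MT2

variable {μ : OU K → OU K} {A a b a' b' : OU K}

/-- `μ` maps `a ∈ T` to `b` -/
def R (μ : OU K → OU K) (a b : OU K) : Prop := a.x1 = 0 ∧ μ a = b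

theorem mul (s : SwA μ A) (h : R μ a b) (h' : R μ a' b') : R μ (a * a') (b * b') :=
  ⟨by simp [h.1, h'.1], by rw [s.mul _ _ h.1 h'.1, h.2, h'.2]⟩

theorem symm (s : SwA μ A) (h : R μ a b) : R μ b a := h.2 ▸ ⟨s.mem a h.1, s.mm a h.1⟩

theorem one (s : SwA μ A) : R μ 1 1 := ⟨rfl, by simpa using s.mul 1 1 rfl rfl⟩

theorem uniq (h : R μ a b) (h' : R μ a' b') (e : a = a') : b = b' := by rw [← h.2, ← h'.2, e]

theorem inv (s : SwA μ A) (h : R μ a b) : R μ a⁻¹ b⁻¹ :=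
  have h' : R μ a⁻¹ _ := ⟨by simp [h.1], rfl⟩
  ⟨h'.1, eq_inv_of_mul_eq_one_left (uniq (mul s h' h) (one s) (inv_mul_cancel a))⟩

theorem hA (s : SwA μ A) : R μ (Y2 1) A := ⟨rfl, s.hA⟩

theorem s4 (s : SwA μ A) : R μ (X4 1) (X6 1) := ⟨rfl, s.s4⟩

theorem fix (s : SwA μ A) : R μ (X1 1 * A * X1 1) (X1 1 * A * X1 1) := by
  have xy : (X1 1 * Y2 1 * X1 1 : OU K) = Y2 1 := by ext <;> simp [CharTwo.add_self_eq_zero]
  have := s.br (Y2 1) rfl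
  rw [xy, s.hA] at this
  exact ⟨by simp [(symm s (hA s)).1, CharTwo.add_self_eq_zero], this.symm⟩

theorem conj (s : SwA μ A) (t : OU K) (h0 : t.x1 = 0) (h1 : t * X1 1 * t⁻¹ = X1 1) (h2 : t⁻¹ * Y2 1 * t = Y2 1) :
    SwA (fun a => t * μ (t⁻¹ * a * t) * t⁻¹) (t * A * t⁻¹) := by
  have k : ∀ a : OU K, a.x1 = 0 → (t⁻¹ * a * t).x1 = 0 := fun a ha => by simp [h0, ha]
  refine ⟨fun a ha => by simp [h0, s.mem _ (k a ha)], fun a b ha hb => ?_, fun a ha => ?_, fun a ha => ?_, ?_,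
    by simp only [h2, s.hA]⟩
  · rw [show t⁻¹ * (a * b) * t = t⁻¹ * a * t * (t⁻¹ * b * t) by group, s.mul _ _ (k a ha) (k b hb)]; group
  · simp only [mul_assoc, inv_mul_cancel_left, inv_mul_cancel, mul_one]
    rw [← mul_assoc t⁻¹, s.mm _ (k a ha)]; group
  · have e := s.br _ (k a ha)
    generalize (X1 1 : OU K) = x at h1 e ⊢
    have h1' : t⁻¹ * x * t = x := by nth_rewrite 1 [← h1]; group
    rw [show t⁻¹ * (x * a * x) * t = t⁻¹ * x * t * (t⁻¹ * a * t) * (t⁻¹ * x * t) by group,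
      show t⁻¹ * (x * (t * μ (t⁻¹ * a * t) * t⁻¹) * x) * t = t⁻¹ * x * t * μ (t⁻¹ * a * t) * (t⁻¹ * x * t) by group,
      h1', ← e]
    nth_rewrite 1 [← h1]
    nth_rewrite 4 [← h1]
    group
  · have e4 : t⁻¹ * X4 1 * t = X4 1 := by simpa using bru_cZ t⁻¹ (x := X4 1) (by simp)
    have e6 : t * X6 1 * t⁻¹ = X6 1 := by
      rw [mul_inv_eq_iff_eq_mul]; exact sT_sY_comm (a := t) h0 (by simp)
    simp only [e4, s.s4, e6]

theorem tw (s : SwA μ A) {β : OU K →* OU K} (ββ : ∀ a, β (β a) = a)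
    (h0 : ∀ a, (β a).x1 = a.x1) (h1 : β (X1 1) = X1 1) (h4 : β (X4 1) = X4 1) (h6 : β (X6 1) = X6 1) {A' : OU K}
    (hA : R μ (β (Y2 1)) A') : SwA (fun a => β (μ (β a))) (β A') := by
  have k : ∀ a : OU K, a.x1 = 0 → (β a).x1 = 0 := fun a ha => (h0 a).trans ha
  refine ⟨fun a ha => k _ (s.mem _ (k a ha)), fun a b ha hb => ?_, fun a ha => ?_, fun a ha => ?_, ?_,
    congrArg β hA.2⟩
  · rw [map_mul, s.mul _ _ (k a ha) (k b hb), map_mul]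
  · rw [ββ, s.mm _ (k a ha), ββ]
  · simp only [map_mul, h1, ββ]
    rw [← s.br _ (k a ha), map_mul, map_mul, h1]
  · rw [h4, s.s4, h6]

theorem base (s : SwA μ A) (hq : Nat.card K = 2) : A.x1 = 0 ∧ A.y2 = 0 ∧ A.y8 = 1 := by
  have h01 := TwoA.zero_or_one hq
  have h1 : A.x1 = 0 := (symm s (hA s)).1
  have au : Au sT μ := .of_inj s.mem (fun a ha b hb => s.mul a b ha hb) fun a ha b hb e => by
    rw [← s.mm a ha, e, s.mm b hb]
  have hF := chT_I.inv μ au (X5 1) (by simp)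
  have e : R μ (X5 1) (μ (X5 1)) := ⟨rfl, rfl⟩
  generalize μ (X5 1) = F at hF e
  have k := uniq (mul s (hA s) e) (mul s (s4 s) (mul s e (hA s)))
    (by ext <;> simp [CharTwo.add_self_eq_zero])
  replace hF := mem_sI.1 hF
  have k4 := congrArg OU.x4 k
  have k6 := congrArg OU.x6 k
  simp [hF, h1] at k4 k6
  have e5 : F.x5 * A.y8 = 1 := by grind
  have e2 : F.x5 * A.y2 = 0 := by grind
  rcases h01 F.x5 with e | e <;> simp_all

/-- the normalized situation -/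
theorem fin (s : SwA μ A) (hq : Nat.card K = 2) (h3 : A.x3 = 0) (h4 : A.y4 = 0) (h4' : A.x4 = 0) (h5 : A.x5 = 0)
    (h6 : A.y6 = 0) (h6' : A.x6 = 0) : A = Y8 1 := by
  have h01 := TwoA.zero_or_one hq
  obtain ⟨h1, h2, h8⟩ := base s hq
  have a2 := mul s (hA s) (hA s)
  have k := uniq (mul s a2 a2) (one s) (by ext <;> simp [CharTwo.add_self_eq_zero])
  obtain ⟨r, p, q, rfl⟩ : ∃ r p q, A = ⟨0, 0, r, 0, 0, 0, 0, 0, 0, p, 1, q⟩ :=
    ⟨A.x2, A.x7, A.x8, by ext <;> simp [*]⟩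
  obtain rfl : r = 0 := by
    have := congrArg OU.x6 k
    simp [TwoA.σ_eq h01, CharTwo.add_self_eq_zero] at this
    have := TwoA.sq_eq h01 r
    grind
  have w := mul s (mul s (hA s) (symm s (hA s))) (inv s (fix s))
  have h11 : (1 + 1 : K) = 0 := CharTwo.add_self_eq_zero _
  rcases h01 p with rfl | rfl <;> rcases h01 q with rfl | rfl
  · rfl
  all_goals exfalso
  · have eB : (X1 1 * ⟨0, 0, 0, 0, 0, 0, 0, 0, 0, 0, 1, 1⟩ * X1 1 : OU K) = ⟨0, 1, 1, 1, 1, 0, 1, 0, 1, 1, 1, 1⟩ := by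
      ext <;> simp [h11]
    rw [eB] at w
    rw [show (Y2 1 * ⟨0, 0, 0, 0, 0, 0, 0, 0, 0, 0, 1, 1⟩ * (⟨0, 1, 1, 1, 1, 0, 1, 0, 1, 1, 1, 1⟩ : OU K)⁻¹ : OU K) =
        ⟨0, 0, 1, 0, 1, 1, 0, 0, 1, 1, 0, 0⟩ by ext <;> simp [h11],
      show (⟨0, 0, 0, 0, 0, 0, 0, 0, 0, 0, 1, 1⟩ * Y2 1 * (⟨0, 1, 1, 1, 1, 0, 1, 0, 1, 1, 1, 1⟩ : OU K)⁻¹ : OU K) =
        ⟨0, 0, 1, 0, 0, 1, 0, 1, 0, 0, 0, 0⟩ by ext <;> simp [h11]] at w
    have := congrArg OU.x6 (uniq (mul s w w) (symm s (s4 s)) (by ext <;> simp [h11]))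
    simp [h11] at this
  · have eB : (X1 1 * ⟨0, 0, 0, 0, 0, 0, 0, 0, 0, 1, 1, 0⟩ * X1 1 : OU K) = ⟨0, 1, 0, 0, 0, 1, 1, 1, 0, 0, 1, 0⟩ := by
      ext <;> simp [h11]
    rw [eB] at w
    rw [show (Y2 1 * ⟨0, 0, 0, 0, 0, 0, 0, 0, 0, 1, 1, 0⟩ * (⟨0, 1, 0, 0, 0, 1, 1, 1, 0, 0, 1, 0⟩ : OU K)⁻¹ : OU K) =
        ⟨0, 0, 0, 0, 0, 0, 0, 1, 0, 1, 0, 0⟩ by ext <;> simp [h11],
      show (⟨0, 0, 0, 0, 0, 0, 0, 0, 0, 1, 1, 0⟩ * Y2 1 * (⟨0, 1, 0, 0, 0, 1, 1, 1, 0, 0, 1, 0⟩ : OU K)⁻¹ : OU K) =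
        ⟨0, 0, 0, 0, 1, 1, 1, 0, 1, 1, 0, 0⟩ by ext <;> simp [h11]] at w
    have := congrArg OU.x6 (uniq (mul s w w) (symm s (s4 s)) (by ext <;> simp [h11]))
    simp [h11] at this
  · have eB : (X1 1 * ⟨0, 0, 0, 0, 0, 0, 0, 0, 0, 1, 1, 1⟩ * X1 1 : OU K) = ⟨0, 1, 1, 0, 1, 1, 1, 0, 1, 0, 1, 1⟩ := by
      ext <;> simp [h11]
    rw [eB] at w
    rw [show (Y2 1 * ⟨0, 0, 0, 0, 0, 0, 0, 0, 0, 1, 1, 1⟩ * (⟨0, 1, 1, 0, 1, 1, 1, 0, 1, 0, 1, 1⟩ : OU K)⁻¹ : OU K) =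
        ⟨0, 0, 1, 1, 1, 0, 0, 0, 1, 1, 0, 0⟩ by ext <;> simp [h11],
      show (⟨0, 0, 0, 0, 0, 0, 0, 0, 0, 1, 1, 1⟩ * Y2 1 * (⟨0, 1, 1, 0, 1, 1, 1, 0, 1, 0, 1, 1⟩ : OU K)⁻¹ : OU K) =
        ⟨0, 0, 1, 1, 0, 1, 1, 1, 0, 0, 0, 0⟩ by ext <;> simp [h11]] at w
    have := congrArg OU.x6 (uniq (mul s w w) (symm s (s4 s)) (by ext <;> simp [h11]))
    simp [h11] at this

/-- in the normalized situation `m` acts by `mu` -/
theorem mu_eq (s : SwA μ (Y8 1)) (hq : Nat.card K = 2) (a : OU K) (ha : a.x1 = 0) :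
    μ a = OU.mu a := by
  have h01 := TwoA.zero_or_one hq
  have h11 : (1 + 1 : K) = 0 := CharTwo.add_self_eq_zero _
  let E : Subgroup (OU K) :=
    { carrier := {a | R μ a (OU.mu a)}
      mul_mem' := fun {a b} ha hb => by
        rw [Set.mem_ofPred_eq, mu_mul ha.1 hb.1]; exact mul s ha hb
      one_mem' := by rw [Set.mem_ofPred_eq, show OU.mu (1 : OU K) = 1 by ext <;> simp]; exact one s
      inv_mem' := fun {a} ha => by
        rw [Set.mem_ofPred_eq, show OU.mu a⁻¹ = (OU.mu a)⁻¹ from eq_inv_of_mul_eq_one_left (by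
          rw [← mu_mul (by simp [ha.1]) ha.1, inv_mul_cancel]; ext <;> simp)]
        exact inv s ha }
  have y2 : Y2 1 ∈ E := ⟨rfl, by rw [(hA s).2]; ext <;> simp⟩
  have y8 : Y8 1 ∈ E := ⟨rfl, by rw [(symm s (hA s)).2]; ext <;> simp⟩
  have x4 : X4 1 ∈ E := ⟨rfl, by rw [(s4 s).2]; ext <;> simp⟩
  have x6 : X6 1 ∈ E := ⟨rfl, by rw [(symm s (s4 s)).2]; ext <;> simp⟩
  have eB : (X1 1 * Y8 1 * X1 1 : OU K) = ⟨0, 1, 0, 1, 0, 1, 1, 1, 1, 1, 1, 0⟩ := by ext <;> simp [h11]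
  have hB : (⟨0, 1, 0, 1, 0, 1, 1, 1, 1, 1, 1, 0⟩ : OU K) ∈ E :=
    ⟨rfl, by rw [← eB, (fix s).2, eB]; ext <;> simp [h11]⟩
  have x2 : X2 1 ∈ E := (show (Y2 1 * Y2 1 : OU K) = X2 1 by ext <;> simp [h11]) ▸ mul_mem y2 y2
  have x8 : X8 1 ∈ E := (show (Y8 1 * Y8 1 : OU K) = X8 1 by ext <;> simp [h11]) ▸ mul_mem y8 y8
  have cm : ∀ {a b z : OU K}, a ∈ E → b ∈ E → a * b = z * (b * a) → z ∈ E := fun {a b z} ha hb e =>
    (mul_mem_cancel_right (mul_mem hb ha)).1 (e ▸ mul_mem ha hb)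
  have x5 : X5 1 ∈ E := (mul_mem_cancel_left x4).1 ((mul_mem_cancel_right x6).1
    (cm x2 x8 (by ext <;> simp [h11])))
  have x3 : X3 1 ∈ E := (mul_mem_cancel_right x5).1 ((mul_mem_cancel_right x6).1
    (cm x2 y8 (by ext <;> simp [h11])))
  have x7 : X7 1 ∈ E := (mul_mem_cancel_left (mul_mem x4 x5)).1 (cm y2 x8 (by ext <;> simp [h11]))
  have y6 : Y6 1 ∈ E := by
    rw [nf (⟨0, 1, 0, 1, 0, 1, 1, 1, 1, 1, 1, 0⟩ : OU K)] at hB
    simp only [show (X1 0 : OU K) = 1 from rfl, show (X2 0 : OU K) = 1 from rfl, show (Y4 0 : OU K) = 1 from rfl,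
      show (X8 0 : OU K) = 1 from rfl, one_mul, mul_one] at hB
    rwa [mul_mem_cancel_left y2, mul_mem_cancel_left x3, mul_mem_cancel_left x4, mul_mem_cancel_left x5,
      mul_mem_cancel_right (mul_mem x6 (mul_mem x7 y8))] at hB
  have y4 : Y4 1 ∈ E := (mul_mem_cancel_right (mul_mem x5 (mul_mem y6 x6))).1 (cm y2 y8 (by ext <;> simp [h11]))
  have k : ∀ (X : K → OU K) (t : K), X 0 = 1 → X 1 ∈ E → X t ∈ E := fun X t h0 h1 => by
    rcases h01 t with rfl | rfl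
    exacts [h0 ▸ one_mem E, h1]
  have : a ∈ E := by
    rw [nf a, ha]
    exact mul_mem (one_mem E) (mul_mem (k _ _ rfl y2) (mul_mem (k _ _ rfl x2) (mul_mem (k _ _ rfl x3)
      (mul_mem (k _ _ rfl y4) (mul_mem (k _ _ rfl x4) (mul_mem (k _ _ rfl x5) (mul_mem (k _ _ rfl y6)
      (mul_mem (k _ _ rfl x6) (mul_mem (k _ _ rfl x7) (mul_mem (k _ _ rfl y8) (k _ _ rfl x8)))))))))))
  exact this.2

/-- the goal -/
def Ok (μ : OU K → OU K) : Prop :=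
  ∃ (β : OU K ≃* OU K) (t : OU K), (∀ a ∈ (sQ : Subgroup (OU K)), β a ∈ (sQ : Subgroup (OU K))) ∧ t.x1 = 0 ∧
    (∀ a ∈ (sQ : Subgroup (OU K)), nu (β a) = β (nu a)) ∧
      ∀ a : OU K, a.x1 = 0 → t * μ (t⁻¹ * β a * t) * t⁻¹ = β (mu a)

theorem Ok.conj {t : OU K} (h0 : t.x1 = 0) (h : Ok fun a => t * μ (t⁻¹ * a * t) * t⁻¹) : Ok μ :=
  let ⟨β, r, h1, h2, h3, h4⟩ := h
  ⟨β, r * t, h1, by simp [h0, h2], h3, fun a ha => by rw [← h4 a ha]; simp only [mul_inv_rev, mul_assoc]⟩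

theorem Ok.tw {β : OU K →* OU K} (ββ : ∀ a, β (β a) = a) (h0 : ∀ a, (β a).x1 = a.x1)
    (hQ : ∀ a ∈ (sQ : Subgroup (OU K)), β a ∈ (sQ : Subgroup (OU K)))
    (hn : ∀ a ∈ (sQ : Subgroup (OU K)), nu (β a) = β (nu a)) (h : Ok fun a => β (μ (β a))) : Ok μ :=
  let ⟨γ, r, h1, h2, h3, h4⟩ := h
  ⟨γ.trans (β.toMulEquiv β (MonoidHom.ext ββ) (MonoidHom.ext ββ)), β r, fun a ha => hQ _ (h1 a ha),
    (h0 r).trans h2, fun a ha => (hn _ (h1 a ha)).trans (congrArg β (h3 a ha)), fun a ha => by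
      simpa [ββ] using congrArg β (h4 a ha)⟩

theorem ok4 (s : SwA μ A) (hq : Nat.card K = 2) (h3 : A.x3 = 0) (h4 : A.y4 = 0) (h5 : A.x5 = 0)
    (h6 : A.y6 = 0) : Ok μ := by
  have h01 := TwoA.zero_or_one hq
  have h11 : (1 + 1 : K) = 0 := CharTwo.add_self_eq_zero _
  obtain ⟨h1, h2, h8⟩ := base s hq
  have hz : R μ (X4 A.x6) (X6 A.x6) := by
    rcases h01 A.x6 with e | e <;> rw [e]
    exacts [one s, s4 s]
  have ββ : ∀ a, amC h01 (A.x4 + A.x6) A.x6 (amC h01 (A.x4 + A.x6) A.x6 a) = a := fun a => by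
    ext <;> simp [amC_apply]; grind
  have s' := tw s ββ (fun _ => rfl) (by ext <;> simp [amC_apply]) (by ext <;> simp [amC_apply])
    (by ext <;> simp [amC_apply]) (A' := A * X6 A.x6) (by
      convert mul s (hA s) hz using 1; ext <;> simp [amC_apply])
  have e := fin s' hq (by simp [amC_apply, h3]) (by simp [amC_apply, h4])
    (by simp [amC_apply, h2, h4, h6, h8]; grind) (by simp [amC_apply, h5]) (by simp [amC_apply, h6])
    (by simp [amC_apply, CharTwo.add_self_eq_zero])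
  rw [e] at s'
  refine Ok.tw ββ (fun _ => rfl) (fun a ha => ha) (fun a ha => ?_)
    ⟨.refl _, 1, fun _ h => h, rfl, fun _ _ => rfl, fun a ha => by simpa using mu_eq s' hq a ha⟩
  ext <;> simp [amC_apply, ha.1]
  grind

theorem ok3 (s : SwA μ A) (hq : Nat.card K = 2) (h3 : A.x3 = 0) (h4 : A.y4 = 0) (h6 : A.y6 = 0) : Ok μ := by
  have h01 := TwoA.zero_or_one hq
  obtain ⟨h1, h2, h8⟩ := base s hq
  refine Ok.conj (t := X3 A.x5) rfl (ok4 (conj s _ rfl ?_ ?_) hq ?_ ?_ ?_ ?_)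
  · ext <;> simp [CharTwo.add_self_eq_zero]
  · ext <;> simp [CharTwo.add_self_eq_zero]
  all_goals simp [h1, h2, h3, h4, h6, h8, TwoA.σ_eq h01, CharTwo.add_self_eq_zero]

theorem ok2 (s : SwA μ A) (hq : Nat.card K = 2) (h4 : A.y4 = 0) (h6 : A.y6 = 0) : Ok μ := by
  have h01 := TwoA.zero_or_one hq
  obtain ⟨h1, h2, h8⟩ := base s hq
  refine Ok.conj (t := X2 A.x3) rfl (ok3 (conj s _ rfl ?_ ?_) hq ?_ ?_ ?_)
  · ext <;> simp [CharTwo.add_self_eq_zero]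
  · ext <;> simp [CharTwo.add_self_eq_zero]
  all_goals simp [h1, h2, h4, h6, h8, TwoA.σ_eq h01, CharTwo.add_self_eq_zero]

theorem ok1 (s : SwA μ A) (hq : Nat.card K = 2) (h : A.y4 = A.y6) : Ok μ := by
  have h01 := TwoA.zero_or_one hq
  obtain ⟨h1, h2, h8⟩ := base s hq
  refine Ok.conj (t := Y2 A.y6) rfl (ok2 (conj s _ rfl ?_ ?_) hq ?_ ?_)
  · ext <;> simp [CharTwo.add_self_eq_zero]
  · rcases h01 A.y6 with e | e <;> rw [e] <;> ext <;> simp [CharTwo.add_self_eq_zero]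
  all_goals simp [h1, h2, h, h8, TwoA.σ_eq h01, CharTwo.add_self_eq_zero]

theorem ok (s : SwA μ A) (hq : Nat.card K = 2) : Ok μ := by
  have h01 := TwoA.zero_or_one hq
  have h11 : (1 + 1 : K) = 0 := CharTwo.add_self_eq_zero _
  have hs := TwoA.sq_eq h01
  by_cases h : A.y4 = A.y6
  · exact ok1 s hq h
  obtain ⟨h1, h2, h8⟩ := base s hq
  have ββ : ∀ a : OU K, MonoidHom.mk' amF (amF_mul h01) (MonoidHom.mk' amF (amF_mul h01) a) = a := fun a => by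
    have := hs a.y8; ext <;> simp <;> grind
  have s' := tw s ββ (fun _ => rfl) (by ext <;> simp) (by ext <;> simp) (by ext <;> simp) (A' := A⁻¹) (by
      convert inv s (hA s) using 1; ext <;> simp)
  refine Ok.tw ββ (fun _ => rfl) (fun a ha => ha) (fun a ha => ?_) (ok1 s' hq ?_)
  · have := hs a.x1
    have := hs a.y2
    have := hs a.y4
    have := hs a.y6
    have := hs a.x7
    ext <;> simp [ha.1, ha.2, TwoA.σ_eq h01] <;> grind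
  · simp [h1, h2, h8]
    rcases h01 A.y4 with e | e <;> rcases h01 A.y6 with e' | e' <;> simp_all

end MT2

theorem SwA.ok {μ : OU K → OU K} {A : OU K} (s : SwA μ A) (hq : Nat.card K = 2) :
    ∃ (β : OU K ≃* OU K) (t : OU K), t.x1 = 0 ∧ (∀ a ∈ (sQ : Subgroup (OU K)), nu (β a) = β (nu a)) ∧
      ∀ a : OU K, a.x1 = 0 → t * μ (t⁻¹ * β a * t) * t⁻¹ = β (mu a) :=
  let ⟨β, t, _, h⟩ := MT2.ok s hq
  ⟨β, t, h⟩

end Cfsg.Agent.RFS
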