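import Cfsg.Agent.RFS.ModA
import Cfsg.Agent.H92.GroupFS

/-! Project RFS: the models.  See `notes/RFS.md`. -/

set_option autoImplicit false
set_option linter.unusedSectionVars false

namespace Cfsg.Agent.RFS

open OCT OCT.OU
open scoped commutatorElement

universe w

variable {K : Type w} [Field K] [Tits K] [Finite K]

open SemidirectProduct in
theorem model_nf {G₀ : Type w} [Group G₀] [Finite G₀] (f : FR K G₀) (hg : f.toFR0.gen = ⊤)
    (ho : ¬ 2 ∣ f.u.range.index) (Φ : Subgroup (RingAut K)) (hΦ : ¬ 2 ∣ Nat.card Φ) :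
    ∃ (G : Type w) (_ : Group G) (_ : Finite G) (u : OU K →* G), NF u ∧ ¬ 2 ∣ u.range.index ∧
      ∀ φ : RingAut K, In u ⊤ (fld φ) ↔ φ ∈ Φ := by
  obtain ⟨θ, hθ⟩ := exists_fld f hg
  have : Finite Φ := Nat.finite_of_card_ne_zero fun e => hΦ (e ▸ dvd_zero 2)
  have : Finite (G₀ ⋊[θ.comp Φ.subtype] Φ) := Finite.of_equiv _ equivProd.symm
  let u : OU K →* G₀ ⋊[θ.comp Φ.subtype] Φ := inl.comp f.u
  have k0 : ∀ (A : Subgroup (OU K)) (F : OU K → OU K) (g : G₀), (∀ a ∈ A, g * f.u a * g⁻¹ = f.u (F a)) →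
      In u A F := fun A F g h => ⟨inl g, fun a ha => by
    change inl g * inl _ * _ = inl _
    rw [← h a ha, map_mul, map_mul, map_inv]⟩
  have k1 : ∀ (g : G₀ ⋊[θ.comp Φ.subtype] Φ) a,
      g * u a * g⁻¹ = inl (g.left * f.u (fld (g.right : RingAut K) a) * g.left⁻¹) := fun g a => by
    rw [← hθ, map_mul, map_mul, map_inv]
    refine Eq.trans ?_ (congrArg (fun x => inl g.left * x * (inl g.left)⁻¹) (inl_aut g.right (f.u a)).symm)
    conv_lhs => rw [← inl_left_mul_inr_right g]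
    simp only [map_inv, mul_inv_rev, mul_assoc]
    rfl
  have k2 : ∀ F, In u ⊤ F → ∃ s k, ∃ φ ∈ Φ, ∀ a, F a = s * torA k (fld φ a) * s⁻¹ := by
    rintro F ⟨g, h⟩
    have h1 : ∀ a, g.left * f.u (fld (g.right : RingAut K) a) * g.left⁻¹ = f.u (F a) := fun a =>
      inl_injective ((k1 g a).symm.trans (h a trivial))
    obtain ⟨s, k, e⟩ := norm_U f hg (g := g.left) fun b => by
      obtain ⟨a, rfl⟩ := (fldA (g.right : RingAut K)).surjective b
      exact ⟨_, (h1 a).symm⟩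
    refine ⟨s, k, g.right, g.right.2, fun a => f.inj ?_⟩
    rw [← h1, e, map_mul, map_mul, map_inv, ← f.hu]; group
  have k3 : ¬ 2 ∣ u.range.index := by
    rw [← MonoidHom.map_range, Subgroup.index_map_of_injective _ inl_injective, range_inl_eq_ker_rightHom,
      Subgroup.index_ker, MonoidHom.range_eq_top.2 rightHom_surjective, Subgroup.card_top]
    exact fun h => (Nat.prime_two.dvd_mul.1 h).elim ho hΦ
  have k4 : IsPGroup 2 u.range := u.range_eq_map ▸ two_OU.map u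
  refine ⟨_, inferInstance, this, u, ⟨⟨inl_injective.comp f.inj, H92.saturated_group (k4.toSylow k3)⟩,
    fun F h => ?_, fun k => k0 _ _ (f.h k) fun a _ => f.hu k a, k0 _ _ f.n fun a ha => ?_,
    k0 _ _ f.m fun a ha => ?_⟩, k3, fun φ => ⟨fun h => ?_, fun h => ⟨inr ⟨φ, h⟩, fun a _ => ?_⟩⟩⟩
  · obtain ⟨s, k, φ, -, e⟩ := k2 F h.ind
    exact ⟨s, k, φ, e⟩
  · rw [inv_eq_of_mul_eq_one_right f.nn, f.nu a ha]
  · rw [inv_eq_of_mul_eq_one_right f.mm, f.mu a ha]
  · obtain ⟨s, k, ψ, h1, e⟩ := k2 _ h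
    have e1 : ∀ t, φ t = k.1 * ψ t := fun t => by
      have := congrArg OU.x1 (e (X1 t))
      simp at this
      rw [this, add_right_comm, CharTwo.add_self_eq_zero, zero_add]
    have e2 := e1 1
    rw [map_one, map_one, mul_one] at e2
    rwa [show φ = ψ from RingEquiv.ext fun t => by rw [e1, ← e2, one_mul]]
  · rw [k1, left_inr, right_inr, one_mul, inv_one, mul_one]; rfl

end Cfsg.Agent.RFS
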