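import Cfsg.Agent.RFS.AuS
import Cfsg.Agent.OCT.Tor

/-! Project RFS: normal form of the automizer of `S`.  See `notes/RFS.md`. -/

set_option autoImplicit false
set_option linter.unusedSectionVars false

namespace Cfsg.Agent.RFS

open OCT OCT.OU
open scoped commutatorElement

variable {K : Type*} [Field K] [Tits K] [Finite K] {G : Type*} [Group G] {u : OU K →* G}

namespace StdA

theorem finA : Finite (MulAut (OU K)) :=
  .of_injective (fun γ : MulAut (OU K) => (γ : OU K → OU K)) DFunLike.coe_injective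

theorem finR : Finite (RingAut K) :=
  .of_injective (fun γ : RingAut K => (γ : K → K)) DFunLike.coe_injective

theorem iter (α : MulAut (OU K)) (k : ℕ) (a : OU K) : (α ^ k) a = α^[k] a := by
  induction k generalizing a with
  | zero => rfl
  | succ k ih => rw [pow_succ, MulAut.mul_apply, ih, Function.iterate_succ_apply]

/-- a field automorphism acting on the torus -/
def tφ (φ : RingAut K) (k : Kˣ × Kˣ) : Kˣ × Kˣ :=
  (Units.map (φ : K →* K) k.1, Units.map (φ : K →* K) k.2)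

theorem fld_tor (φ : RingAut K) (k : Kˣ × Kˣ) : fldA φ * torA k = torA (tφ φ k) * fldA φ :=
  MulEquiv.ext fun a => by ext <;> simp [tφ]

/-- diagonal and field automorphisms -/
def St : Subgroup (MulAut (OU K)) where
  carrier := {α | ∃ k φ, α = torA k * fldA φ}
  one_mem' := ⟨1, 1, by simp⟩
  mul_mem' := by
    rintro _ _ ⟨k, φ, rfl⟩ ⟨l, ψ, rfl⟩
    exact ⟨k * tφ φ l, φ * ψ, by
      rw [map_mul, map_mul, mul_assoc, ← mul_assoc (fldA φ), fld_tor, mul_assoc, mul_assoc]⟩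
  inv_mem' := by
    rintro _ ⟨k, φ, rfl⟩
    exact ⟨tφ φ⁻¹ k⁻¹, φ⁻¹, by rw [mul_inv_rev, ← map_inv, ← map_inv, fld_tor]⟩

/-- automorphisms fixing the coordinates `x1`, `y8` -/
def A1 : Subgroup (MulAut (OU K)) where
  carrier := {α | ∀ a, (α a).x1 = a.x1 ∧ (α a).y8 = a.y8}
  one_mem' := fun _ => ⟨rfl, rfl⟩
  mul_mem' := fun {α β} h k a => ⟨(h _).1.trans (k a).1, (h _).2.trans (k a).2⟩
  inv_mem' := fun {α} h a => by
    have := h (α⁻¹ a)
    rw [MulAut.apply_inv_self] at this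
    exact ⟨this.1.symm, this.2.symm⟩

theorem A1_normal : (A1 : Subgroup (MulAut (OU K))).Normal := ⟨fun α h γ a => by
  obtain ⟨k, φ, e⟩ := aut_dec γ
  have := e (γ⁻¹ a)
  rw [MulAut.apply_inv_self] at this
  rw [MulAut.mul_apply, MulAut.mul_apply, (e _).1, (e _).2, (h _).1, (h _).2]
  exact ⟨this.1.symm, this.2.symm⟩⟩

theorem A1_two : IsPGroup 2 (A1 : Subgroup (MulAut (OU K))) := fun α =>
  let ⟨j, hj⟩ := aut_two α.1 α.2
  ⟨j, Subtype.ext hj⟩

theorem dec (α : MulAut (OU K)) : ∃ n ∈ (A1 : Subgroup (MulAut (OU K))), n⁻¹ * α ∈ (St : Subgroup _) := by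
  obtain ⟨k, φ, e⟩ := aut_dec α
  refine ⟨α * (torA k * fldA φ)⁻¹, fun a => ?_, k, φ, by group⟩
  obtain ⟨b, rfl⟩ := (torA k * fldA φ).surjective a
  rw [MulAut.mul_apply, MulAut.inv_apply_self, (e _).1, (e _).2]
  simp

/-- the automizer -/
def Gam (u : OU K →* G) : Subgroup (MulAut (OU K)) where
  carrier := {α | In u ⊤ α}
  one_mem' := ⟨1, fun a _ => by simp⟩
  mul_mem' := fun {α β} h k => h.comp k fun _ _ => trivial
  inv_mem' := fun {α} h => h.of_inv (fun _ _ => trivial) fun b _ => MulAut.apply_inv_self _ α b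

theorem odd_inn (c : Ctx u) {α : MulAut (OU K)} (h : In u ⊤ α) :
    ∃ k, Odd k ∧ α ^ k ∈ (MulAut.conj : OU K →* _).range :=
  let ⟨k, hk, s, e⟩ := c.odd α ⟨.equiv α, h⟩
  ⟨k, hk, s, MulEquiv.ext fun a => by rw [iter, e]; rfl⟩

theorem mem_of_odd {H : Type*} [Group H] {N : Subgroup H} {a : H} {k j : ℕ} (hk : Odd k) (h1 : a ^ k ∈ N)
    (h2 : a ^ 2 ^ j ∈ N) : a ∈ N := by
  have hc : IsCoprime (k : ℤ) ((2 ^ j : ℕ) : ℤ) :=
    Nat.isCoprime_iff_coprime.2 (Nat.Coprime.pow_right _ (Nat.coprime_two_right.2 hk))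
  obtain ⟨x, y, e⟩ := hc
  have := mul_mem (zpow_mem h1 x) (zpow_mem h2 y)
  rwa [← zpow_natCast, ← zpow_natCast, ← zpow_mul, ← zpow_mul, ← zpow_add, mul_comm, mul_comm _ y, e,
    zpow_one] at this

theorem compl (c : Ctx u) : ∃ X : Subgroup (MulAut (OU K)), ¬ 2 ∣ Nat.card X ∧
    ∀ α ∈ Gam u, ∃ s : OU K, ∃ x ∈ X, α = MulAut.conj s * x := by
  have : Fact (Nat.Prime 2) := ⟨Nat.prime_two⟩
  have := finA (K := K)
  obtain ⟨N, hN⟩ : ∃ N : Subgroup (Gam u), N = (MulAut.conj : OU K →* _).range.subgroupOf (Gam u) := ⟨_, rfl⟩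
  have nr : N.Normal := hN ▸ ⟨fun a ⟨s, e⟩ b => ⟨(b : MulAut (OU K)) s, MulEquiv.ext fun x => by
    have e' : MulAut.conj s = (a : MulAut (OU K)) := e
    show _ = ((b : MulAut (OU K)) * a * (b : MulAut (OU K))⁻¹) x
    rw [← e']
    simp⟩⟩
  have p2 : IsPGroup 2 N := by
    have h1 : IsPGroup 2 (MulAut.conj : OU K →* _).range := by
      rw [MonoidHom.range_eq_map]
      exact two_OU.map _
    exact hN ▸ h1.comap_subtype
  have od : ¬ 2 ∣ N.index := fun h => by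
    obtain ⟨a, ha⟩ := exists_prime_orderOf_dvd_card' (G := Gam u ⧸ N) 2 h
    obtain ⟨a, rfl⟩ := QuotientGroup.mk_surjective a
    obtain ⟨k, hk, e⟩ := odd_inn c a.2
    have h1 : a ^ k ∈ N := hN ▸ e
    have h2 : a ^ 2 ^ 1 ∈ N := by
      rw [← QuotientGroup.eq_one_iff, QuotientGroup.mk_pow, pow_one, ← ha, pow_orderOf_eq_one]
    rw [(QuotientGroup.eq_one_iff a).2 (mem_of_odd hk h1 h2), orderOf_one] at ha
    omega
  obtain ⟨n, hn⟩ := p2.exists_card_eq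
  obtain ⟨X, hX⟩ := Subgroup.exists_right_complement'_of_coprime (N := N)
    (hn ▸ ((Nat.Prime.coprime_iff_not_dvd Nat.prime_two).2 od).pow_left n)
  refine ⟨X.map (Gam u).subtype, ?_, fun α hα => ?_⟩
  · rwa [Subgroup.card_map_of_injective (Gam u).subtype_injective, ← hX.symm.index_eq_card]
  · obtain ⟨⟨⟨a, ha⟩, x⟩, e⟩ := (hX.existsUnique ⟨α, hα⟩).exists
    subst hN
    obtain ⟨s, hs⟩ := ha
    exact ⟨s, x, ⟨x, x.2, rfl⟩, hs ▸ (congrArg Subtype.val e).symm⟩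

theorem fld_two (hq : Nat.card K = 2) (φ : RingAut K) (t : K) : φ t = t := by
  rcases TwoA.zero_or_one hq t with rfl | rfl <;> simp

end StdA

open StdA

theorem exists_std (c : Ctx u) : ∃ β : OU K ≃* OU K, Std (u.comp β.toMonoidHom) := by
  have : Fact (Nat.Prime 2) := ⟨Nat.prime_two⟩
  have := finA (K := K)
  have := A1_normal (K := K)
  obtain ⟨X, h1, h2⟩ := compl c
  obtain ⟨n, hn⟩ := (A1_two (K := K)).exists_card_eq
  obtain ⟨β, -, hβ⟩ := H1.glauberman_fixed X A1 Subgroup.le_normalizer_of_normal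
    (hn ▸ (((Nat.Prime.coprime_iff_not_dvd Nat.prime_two).2 h1).pow_left n).symm)
    (Or.inr (have := (A1_two (K := K)).isNilpotent; inferInstance)) St fun a _ => dec a
  refine ⟨β, fun F hF => ?_⟩
  obtain ⟨g, hg⟩ := hF.ind
  obtain ⟨α, hα⟩ : ∃ α : MulAut (OU K), ∀ a, α a = F a := ⟨hF.au.toEquiv, fun _ => rfl⟩
  obtain ⟨s, x, hx, e⟩ := h2 (β * α * β⁻¹) ⟨g, fun a _ => by
    have := hg (β⁻¹ a) trivial
    simpa [hα] using this⟩
  obtain ⟨k, φ, e'⟩ := hβ x hx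
  refine ⟨β⁻¹ s, k, φ, fun a => ?_⟩
  have e1 : α = β⁻¹ * MulAut.conj s * β * (β⁻¹ * x * β) := by
    rw [show α = β⁻¹ * (β * α * β⁻¹) * β by group, e]; group
  rw [← hα, e1, e']
  simp

theorem Std.two (h : Std u) (hq : Nat.card K = 2) {F : OU K → OU K} (hF : Fa u ⊤ F) :
    ∃ s : OU K, ∀ a, F a = s * a * s⁻¹ := by
  obtain ⟨s, k, φ, e⟩ := h F hF
  refine ⟨s, fun a => ?_⟩
  obtain rfl : k = 1 := Prod.ext (q2_unit hq _) (q2_unit hq _)
  rw [e, map_one, show fld φ a = a by ext <;> simp [fld_two hq]]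
  rfl

theorem Ctx.std_two (c : Ctx u) (hq : Nat.card K = 2) : Std u := fun F hF => by
  obtain ⟨α, hα⟩ : ∃ α : MulAut (OU K), ∀ a, α a = F a := ⟨hF.au.toEquiv, fun _ => rfl⟩
  obtain ⟨k, φ, e⟩ := aut_dec α
  obtain ⟨j, hj⟩ := aut_two α fun a => by
    rw [(e a).1, (e a).2, q2_unit hq k.1, q2_unit hq k.2]
    simp [fld_two hq]
  obtain ⟨m, hm, h⟩ := odd_inn c (α := α) (hF.ind.congr fun a _ => (hα a).symm)
  obtain ⟨s, hs⟩ := mem_of_odd hm h (j := j) (hj ▸ one_mem _)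
  refine ⟨s, 1, 1, fun a => ?_⟩
  rw [← hα, ← hs, map_one]
  rfl

theorem Ctx.odd_fld (c : Ctx u) {Φ : Subgroup (RingAut K)} (h : ∀ φ ∈ Φ, In u ⊤ (fld φ)) : ¬ 2 ∣ Nat.card Φ :=
  fun h2 => by
  have : Fact (Nat.Prime 2) := ⟨Nat.prime_two⟩
  have := finR (K := K)
  obtain ⟨φ, hφ⟩ := exists_prime_orderOf_dvd_card' (G := Φ) 2 h2
  obtain ⟨k, hk, s, e⟩ := odd_inn c (α := fldA (φ : RingAut K)) (h φ φ.2)
  have h1 : φ ^ k ∈ (⊥ : Subgroup Φ) := Subtype.ext (RingEquiv.ext fun t => by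
    rw [← map_pow] at e
    have e1 : (s * X1 t * s⁻¹).x1 = ((φ : RingAut K) ^ k) t := congrArg OU.x1 (DFunLike.congr_fun e (X1 t))
    exact e1.symm.trans (C1.cx1 s _))
  have h3 : φ ^ 2 ^ 1 ∈ (⊥ : Subgroup Φ) := by rw [pow_one, ← hφ, pow_orderOf_eq_one]; exact one_mem _
  rw [Subgroup.mem_bot.1 (mem_of_odd hk h1 h3), orderOf_one] at hφ
  omega

end Cfsg.Agent.RFS
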