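import Cfsg.Agent.RFS.NQa
import Cfsg.Agent.RFS.StdA

/-! Project RFS: the reflection `n`, `q = 2`.  See `notes/RFS.md`. -/

set_option autoImplicit false
set_option linter.unusedSectionVars false
set_option linter.unusedSimpArgs false
set_option linter.unusedTactic false
set_option linter.unreachableTactic false
set_option linter.unnecessarySeqFocus false

namespace Cfsg.Agent.RFS

open OCT OCT.OU Sh
open scoped commutatorElement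

variable {K : Type*} [Field K] [Tits K] [Finite K] {G : Type*} [Group G] {u : OU K →* G}

theorem amG_mul (hq : Nat.card K = 2) (d : K) (a b : OU K) : amG d (a * b) = amG d a * amG d b := by
  have h := TwoA.zero_or_one hq
  have h2 := TwoA.sq_eq h
  rcases h d with rfl | rfl
  · ext <;> simp
  rcases h a.y8 with e1 | e1 <;> rcases h b.x1 with e2 | e2 <;> rcases h a.x8 with e3 | e3 <;>
    rcases h b.y2 with e4 | e4 <;>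
    (ext <;> simp [TwoA.σ_eq h, e1, e2, e3, e4] <;> grind)

theorem amG_amG (d : K) (a : OU K) : amG d (amG d a) = a := by
  ext <;> simp <;> grind

namespace NQb

theorem dec {f : OU K → OU K}
    (hm : ∀ a ∈ (sQ : Subgroup (OU K)), ∀ b ∈ (sQ : Subgroup (OU K)), f (a * b) = f a * f b)
    {p : OU K} (hp : p ∈ (sQ : Subgroup (OU K))) :
    f p = f (X1 p.x1) * (f (Y2 p.y2) * (f (X2 p.x2) * (f (X3 p.x3) * (f (Y4 p.y4) * (f (X4 p.x4) *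
      (f (X5 p.x5) * (f (Y6 p.y6) * (f (X6 p.x6) * f (X7 p.x7))))))))) := by
  have e := nf p
  rw [hp.1, hp.2, show (Y8 0 * X8 0 : OU K) = 1 from by ext <;> simp, mul_one] at e
  conv_lhs => rw [e]
  iterate 9 rw [hm _ (by simp) _ (by simp)]

theorem ext (h01 : ∀ t : K, t = 0 ∨ t = 1) {f g : OU K → OU K}
    (hf : ∀ a ∈ (sQ : Subgroup (OU K)), ∀ b ∈ (sQ : Subgroup (OU K)), f (a * b) = f a * f b)
    (hg : ∀ a ∈ (sQ : Subgroup (OU K)), ∀ b ∈ (sQ : Subgroup (OU K)), g (a * b) = g a * g b)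
    (e1 : f (X1 1) = g (X1 1)) (e2 : f (Y2 1) = g (Y2 1)) (e4 : f (Y4 1) = g (Y4 1))
    (e6 : f (Y6 1) = g (Y6 1)) (e7 : f (X7 1) = g (X7 1))
    (ew : ∀ w ∈ (sW : Subgroup (OU K)), f w = g w) : ∀ p ∈ (sQ : Subgroup (OU K)), f p = g p := by
  have cs : ∀ X : K → OU K, X 0 = 1 → f (X 1) = g (X 1) → ∀ t, f (X t) = g (X t) := by
    intro X h1 h3 t
    rcases h01 t with rfl | rfl
    · rw [h1]; exact ew 1 (one_mem _)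
    · exact h3
  intro p hp
  rw [dec hf hp, dec hg hp, cs X1 rfl e1, cs Y2 rfl e2, cs Y4 rfl e4, cs Y6 rfl e6, cs X7 rfl e7,
    ew (X2 _) (by simp), ew (X3 _) (by simp), ew (X4 _) (by simp), ew (X5 _) (by simp), ew (X6 _) (by simp)]

theorem onW (h01 : ∀ t : K, t = 0 ∨ t = 1) {w : OU K} (hw : w ∈ (sW : Subgroup (OU K))) :
    nu (Y8 1 * nu w * (Y8 1)⁻¹) = Y8 1 * nu (X8 1 * w * (X8 1)⁻¹) * (Y8 1)⁻¹ := by
  rw [mem_sW] at hw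
  have e1 : Y8 1 * nu w * (Y8 1)⁻¹ = ⟨0, 0, w.x6, w.x5 + w.x6, 0, w.x4 + w.x5, w.x3 + w.x5 + w.x6,
      0, w.x2 + w.x3 + w.x6, 0, 0, 0⟩ := by
    ext <;> simp [hw, TwoA.σ_eq h01] <;> grind
  have e2 : X8 1 * w * (X8 1)⁻¹ = ⟨0, 0, w.x2, w.x3, 0, w.x4 + w.x2, w.x5 + w.x2,
      0, w.x6 + w.x3 + w.x2, 0, 0, 0⟩ := by
    ext <;> simp [hw, TwoA.σ_eq h01] <;> grind
  rw [e1, e2]
  ext <;> simp [TwoA.σ_eq h01] <;> grind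

/-- the normal form of `nqa` -/
structure Nf (ν : OU K → OU K) (α β γ η θ ε : K) : Prop where
  mul : ∀ a ∈ (sQ : Subgroup (OU K)), ∀ b ∈ (sQ : Subgroup (OU K)), ν (a * b) = ν a * ν b
  n1 : ν (X1 1) = ⟨0, 0, 0, α, 0, 0, β, 0, 0, 1, 0, 0⟩
  n7 : ν (X7 1) = ⟨1, 0, 0, η, 0, 0, γ, 0, 0, 0, 0, 0⟩
  n2 : ν (Y2 1) = ⟨0, 0, α, 0, 0, 0, θ, 1, η, 0, 0, 0⟩
  n6 : ν (Y6 1) = ⟨0, 1, β, θ, 0, 0, 0, 0, γ, 0, 0, 0⟩
  n4 : ν (Y4 1) = ⟨0, 0, 0, 0, 1, ε, 0, 0, 0, 0, 0, 0⟩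
  nw : ∀ w ∈ (sW : Subgroup (OU K)), ν w = nu w

variable {ν : OU K → OU K} {α β γ η θ ε : K}

theorem l4 (h01 : ∀ t : K, t = 0 ∨ t = 1) (h : Nf ν α β γ η θ ε) :
    ν (Y8 1 * ν (Y4 1) * (Y8 1)⁻¹) = Y4 1 := by
  have e : Y8 1 * ν (Y4 1) * (Y8 1)⁻¹ = Y4 1 * X4 ε := by
    rw [h.n4]; ext <;> simp [TwoA.σ_eq h01] <;> grind
  rw [e, h.mul _ (by simp) _ (by simp), h.n4, h.nw _ (by simp)]
  ext <;> simp [TwoA.σ_eq h01] <;> grind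

theorem r4 (h01 : ∀ t : K, t = 0 ∨ t = 1) (h : Nf ν α β γ η θ ε) :
    Y8 1 * ν (X8 1 * Y4 1 * (X8 1)⁻¹) * (Y8 1)⁻¹ = ⟨0, 0, 0, 0, 1, ε, 0, 0, 0, 0, 0, 0⟩ := by
  have e : (X8 1 * Y4 1 * (X8 1)⁻¹ : OU K) = Y4 1 := by ext <;> simp [TwoA.σ_eq h01] <;> grind
  rw [e, h.n4]
  ext <;> simp [TwoA.σ_eq h01] <;> grind

theorem l1 (h01 : ∀ t : K, t = 0 ∨ t = 1) (h : Nf ν α β γ η θ ε) :
    ν (Y8 1 * ν (X1 1) * (Y8 1)⁻¹) = ⟨1, 0, β, α + β + η, 0, α, α + γ, 0, 0, 0, 0, 0⟩ := by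
  have e : Y8 1 * ν (X1 1) * (Y8 1)⁻¹ = (⟨0, 0, 0, α, 0, α, α + β, 0, β, 0, 0, 0⟩ : OU K) * X7 1 := by
    rw [h.n1]; ext <;> simp [TwoA.σ_eq h01] <;> grind
  rw [e, h.mul _ (by simp) _ (by simp), h.n7, h.nw _ (by simp)]
  ext <;> simp [TwoA.σ_eq h01] <;> grind

theorem r1 (h01 : ∀ t : K, t = 0 ∨ t = 1) (h : Nf ν α β γ η θ ε) :
    Y8 1 * ν (X8 1 * X1 1 * (X8 1)⁻¹) * (Y8 1)⁻¹ =
      ⟨1, 0, β, α + β + η + θ, 0, α + β + ε + η + γ + θ, α + η + γ + θ, 0, 0, 0, 0, 0⟩ := by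
  have e : (X8 1 * X1 1 * (X8 1)⁻¹ : OU K) = X1 1 * (X2 1 * X3 1 * (Y4 1 * (X4 1 * X5 1 * (Y6 1 * X7 1)))) := by
    ext <;> simp [TwoA.σ_eq h01] <;> grind
  have e' : ν (X8 1 * X1 1 * (X8 1)⁻¹) = ⟨1, 1, 1 + β, 1 + α + η + θ, 1, ε + γ, 1 + β + γ, 0, 1 + γ, 1, 0, 0⟩ := by
    rw [e, h.mul (X1 1) (by simp) _ (by simp), h.mul (X2 1 * X3 1) (by simp) _ (by simp),
      h.mul (Y4 1) (by simp) _ (by simp), h.mul (X4 1 * X5 1) (by simp) _ (by simp),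
      h.mul (Y6 1) (by simp) _ (by simp), h.n1, h.n4, h.n6, h.n7, h.nw _ (by simp), h.nw _ (by simp)]
    ext <;> simp [TwoA.σ_eq h01] <;> grind
  rw [e']
  ext <;> simp [TwoA.σ_eq h01] <;> grind

theorem l7 (h01 : ∀ t : K, t = 0 ∨ t = 1) (h : Nf ν α β γ η θ ε) :
    ν (Y8 1 * ν (X7 1) * (Y8 1)⁻¹) =
      ⟨1, 1, α + β + γ, 1 + α + γ + θ, 0, 1 + α + γ, 1 + β + η + γ + θ, 1, 1 + η + γ, 1, 0, 0⟩ := by
  have e : Y8 1 * ν (X7 1) * (Y8 1)⁻¹ = X1 1 * (Y2 1 * ((⟨0, 0, 0, 1 + η, 0, 1, 1 + η + γ, 0, 0, 0, 0, 0⟩ : OU K) *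
      (Y6 1 * (X6 (1 + γ) * X7 1)))) := by
    rw [h.n7]; ext <;> simp [TwoA.σ_eq h01] <;> grind
  rw [e, h.mul (X1 1) (by simp) _ (by simp), h.mul (Y2 1) (by simp) _ (by simp),
    h.mul _ (by simp) (Y6 1 * _) (by simp), h.mul (Y6 1) (by simp) _ (by simp),
    h.mul (X6 _) (by simp) _ (by simp), h.n1, h.n2, h.n6, h.n7, h.nw _ (by simp), h.nw _ (by simp)]
  ext <;> simp [TwoA.σ_eq h01] <;> grind

theorem r7 (h01 : ∀ t : K, t = 0 ∨ t = 1) (h : Nf ν α β γ η θ ε) :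
    Y8 1 * ν (X8 1 * X7 1 * (X8 1)⁻¹) * (Y8 1)⁻¹ = ⟨1, 1, 0, 1 + η, 0, 1, 1 + η + γ, 1, 1 + γ, 1, 0, 0⟩ := by
  have e : (X8 1 * X7 1 * (X8 1)⁻¹ : OU K) = X7 1 := by ext <;> simp [TwoA.σ_eq h01] <;> grind
  rw [e, h.n7]
  ext <;> simp [TwoA.σ_eq h01] <;> grind

theorem key (h01 : ∀ t : K, t = 0 ∨ t = 1) (h : Nf ν α β γ η θ ε) {s : OU K} (hs : s ∈ (sR : Subgroup (OU K)))
    (e : ∀ a ∈ (sQ : Subgroup (OU K)),
      ν (Y8 1 * ν a * (Y8 1)⁻¹) * s = s * (Y8 1 * ν (X8 1 * a * (X8 1)⁻¹) * (Y8 1)⁻¹)) :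
    β = 0 ∧ γ = α ∧ η = 0 ∧ θ = 0 ∧ ε = 0 := by
  have hσ := TwoA.σ_eq h01
  rw [mem_sR] at hs
  have e4 := e (Y4 1) (by simp)
  have e1 := e (X1 1) (by simp)
  have e7 := e (X7 1) (by simp)
  rw [l4 h01 h, r4 h01 h] at e4
  rw [l1 h01 h, r1 h01 h] at e1
  rw [l7 h01 h, r7 h01 h] at e7
  have a4 := congrArg OU.x4 e4
  have b2 := congrArg OU.x2 e1
  have b3 := congrArg OU.x3 e1
  have b5 := congrArg OU.x5 e1
  have c3 := congrArg OU.x3 e7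
  have c5 := congrArg OU.x5 e7
  simp [hs, hσ] at a4 b2 b3 b5 c3 c5
  grind

theorem fin (h01 : ∀ t : K, t = 0 ∨ t = 1) (hq : Nat.card K = 2) (h : Nf ν α 0 α 0 0 0) :
    ∀ p ∈ (sQ : Subgroup (OU K)), X3 α * X5 α * ν p * (X3 α * X5 α)⁻¹ = amG α (nu (amG α p)) := by
  have hσ := TwoA.σ_eq h01
  have hsq := TwoA.sq_eq h01 α
  have ew : (X3 α * X5 α : OU K) = ⟨0, 0, 0, α, 0, 0, α, 0, 0, 0, 0, 0⟩ := by ext <;> simp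
  refine ext h01 (f := fun p => X3 α * X5 α * ν p * (X3 α * X5 α)⁻¹) (g := fun p => amG α (nu (amG α p)))
    (fun a ha b hb => by rw [h.mul a ha b hb]; group)
    (fun a ha b hb => by
      rw [amG_mul hq, nu_mul (a := amG α a) (b := amG α b) ha hb, amG_mul hq]) ?_ ?_ ?_ ?_ ?_ fun w hw => ?_ <;>
    rw [mul_inv_eq_iff_eq_mul, ew]
  · rw [h.n1]; ext <;> simp [hσ] <;> grind
  · rw [h.n2]; ext <;> simp [hσ] <;> grind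
  · rw [h.n4]; ext <;> simp [hσ] <;> grind
  · rw [h.n6]; ext <;> simp [hσ] <;> grind
  · rw [h.n7]; ext <;> simp [hσ] <;> grind
  · rw [h.nw w hw]
    rw [mem_sW] at hw
    ext <;> simp [hσ, hw] <;> grind

end NQb

theorem nq2 (hq : Nat.card K = 2) (c : Ctx u) {ν : OU K → OU K} (s : SwQ u ν) :
    ∃ β : OU K ≃* OU K, In (u.comp β.toMonoidHom) sQ nu := by
  have h01 := TwoA.zero_or_one hq
  obtain ⟨b, hb, α, β, γ, η, θ, ε, n1, n7, n2, n6, n4, nw⟩ := nqa hq s.fa.au s.y s.y0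
  obtain ⟨μ, hμ, h⟩ : ∃ μ, Fa u sQ μ ∧ NQb.Nf μ α β γ η θ ε :=
    have k := (Fa.conj u b (nm_Q b)).comp s.fa
    ⟨_, k, k.au.mul, n1, n7, n2, n6, n4, nw⟩
  have cy := Fa.conj u (Y8 1) (nm_Q (Y8 (1 : K)))
  have hf := hμ.comp (cy.comp hμ)
  have hf' := cy.comp (hμ.comp (Fa.conj u (X8 1) (nm_Q (X8 (1 : K)))))
  have nW : ∀ (g : OU K), ∀ w ∈ (sW : Subgroup (OU K)), g * w * g⁻¹ ∈ (sW : Subgroup (OU K)) :=
    fun g w hw => nm_of (sw (c_R (W_R hw) g)) hw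
  have eW : ∀ w ∈ (sW : Subgroup (OU K)),
      μ (Y8 1 * μ w * (Y8 1)⁻¹) = Y8 1 * μ (X8 1 * w * (X8 1)⁻¹) * (Y8 1)⁻¹ := by
    intro w hw
    rw [h.nw _ (nW _ _ (chQ_W.inv μ hμ.au w hw)), h.nw w hw, h.nw _ (nW _ w hw), NQb.onW h01 hw]
  obtain ⟨g, hg, g1, g2⟩ := hf'.exists_inv
  have e0 : ∀ w ∈ (sW : Subgroup (OU K)), μ (Y8 1 * μ (g w) * (Y8 1)⁻¹) = w := fun w hw => by
    rw [eW _ (chQ_W.inv g hg.au w hw)]; exact g2 w (chQ_W.le hw)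
  obtain ⟨F, hF, eF⟩ := c.extQ _ (hf.comp hg) fun y hy => by
    beta_reduce
    rw [e0 y (I_W (Y_I hy))]; exact hy
  obtain ⟨r, hr⟩ := (c.std_two hq).two hq hF
  have rR : r ∈ (sR : Subgroup (OU K)) := cz_W fun w hw => by
    rw [← mul_inv_eq_iff_eq_mul, ← hr, eF w (chQ_W.le hw)]; exact e0 w hw
  obtain ⟨rfl, rfl, rfl, rfl, rfl⟩ := NQb.key h01 h rR fun a ha => by
    have := eF _ (hf'.au.mem a ha)
    beta_reduce at this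
    rw [g1 a ha, hr] at this
    rw [← this, inv_mul_cancel_right]
  let B : OU K ≃* OU K := ⟨⟨amG γ, amG γ, amG_amG γ, amG_amG γ⟩, amG_mul hq γ⟩
  refine ⟨B, ((((Fa.conj u (X3 γ * X5 γ) (nm_Q _)).comp hμ).ind.congr (NQb.fin h01 hq h)).tw B
    fun _ k => k).congr fun a _ => ?_⟩
  change amG γ (amG γ (nu (amG γ (amG γ a)))) = nu a
  rw [amG_amG, amG_amG]

end Cfsg.Agent.RFS
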