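import Cfsg.Agent.RFS.ChQ
import Cfsg.Agent.OCT.Nn

/-! Project RFS: normalization of the reflections, `q > 2`.  See `notes/RFS.md`. -/

set_option autoImplicit false
set_option linter.unusedSectionVars false

namespace Cfsg.Agent.RFS

open OCT OCT.OU
open scoped commutatorElement

namespace Nrm

section gen
variable {H : Type*} [Group H] [Finite H] {P : Subgroup H}

theorem inj (τ : MulAut H) (hf : ∀ a ∈ P, τ a = a → a = 1) {b c : H} (hb : b ∈ P) (hc : c ∈ P)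
    (e : b⁻¹ * τ b = c⁻¹ * τ c) : b = c := by
  refine (mul_inv_eq_one.1 (hf _ (mul_mem hc (inv_mem hb)) ?_)).symm
  rw [map_mul, map_inv]
  calc τ c * (τ b)⁻¹ = c * (c⁻¹ * τ c) * (τ b)⁻¹ := by group
    _ = _ := by rw [← e]; group

theorem surj (τ : MulAut H) (hf : ∀ a ∈ P, τ a = a → a = 1) {Z : Subgroup H} (hZ : Z ≤ P)
    (hm : ∀ a ∈ Z, τ a ∈ Z) {s : H} (hs : s ∈ Z) : ∃ b ∈ Z, b⁻¹ * τ b = s := by
  obtain ⟨b, e⟩ := Finite.surjective_of_injective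
    (f := fun b : Z => (⟨b.1⁻¹ * τ b, mul_mem (inv_mem b.2) (hm b b.2)⟩ : Z))
    (fun b c e => Subtype.ext (inj τ hf (hZ b.2) (hZ c.2) (congrArg Subtype.val e))) ⟨s, hs⟩
  exact ⟨b, b.2, congrArg Subtype.val e⟩

theorem aut (τ : MulAut H) (hm : ∀ a ∈ P, τ a ∈ P) : Au P τ := (Au.equiv τ).res le_top hm

theorem main {L : Type*} [CommGroup L] (θ : L →* MulAut H) (hθ : ∀ k, ∀ a ∈ P, θ k a ∈ P) {t : L → L}
    {k₀ : L} (ht : t k₀ = k₀) (hf : ∀ a ∈ P, θ k₀ a = a → a = 1) {ν : H → H} (h : Au P ν)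
    (hk : ∀ k, ∃ s ∈ P, ∀ a ∈ P, ν (θ k a) = s * θ (t k) (ν a) * s⁻¹) :
    ∃ b ∈ P, ∀ k, ∀ a ∈ P, b * ν (θ k a) * b⁻¹ = θ (t k) (b * ν a * b⁻¹) := by
  obtain ⟨s₀, hs₀, e₀⟩ := hk k₀
  obtain ⟨b, hb, eb⟩ := surj (θ k₀) hf le_rfl (hθ k₀) hs₀
  have c₀ : ∀ a ∈ P, b * ν (θ k₀ a) * b⁻¹ = θ k₀ (b * ν a * b⁻¹) := fun a ha => by
    rw [e₀ a ha, ht, ← eb, map_mul, map_mul, map_inv]; group
  have cm : ∀ k l a, θ k (θ l a) = θ l (θ k a) := fun k l a => by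
    rw [← MulAut.mul_apply, ← map_mul, mul_comm, map_mul, MulAut.mul_apply]
  refine ⟨b, hb, fun k a ha => ?_⟩
  obtain ⟨s, hs, e⟩ := hk k
  obtain ⟨s', hs'⟩ : ∃ s', s' = b * s * (θ (t k) b)⁻¹ := ⟨_, rfl⟩
  have sP : s' ∈ P := hs' ▸ mul_mem (mul_mem hb hs) (inv_mem (hθ _ b hb))
  have e' : ∀ a ∈ P, b * ν (θ k a) * b⁻¹ = s' * θ (t k) (b * ν a * b⁻¹) * s'⁻¹ := fun a ha => by
    rw [e a ha, hs', map_mul, map_mul, map_inv]; group
  have au : Au P fun a => θ k₀ (θ (t k) (b * ν a * b⁻¹)) := (aut _ (hθ k₀)).comp ((aut _ (hθ (t k))).comp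
    ((Au.conj b fun a ha => mul_mem (mul_mem hb ha) (inv_mem hb)).comp h))
  have z : s'⁻¹ * θ k₀ s' ∈ P ⊓ Subgroup.centralizer P := by
    refine ⟨P.mul_mem (P.inv_mem sP) (hθ _ _ sP), fun x hx => ?_⟩
    obtain ⟨a, ha, rfl⟩ := au.sur x hx
    have k1 := e' _ (hθ k₀ a ha)
    rw [cm k k₀, c₀ _ (hθ k a ha), e' a ha, c₀ a ha, cm (t k) k₀, map_mul, map_mul, map_inv] at k1
    generalize θ k₀ (θ (t k) (b * ν a * b⁻¹)) = y at k1 ⊢
    calc y * (s'⁻¹ * θ k₀ s') = s'⁻¹ * (s' * y * s'⁻¹) * θ k₀ s' := by group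
      _ = _ := by rw [← k1]; group
  obtain ⟨y, hy, ey⟩ := surj (θ k₀) hf (Z := P ⊓ Subgroup.centralizer P) inf_le_left (fun a ha =>
    ⟨hθ _ a ha.1, fun x hx => by
      obtain ⟨c, hc, rfl⟩ := (aut _ (hθ k₀)).sur x hx
      rw [← map_mul, ha.2 c hc, map_mul]⟩) z
  obtain rfl := inj (θ k₀) hf hy.1 sP ey
  rw [e' a ha, ← hy.2 _ (hθ _ _ (mul_mem (mul_mem hb (h.mem a ha)) (inv_mem hb))), mul_inv_cancel_right]

end gen

variable {K : Type*} [Field K] [Tits K]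

theorem fixQ {α : K} (hα : α ≠ 1) {a : OU K} (ha : a ∈ (sQ : Subgroup (OU K))) (h : tor α 1 a = a) :
    a = 1 := by
  have w0 : σ α ≠ 1 := fun e => hα (σ_inj.1 (by simpa using e))
  have w1 : α * σ α ≠ 1 := fun e => hα (nrm_inj (by simpa using e))
  have w2 : α ^ 2 * σ α ≠ 1 := fun e => hα (nrm2_inj (by simpa using e))
  ext
  · exact nn_cancel hα (by simpa using congrArg OU.x1 h)
  · exact nn_cancel hα (by simpa using congrArg OU.y2 h)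
  · exact nn_cancel w1 (by simpa using congrArg OU.x2 h)
  · exact nn_cancel w1 (by simpa using congrArg OU.x3 h)
  · exact nn_cancel w0 (by simpa using congrArg OU.y4 h)
  · exact nn_cancel w2 (by simpa using congrArg OU.x4 h)
  · exact nn_cancel w1 (by simpa using congrArg OU.x5 h)
  · exact nn_cancel hα (by simpa using congrArg OU.y6 h)
  · exact nn_cancel w1 (by simpa using congrArg OU.x6 h)
  · exact nn_cancel hα (by simpa using congrArg OU.x7 h)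
  · simpa using ha.1
  · simpa using ha.2

theorem nu_tor (k : Kˣ × Kˣ) (b : OU K) : nu (torA (tN k) b) = torA k (nu b) := by
  obtain ⟨α, β⟩ := k
  have h1 := β.ne_zero
  have h2 : σ (β : K) ≠ 0 := by simp
  ext <;> simp [tN] <;> first | exact Or.inl (by field_simp) | field_simp

theorem ex_ne [Finite K] (hq : 2 < Nat.card K) : ∃ β : Kˣ, β ≠ 1 := by
  have : Nontrivial Kˣ := Finite.one_lt_card_iff_nontrivial.1 (by rw [Nat.card_units]; omega)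
  exact exists_ne 1

end Nrm

variable {K : Type*} [Field K] [Tits K] [Finite K]

theorem nrmQ (hq : 2 < Nat.card K) {ν : OU K → OU K} (h : Au sQ ν) (hz : ∀ t, ν (X4 t) = X4 t)
    (hk : ∀ k, ∃ s ∈ (sQ : Subgroup (OU K)),
      ∀ a ∈ (sQ : Subgroup (OU K)), ν (torA k a) = s * torA (tN k) (ν a) * s⁻¹) :
    ∃ (b : OU K) (k : Kˣ × Kˣ), ∀ a ∈ (sQ : Subgroup (OU K)), nu a = b * ν (torA k a) * b⁻¹ := by
  obtain ⟨α, hα⟩ := Nrm.ex_ne hq
  have tq : ∀ (k : Kˣ × Kˣ), ∀ a ∈ (sQ : Subgroup (OU K)), torA k a ∈ (sQ : Subgroup (OU K)) :=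
    fun k a ha => ⟨by simp [ha.1], by simp [ha.2]⟩
  obtain ⟨b, hb, e⟩ := Nrm.main torA tq (t := tN) (k₀ := (α, 1)) (by simp [tN])
    (fun a ha e => Nrm.fixQ (α := (α : K)) (fun e => hα (Units.ext e)) ha (by simpa using e)) h hk
  have an : Au (sQ : Subgroup (OU K)) nu := .of_inj (fun a _ => ⟨rfl, rfl⟩) (fun a ha b hb => nu_mul ha hb)
    fun a ha b hb e => by rw [← nu_nu ha, e, nu_nu hb]
  have a1 := (Au.conj b (nm_Q b)).comp h
  obtain ⟨s, hs⟩ := chaseQ hq (an.comp a1) (fun k a ha => by rw [e k a ha, Nrm.nu_tor]) fun t => by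
    rw [hz, bru_cZ b (by simp)]
    ext <;> simp
  refine ⟨b, dk s⁻¹, fun a ha => ?_⟩
  have k := hs _ (tq (dk s⁻¹) a ha)
  rw [← torA_dk, ← MulAut.mul_apply, ← map_mul, ← map_mul, mul_inv_cancel, map_one, map_one,
    MulAut.one_apply] at k
  exact (congrArg nu k).symm.trans (nu_nu (a1.mem _ (tq _ a ha)))

theorem nrmT (hq : 2 < Nat.card K) {μ : OU K → OU K} (h : Au sT μ) (hy : ∀ a b, μ (EY a b) = EY b a)
    (hk : ∀ k, ∃ s ∈ (sT : Subgroup (OU K)),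
      ∀ a ∈ (sT : Subgroup (OU K)), μ (torA k a) = s * torA (tM k) (μ a) * s⁻¹) :
    ∃ b : OU K, ∀ a ∈ (sT : Subgroup (OU K)), mu a = b * μ a * b⁻¹ := by
  obtain ⟨β, hβ⟩ := Nrm.ex_ne hq
  have tq : ∀ (k : Kˣ × Kˣ), ∀ a ∈ (sT : Subgroup (OU K)), torA k a ∈ (sT : Subgroup (OU K)) :=
    fun k a ha => by simp [mem_sT.1 ha]
  obtain ⟨b, hb, e⟩ := Nrm.main torA tq (t := tM) (k₀ := (1, β)) (by simp [tM])
    (fun a ha e => nn_fix (β := (β : K)) (fun e => hβ (Units.ext e)) (mem_sT.1 ha) (by simpa using e)) h hk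
  have a1 := (Au.conj b (nm_T b)).comp h
  have key := chase hq (fun a => mu (b * μ a * b⁻¹)) (fun _ _ => rfl) (fun a c ha hc => by
    rw [a1.mul a (mem_sT.2 ha) c (mem_sT.2 hc)]
    exact mu_mul (mem_sT.1 (a1.mem a (mem_sT.2 ha))) (mem_sT.1 (a1.mem c (mem_sT.2 hc))))
    (fun k a ha => by rw [e k a (mem_sT.2 ha)]; exact nn_mu_tor k.1 k.2 _) fun s t => by
    rw [hy, nn_comm_T (mem_sT.1 hb), mul_inv_cancel_right]
    ext <;> simp
  exact ⟨b, fun a ha => (congrArg mu (key a (mem_sT.1 ha))).symm.trans (mu_mu (mem_sT.1 (a1.mem a ha)))⟩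

end Cfsg.Agent.RFS
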