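import Cfsg.Agent.RFS.StdA
import Cfsg.Agent.RFS.MT2
import Cfsg.Agent.OCT.Line

/-! Project RFS: existence of the reflection `m`, `q = 2`.  See `notes/RFS.md`. -/

set_option autoImplicit false
set_option linter.unusedSectionVars false

namespace Cfsg.Agent.RFS

open OCT OCT.OU
open scoped commutatorElement

variable {K : Type*} [Field K] [Tits K] [Finite K] {G : Type*} [Group G] {u : OU K →* G}

namespace SwTA

theorem mem_nm {A : Subgroup (OU K)} {f : OU K → OU K} {w : G} (h : Au A f)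
    (e : ∀ a ∈ A, w * u a * w⁻¹ = u (f a)) : w ∈ Subgroup.normalizer (A.map u : Set G) :=
  Subgroup.mem_normalizer_iff.2 fun x => ⟨by
    rintro ⟨a, ha, rfl⟩
    exact ⟨_, h.mem a ha, (e a ha).symm⟩, by
    rintro ⟨b, hb, k⟩
    obtain ⟨a, ha, rfl⟩ := h.sur b hb
    exact ⟨a, ha, by simpa using (e a ha).trans k⟩⟩

theorem hom_eq {A : Subgroup (OU K)} {w w' : Subgroup.normalizer (A.map u : Set G)} :
    (A.map u).normalizerMonoidHom w = (A.map u).normalizerMonoidHom w' ↔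
      ∀ a ∈ A, (w : G) * u a * (w : G)⁻¹ = w' * u a * (w' : G)⁻¹ :=
  ⟨fun h a ha => by
    have := congrArg Subtype.val (DFunLike.congr_fun h (⟨u a, a, ha, rfl⟩ : A.map u))
    exact this, fun h => by
    ext ⟨_, a, ha, rfl⟩
    exact h a ha⟩

end SwTA

open SwTA in
theorem swT (hq : Nat.card K = 2) (c : Ctx u) (l : Low u) : ∃ μ A, Fa u sT μ ∧ SwA μ A := by
  have h11 : (1 + 1 : K) = 0 := CharTwo.add_self_eq_zero _
  obtain ⟨f, ⟨hf, g, hg⟩, ff, fy⟩ := l 1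
  have e1 : (X1 1 : OU K) * X1 1 = 1 := by ext <;> simp [h11]
  have uN : ∀ s : OU K, u s ∈ Subgroup.normalizer ((sT : Subgroup (OU K)).map u : Set G) := fun s =>
    mem_nm (Au.conj s (nm_T s)) fun a _ => by simp
  obtain ⟨x, hx⟩ : ∃ x : Subgroup.normalizer ((sT : Subgroup (OU K)).map u : Set G), (x : G) = u (X1 1) :=
    ⟨⟨_, uN _⟩, rfl⟩
  obtain ⟨y, hy⟩ : ∃ y : Subgroup.normalizer ((sT : Subgroup (OU K)).map u : Set G), (y : G) = g :=
    ⟨⟨_, mem_nm hf hg⟩, rfl⟩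
  set φ := ((sT : Subgroup (OU K)).map u).normalizerMonoidHom with hφ
  have xx : x * x = 1 := Subtype.ext (by rw [Subgroup.coe_mul, hx, ← map_mul, e1, map_one]; rfl)
  have xi : (x : G)⁻¹ = x := congrArg Subtype.val (inv_eq_of_mul_eq_one_right xx)
  have XX : φ x * φ x = 1 := by rw [← map_mul, xx, map_one]
  have YY : φ y * φ y = 1 := by
    rw [← map_mul, ← map_one φ]
    refine hom_eq.2 fun a ha => ?_
    rw [Subgroup.coe_mul, hy, show g * g * u a * (g * g)⁻¹ = g * (g * u a * g⁻¹) * g⁻¹ by group, hg a ha,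
      hg _ (hf.mem a ha), ff a ha]
    simp
  have cE : ∀ (w : OU K) (a b : K), u w * u (EY a b) * (u w)⁻¹ = u (EY (a + w.x1 * b) b) := fun w a b => by
    rw [← conj_EY]; simp
  have ax : ∀ a b, (x : G) * u (EY a b) * (x : G)⁻¹ = u (EY (a + b) b) := fun a b => by
    rw [hx, cE]; simp
  have ar : ∀ a b, ((x * y : Subgroup.normalizer _) : G) * u (EY a b) * ((x * y : Subgroup.normalizer _) : G)⁻¹ =
      u (EY b (a + b)) := fun a b => by
    rw [Subgroup.coe_mul, hy, show (x : G) * g * u (EY a b) * ((x : G) * g)⁻¹ =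
      x * (g * u (EY a b) * g⁻¹) * (x : G)⁻¹ by group, hg _ (by simp), fy, ax]
    congr 2 <;> grind
  have inv : φ x * φ (x * y) * φ x = (φ (x * y))⁻¹ := by
    rw [map_mul, ← mul_assoc, XX, one_mul, mul_inv_rev, inv_eq_of_mul_eq_one_right XX,
      inv_eq_of_mul_eq_one_right YY]
  generalize x * y = r at ar inv
  obtain ⟨s, hs1, hs⟩ : ∃ s : OU K, s.x1 = 0 ∧ φ (r ^ 3) = φ ⟨u s, uN s⟩ := by
    obtain ⟨f3, h3, k3⟩ := Fa.of_nm c.inj (r ^ 3).2
    have r3 : ∀ a b, f3 (EY a b) = EY a b := fun a b => c.inj (by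
      rw [← k3 _ (by simp), Subgroup.coe_pow, show (r : G) ^ 3 * u (EY a b) * ((r : G) ^ 3)⁻¹ =
        r * (r * (r * u (EY a b) * (r : G)⁻¹) * (r : G)⁻¹) * (r : G)⁻¹ by rw [pow_three]; group, ar, ar, ar]
      congr 2 <;> grind)
    obtain ⟨F, hF, eF⟩ := c.extT f3 h3 fun y hy => by rwa [eq_EY (Sh.Z_Y hy), r3, ← eq_EY (Sh.Z_Y hy)]
    obtain ⟨s, hs⟩ := (c.std_two hq).two hq hF
    refine ⟨s, ?_, hom_eq.2 fun a ha => ?_⟩
    · have := congrArg OU.x4 ((hs _).symm.trans ((eF _ (by simp)).trans (r3 0 1)))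
      rw [conj_EY] at this
      simpa using this
    · rw [k3 a ha, ← eF a ha, hs]; simp
  have sp : ∀ n : ℕ, φ (r ^ 3) ^ n = φ ⟨u (s ^ n), uN _⟩ := fun n => by
    rw [hs, ← map_pow]; congr 1; exact Subtype.ext (map_pow u s n).symm
  obtain ⟨j, hj⟩ := two_OU (K := K) ⟨s, trivial⟩
  have hj' : φ (r ^ 3) ^ 2 ^ j = 1 := by
    rw [sp, ← map_one φ]; congr 1
    exact Subtype.ext (by rw [show s ^ 2 ^ j = 1 from congrArg Subtype.val hj]; simp)
  obtain ⟨k, hk⟩ : ∃ k, 2 ^ j * 2 ^ j = 3 * k + 1 := by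
    refine ⟨2 ^ j * 2 ^ j / 3, ?_⟩
    have : 2 ^ j * 2 ^ j % 3 = 1 := by rw [← mul_pow, Nat.pow_mod]; simp
    omega
  obtain ⟨t, ht⟩ : ∃ t, t = r ^ (3 * k + 1) := ⟨_, rfl⟩
  have f3 : φ t * φ t = (φ t)⁻¹ := eq_inv_of_mul_eq_one_left (by
    rw [← pow_three', ht, map_pow, ← pow_mul, ← hk, mul_comm _ 3, pow_mul, pow_mul, ← map_pow, hj', one_pow])
  have fi : φ x * φ t * φ x = (φ t)⁻¹ := by
    rw [ht, map_pow, ← inv_pow, ← inv]
    nth_rewrite 2 4 [← inv_eq_of_mul_eq_one_right XX]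
    rw [conj_pow]
  have mm : φ (t * x * (t * x)) = φ 1 := by
    rw [map_one, map_mul, map_mul, show φ t * φ x * (φ t * φ x) = φ t * (φ x * φ t * φ x) by group, fi,
      mul_inv_cancel]
  have br : φ (x * (t * x) * x) = φ (t * x * x * (t * x)) := by
    simp only [map_mul]
    rw [← mul_assoc, fi, mul_assoc (φ t), XX, mul_one, ← mul_assoc, f3]
  have s4 : φ (t * x) = φ (⟨u (s ^ k), uN _⟩ * r * x) := by
    rw [ht, map_mul, map_mul, map_mul, ← sp, pow_succ, pow_mul, map_mul, map_pow]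
  generalize t * x = m at mm br s4
  obtain ⟨μ, hμ, eμ⟩ := Fa.of_nm c.inj m.2
  refine ⟨μ, _, hμ, hμ.au.mem, fun a b ha hb => hμ.au.mul a ha b hb, fun a ha => c.inj ?_, fun a ha => c.inj ?_, c.inj ?_, rfl⟩
  · have := hom_eq.1 mm a ha
    rw [← eμ _ (hμ.au.mem a ha), ← eμ a ha]
    simp only [Subgroup.coe_mul] at this
    simpa [mul_assoc] using this
  · have := hom_eq.1 br a ha
    have hT : ∀ b : OU K, b.x1 = 0 → X1 1 * b * X1 1 ∈ (sT : Subgroup (OU K)) := fun b hb => by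
      simp [hb, h11]
    rw [map_mul, map_mul, ← eμ _ (hT a ha), ← eμ _ (hT _ (hμ.au.mem a ha)), map_mul, map_mul, map_mul,
      map_mul, ← eμ a ha, ← hx]
    simp only [Subgroup.coe_mul] at this
    simpa [mul_assoc, xi] using this
  · have := hom_eq.1 s4 (EY 1 0) (by simp)
    have h1 : (s ^ k).x1 = 0 := pow_mem (show s ∈ (sT : Subgroup (OU K)) from hs1) k
    rw [X4_eq, X6_eq, ← eμ _ (by simp), this, Subgroup.coe_mul, Subgroup.coe_mul,
      show u (s ^ k) * (r : G) * x * u (EY 1 0) * (u (s ^ k) * r * x)⁻¹ =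
        u (s ^ k) * (r * (x * u (EY 1 0) * (x : G)⁻¹) * (r : G)⁻¹) * (u (s ^ k))⁻¹ by group, ax, ar, cE, h1]
    simp

theorem mt2 (hq : Nat.card K = 2) (c : Ctx u) (l : Low u) (hn : In u sQ nu) :
    ∃ β : OU K ≃* OU K, In (u.comp β.toMonoidHom) sQ nu ∧ In (u.comp β.toMonoidHom) sT mu := by
  obtain ⟨μ, A, hμ, s⟩ := swT hq c l
  obtain ⟨β, t, ht, h1, h2⟩ := s.ok hq
  have bQ := chS_Q.inv β (Au.equiv β)
  have bT := chS_T.inv β (Au.equiv β)
  refine ⟨β, (hn.tw β bQ).congr fun a ha => by rw [h1 a ha, β.symm_apply_apply], ?_⟩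
  have h3 : In u sT fun a => t * μ (t⁻¹ * a * t⁻¹⁻¹) * t⁻¹ :=
    (In.conj u ⊤ t).comp (hμ.ind.comp (In.conj u sT t⁻¹) (nm_T t⁻¹)) fun _ _ => trivial
  exact (h3.tw β bT).congr fun a ha => by rw [inv_inv, h2 a ha, β.symm_apply_apply]

end Cfsg.Agent.RFS
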