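import Cfsg.Agent.RFS.Chr
import Cfsg.Agent.OCT.Tor
import Cfsg.Agent.OCT.Line

/-! Project RFS: the automizer of `T`.  See `notes/RFS.md`. -/

set_option autoImplicit false
set_option linter.unusedSectionVars false

namespace Cfsg.Agent.RFS

open OCT OCT.OU
open OCT.Tor (wt wt_inj)
open scoped commutatorElement

variable {K : Type*} [Field K] [Tits K] [Finite K] {G : Type*} [Group G] {u : OU K →* G}

namespace TorT

theorem EY_Y (a b : K) : EY a b ∈ (sY : Subgroup (OU K)) := by simp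
theorem EY_T (a b : K) : EY a b ∈ (sT : Subgroup (OU K)) := by simp
theorem EY_inj {a b a' b' : K} (h : EY a b = EY a' b') : a = a' ∧ b = b' :=
  ⟨congrArg OU.x4 h, congrArg OU.x6 h⟩
theorem eq_Z {y : OU K} (h : y ∈ (sZ : Subgroup (OU K))) : y = EY y.x4 0 := by
  simp only [mem_sZ] at h
  ext <;> simp [h]

theorem tor_EY (k : Kˣ × Kˣ) (a b : K) : torA k (EY a b) = EY ((wt k).1 * a) ((wt k).2 * b) := by
  ext <;> simp [wt]

theorem fld_EY (φ : K → K) (h : φ 0 = 0) (a b : K) : fld φ (EY a b) = EY (φ a) (φ b) := by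
  ext <;> simp [h]

theorem in_tor {F : OU K → OU K} (hF : In u ⊤ F) {s : OU K} {k : Kˣ × Kˣ}
    (e : ∀ a, F a = s * torA k a * s⁻¹) : In u ⊤ (torA k) :=
  ((In.conj u ⊤ s⁻¹).comp hF fun _ _ => trivial).congr fun a _ => by rw [e]; group

theorem fa_torT {k : Kˣ × Kˣ} (h : In u ⊤ (torA k)) : Fa u sT (torA k) :=
  ⟨(Au.equiv (torA k)).res le_top fun b hb => by simp [mem_sT.1 hb], h.mono le_top⟩

theorem diag (c : Ctx u) (st : Std u) {f : OU K → OU K} (hf : Fa u sT f) {l l' : Kˣ}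
    (h : ∀ a b, f (EY a b) = EY (l * a) (l' * b)) : ∃ k, ∃ s ∈ (sT : Subgroup (OU K)), wt k = (l, l') ∧
      In u ⊤ (torA k) ∧ ∀ a ∈ (sT : Subgroup (OU K)), f a = s * torA k a * s⁻¹ := by
  obtain ⟨F, hF, e⟩ := c.extT f hf fun y hy => by rw [eq_Z hy, h]; simp
  obtain ⟨s, k, φ, e1⟩ := st F hF
  have e2 : ∀ a b : K, EY (l * a) (l' * b) =
      EY ((wt k).1 * φ a + s.x1 * ((wt k).2 * φ b)) ((wt k).2 * φ b) := fun a b => by
    rw [← h, ← e _ (EY_T a b), e1, fld_EY _ (map_zero φ), tor_EY, conj_EY]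
  have h4 : ((wt k).1 : K) = l := by simpa using (EY_inj (e2 1 0)).1.symm
  have h6 : ((wt k).2 : K) = l' := by simpa using (EY_inj (e2 0 1)).2.symm
  have hφ : ∀ t, φ t = t := fun t => by
    have := (EY_inj (e2 t 0)).1
    rw [h4] at this
    simpa using this.symm
  have hs : s.x1 = 0 := by simpa using (EY_inj (e2 0 1)).1.symm
  have e3 : ∀ a, F a = s * torA k a * s⁻¹ := fun a => by
    rw [e1, show fld φ a = a by ext <;> simp [hφ]]
  exact ⟨k, s, hs, Prod.ext (Units.ext h4) (Units.ext h6), in_tor hF.ind e3,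
    fun a ha => by rw [← e a ha, e3]⟩

theorem exists_w (l : Low u) (r : Kˣ) :
    ∃ w, Fa u sT w ∧ ∀ a b, w (EY a b) = EY ((r⁻¹ : Kˣ) * b) (r * a) := by
  obtain ⟨f, hf, -, e⟩ := l r
  have c := Fa.conj u (X1 ((r⁻¹ : Kˣ) : K)) (nm_T _)
  refine ⟨_, (c.comp hf).comp c, fun a b => ?_⟩
  simp only [conj_EY, e, X1_x1]
  have := r.inv_mul
  have := r.mul_inv
  congr 1 <;> grind

end TorT

open TorT

theorem low (e : EssT u) : Low u := by
  obtain ⟨v, hv, hz⟩ := e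
  obtain ⟨a0, b0, -, h0⟩ := t2 hv.au
  have hb : b0 ≠ 0 := fun e => hz fun y hy => by
    obtain ⟨r, hr⟩ := h0 y.x4
    rw [eq_Z hy, ← X4_eq, hr, e]; simp
  obtain ⟨v, hv, h1⟩ : ∃ v, Fa u sT v ∧ ∀ t, ∃ r, v (EY t 0) = EY 0 r :=
    ⟨_, (Fa.conj u (X1 (a0 / b0)) (nm_T _)).comp hv, fun t => by
      obtain ⟨r, hr⟩ := h0 t
      refine ⟨r * b0, ?_⟩
      simp only [← X4_eq, hr, conj_EY, X1_x1]
      congr 1
      have := div_mul_cancel₀ a0 hb
      grind⟩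
  choose g hg using h1
  have gs : Function.Surjective g := Finite.surjective_of_injective fun t t' e =>
    (EY_inj (hv.au.inj _ (EY_T t 0) _ (EY_T t' 0) (by rw [hg, hg, e]))).1
  obtain ⟨w, hw, wv, vw⟩ := hv.exists_inv
  have wY : ∀ a b, w (EY a b) ∈ (sY : Subgroup (OU K)) := fun a b => chT_Y.inv w hw.au _ (EY_Y a b)
  have w6 : ∀ a b, (w (EY a b)).x6 = (w (EY a 0)).x6 := fun a b => by
    obtain ⟨t, rfl⟩ := gs b
    rw [show EY a (g t) = EY a 0 * EY 0 (g t) by rw [EY_mul]; simp,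
      hw.au.mul _ (EY_T _ _) _ (EY_T _ _), ← hg, wv _ (EY_T _ _), eq_EY (wY a 0), EY_mul]
    simp
  have c1 : (w (EY 1 0)).x6 ≠ 0 := fun e => by
    have := vw _ (EY_T 1 0)
    rw [eq_EY (wY 1 0), e, hg] at this
    exact zero_ne_one (EY_inj this).1
  intro s
  obtain ⟨t0, rfl⟩ := gs s
  obtain ⟨t, rfl⟩ : ∃ t, t0 = t * (w (EY 1 0)).x6 := ⟨t0 / (w (EY 1 0)).x6, by field_simp⟩
  have hf := (hv.comp (Fa.conj u (X1 t) (nm_T _))).comp hw
  have e1 : ∀ a b, v (X1 t * w (EY a b) * (X1 t)⁻¹) = EY a (b + g (t * (w (EY a 0)).x6)) := fun a b => by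
    have : X1 t * w (EY a b) * (X1 t)⁻¹ = w (EY a b) * EY (t * (w (EY a 0)).x6) 0 := by
      rw [← w6 a b]
      generalize w (EY a b) = y, wY a b = hy
      rw [eq_EY hy, conj_EY, EY_mul]; simp
    rw [this, hv.au.mul _ (hw.au.mem _ (EY_T _ _)) _ (EY_T _ _), vw _ (EY_T _ _), hg, EY_mul, add_zero]
  obtain ⟨a1, b1, -, h1⟩ := t2 hf.au
  refine ⟨_, hf, fun a ha => ?_, fun a b => ?_⟩
  · have : X1 t * X1 t = 1 := by ext <;> simp [CharTwo.add_self_eq_zero]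
    rw [wv _ (nm_T _ _ (hw.au.mem a ha)), show X1 t * (X1 t * w a * (X1 t)⁻¹) * (X1 t)⁻¹ =
      X1 t * X1 t * w a * (X1 t * X1 t)⁻¹ by group, this, one_mul, inv_one, mul_one, vw a ha]
  · obtain ⟨r, hr⟩ := h1 a
    obtain ⟨r1, hr1⟩ := h1 1
    simp only [X4_eq, e1, zero_add] at hr hr1 ⊢
    rw [(EY_inj hr).2, (EY_inj hr1).2]
    congr 2
    have := (EY_inj hr).1
    have := (EY_inj hr1).1
    grind

theorem torT (c : Ctx u) (st : Std u) (l : Low u) (t : Kˣ) : In u ⊤ (torA (t ^ 2, t⁻¹)) := by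
  obtain ⟨w, hw, e⟩ := exists_w l t⁻¹
  obtain ⟨w1, hw1, e1⟩ := exists_w l 1
  obtain ⟨k, -, -, h1, h2, -⟩ := diag c st (hw.comp hw1) (l := t) (l' := t⁻¹) fun a b => by
    simp [e, e1]
  rwa [wt_inj (a₁ := k) (a₂ := (t ^ 2, t⁻¹)) (by
    rw [h1, wt]; congr 1 <;> ext <;> simp <;> field_simp)] at h2

theorem muT (c : Ctx u) (st : Std u) (l : Low u) (ht : ∀ k, In u ⊤ (torA k)) :
    ∃ μ, Fa u sT μ ∧ (∀ a b, μ (EY a b) = EY b a) ∧ ∀ k, ∃ s ∈ (sT : Subgroup (OU K)),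
      ∀ a ∈ (sT : Subgroup (OU K)), μ (torA k a) = s * torA (tM k) (μ a) * s⁻¹ := by
  obtain ⟨μ, hμ, e⟩ := exists_w l 1
  have e0 : ∀ a b, μ (EY a b) = EY b a := by simpa using e
  refine ⟨μ, hμ, e0, fun k => ?_⟩
  obtain ⟨w, hw, h1, -⟩ := hμ.exists_inv
  obtain ⟨k', s, hs, h2, -, h3⟩ := diag c st ((hμ.comp (fa_torT (ht k))).comp hw)
    (l := (wt k).2) (l' := (wt k).1) fun a b => by
      rw [← e0 b a, h1 _ (EY_T _ _), tor_EY, e0]
  rw [wt_inj (a₁ := k') (a₂ := tM k) (by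
    rw [h2, wt, wt, tM]; congr 1 <;> ext <;> simp <;> field_simp)] at h3
  refine ⟨s, hs, fun a ha => ?_⟩
  have := h3 _ (hμ.au.mem a ha)
  rwa [h1 a ha] at this

end Cfsg.Agent.RFS
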