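import Cfsg.Agent.RFS.Chr
import Cfsg.Agent.RFS.TorT
import Cfsg.Agent.OCT.Tor
import Cfsg.Agent.OCT.Line

/-! Project RFS: the automizer of `Q`.  See `notes/RFS.md`. -/

set_option autoImplicit false
set_option linter.unusedSectionVars false

namespace Cfsg.Agent.RFS

open OCT OCT.OU
open OCT.Tor (wt wt_inj)
open scoped commutatorElement

variable {K : Type*} [Field K] [Tits K] [Finite K] {G : Type*} [Group G] {u : OU K →* G}

namespace TorQ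

open TorT

theorem Y_Q : (sY : Subgroup (OU K)) ≤ sQ := fun a h => by simp_all
theorem Y0_Q : (sY0 : Subgroup (OU K)) ≤ sQ := fun a h => by simp_all
theorem Z_Q : (sZ : Subgroup (OU K)) ≤ sQ := fun a h => by simp_all
theorem EY_Q (a b : K) : EY a b ∈ (sQ : Subgroup (OU K)) := by simp
theorem X2_Q (a : K) : X2 a ∈ (sQ : Subgroup (OU K)) := by simp
theorem X4_Z (a : K) : X4 a ∈ (sZ : Subgroup (OU K)) := by simp

theorem nu_Q (a : OU K) : nu a ∈ (sQ : Subgroup (OU K)) := by simp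

theorem au_nu : Au (sQ : Subgroup (OU K)) nu :=
  .of_inj (fun a _ => nu_Q a) (fun _ ha _ hb => nu_mul ha hb) fun a ha b hb e => by
    rw [← nu_nu ha, e, nu_nu hb]

theorem onto {f : OU K → OU K} (h : Au sQ f) (hy : ∀ y ∈ (sY : Subgroup (OU K)), f y ∈ (sY0 : Subgroup (OU K)))
    {b : OU K} (hb : b ∈ (sY0 : Subgroup (OU K))) : ∃ y ∈ (sY : Subgroup (OU K)), f y = b := by
  have k : ∀ a ∈ (sY0 : Subgroup (OU K)), nu a ∈ (sY : Subgroup (OU K)) := fun a ha => by simp_all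
  obtain ⟨y, h1, h2⟩ := ((au_nu.comp h).res Y_Q fun y h1 => k _ (hy y h1)).sur _ (k b hb)
  exact ⟨y, h1, au_nu.inj _ (h.mem y (Y_Q h1)) _ (Y0_Q hb) h2⟩

theorem nm_Y (s : OU K) {y : OU K} (hy : y ∈ (sY : Subgroup (OU K))) : s * y * s⁻¹ ∈ (sY : Subgroup (OU K)) := by
  rw [eq_EY hy, conj_EY]; exact EY_Y _ _

theorem cj_Z (s : OU K) {y : OU K} (hy : y ∈ (sZ : Subgroup (OU K))) : s * y * s⁻¹ = y := by
  rw [← m_Z hy, mul_inv_cancel_right]

theorem mem_Q_of {s : OU K} {t : K} (ht : t ≠ 0) (h : s * X2 t * s⁻¹ ∈ (sY0 : Subgroup (OU K))) :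
    s ∈ (sQ : Subgroup (OU K)) := by
  obtain ⟨b, hb, e⟩ : ∃ b ∈ (sY0 : Subgroup (OU K)), s * X2 t = b * s := ⟨_, h, by group⟩
  simp only [mem_sY0] at hb
  have h3 := congrArg OU.x3 e
  have h5 := congrArg OU.x5 e
  simp [hb, ht] at h3 h5
  have h8 : s.y8 = 0 := h3
  simp [h8, ht] at h5
  exact ⟨h8, h5⟩

theorem iter_odd {f F : OU K → OU K} {A : Subgroup (OU K)} (hm : ∀ a ∈ A, f a ∈ A) (h2 : ∀ a ∈ A, f (f a) = a)
    (e : ∀ a ∈ A, F a = f a) {k : ℕ} (hk : Odd k) {a : OU K} (ha : a ∈ A) : F^[k] a = f a := by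
  obtain ⟨j, rfl⟩ := hk
  induction j with
  | zero => exact e a ha
  | succ j ih =>
    rw [show 2 * (j + 1) + 1 = 2 * j + 1 + 1 + 1 by ring, Function.iterate_succ_apply',
      Function.iterate_succ_apply', ih, e _ (hm a ha), h2 a ha, e a ha]

theorem fa_torQ {k : Kˣ × Kˣ} (h : In u ⊤ (torA k)) : Fa u sQ (torA k) :=
  ⟨(Au.equiv (torA k)).res le_top fun b hb => by simp_all, h.mono le_top⟩

theorem x6_nu {ν : OU K → OU K} (s : SwQ u ν) : ∃ c : K, c ≠ 0 ∧ ∀ t, (ν (X2 t)).x6 = t * c := by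
  have hd : ν (X1 1) ∈ (sQ : Subgroup (OU K)) := s.fa.au.mem _ (by simp)
  have key : ∀ t, (ν (X2 t)).x6 = t * (ν (X1 1)).x7 := fun t => by
    have hr : ν (Y4 t) ∈ (sR : Subgroup (OU K)) := chQ_R.inv ν s.fa.au _ (by simp)
    have h1 : ν (Y4 t) * ν (Y4 t) = X4 (t * σ t) := by
      rw [← s.fa.au.mul _ (by simp) _ (by simp), ← s.cz]
      congr 1
      ext <;> simp [CharTwo.add_self_eq_zero]
    have h2 : ν (X1 1) * ν (Y4 t) = ν (X2 t) * X4 (t * σ t + t * σ t) * (ν (Y4 t) * ν (X1 1)) := by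
      rw [← s.cz, ← s.fa.au.mul _ (by simp) _ (by simp), ← s.fa.au.mul _ (by simp) _ (by simp),
        ← s.fa.au.mul _ (by simp) _ (by simp), ← s.fa.au.mul _ (by simp) _ (by simp)]
      congr 1
      ext <;> simp [CharTwo.add_self_eq_zero]
    have hy := s.y0 (X2 t) (by simp)
    generalize ν (Y4 t) = r, ν (X1 1) = d, ν (X2 t) = y at *
    simp only [mem_sR, mem_sQ, mem_sY] at hr hd hy
    have h3 := congrArg OU.x4 h1
    have h4 := congrArg OU.x6 h2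
    simp [hr, hd, hy] at h3 h4
    have h5 : r.y4 = t := nrm_inj (by grind)
    grind
  refine ⟨_, fun e => ?_, key⟩
  have h1 := key 1
  rw [e, mul_zero] at h1
  have h2 := eq_EY (s.y0 (X2 1) (by simp))
  rw [h1, ← X4_eq, ← s.cz] at h2
  simpa using congrArg OU.x2 (s.fa.au.inj _ (X2_Q _) _ (Z_Q (X4_Z _)) h2)

end TorQ

open TorT TorQ

theorem swQ (c : Ctx u) (e : EssQ u) : ∃ ν, SwQ u ν := by
  obtain ⟨v, hv, hy⟩ := e
  obtain ⟨v, hv, h1⟩ : ∃ v, Fa u sQ v ∧ ∀ y ∈ (sY : Subgroup (OU K)), v y ∈ (sY0 : Subgroup (OU K)) :=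
    let ⟨s, hs⟩ := (q2 hv.au).resolve_left hy
    ⟨_, (Fa.conj u s (nm_Q s)).comp hv, hs⟩
  obtain ⟨w, hw, wv, vw⟩ := hv.exists_inv
  have hf := (hv.comp (Fa.conj u (X8 1) (nm_Q _))).comp hw
  obtain ⟨f, ef⟩ : ∃ f : OU K → OU K, f = fun a => v (X8 1 * w a * (X8 1)⁻¹) := ⟨_, rfl⟩
  rw [← ef] at hf
  have fv : ∀ a ∈ (sQ : Subgroup (OU K)), f (v a) = v (X8 1 * a * (X8 1)⁻¹) := fun a ha => by
    rw [ef]; simp only [wv a ha]
  have ff : ∀ a ∈ (sQ : Subgroup (OU K)), f (f a) = a := fun a ha => by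
    obtain ⟨b, hb, rfl⟩ := hv.au.sur a ha
    have : (X8 1 * X8 1 : OU K) = 1 := by ext <;> simp [CharTwo.add_self_eq_zero]
    rw [fv b hb, fv _ (nm_Q _ b hb), show X8 1 * (X8 1 * b * (X8 1)⁻¹) * (X8 1)⁻¹ =
      X8 1 * X8 1 * b * (X8 1 * X8 1)⁻¹ by group, this, one_mul, inv_one, mul_one]
  have fz : ∀ z ∈ (sZ : Subgroup (OU K)), f z = z := fun z hz => by
    rw [ef]; simp only [cj_Z _ (chQ_Z.inv w hw.au z hz), vw z (Z_Q hz)]
  have f2 : f (X2 1) = X2 1 := by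
    obtain ⟨y, h2, h3⟩ := onto hv.au h1 (b := X2 1) (by simp)
    rw [← h3, fv y (Y_Q h2), eq_EY h2, conj_EY]; simp
  have nY : ¬ ∀ y ∈ (sY : Subgroup (OU K)), f y ∈ (sY : Subgroup (OU K)) := fun h => by
    obtain ⟨F, hF, e⟩ := c.extQ f hf h
    obtain ⟨k, hk, s, hs⟩ := c.odd F hF
    have e1 : ∀ a ∈ (sQ : Subgroup (OU K)), f a = s * a * s⁻¹ := fun a ha => by
      rw [← hs, iter_odd hf.au.mem ff e hk ha]
    have sQ' := mem_Q_of (s := s) (t := 1) one_ne_zero (by rw [← e1 _ (X2_Q _), f2]; simp)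
    have hz := Sh.sw (c_WQ (chQ_W.inv v hv.au (X2 1) (by simp)) sQ')
    have hz' := chQ_Z.inv w hw.au _ hz
    have e2 : v (X8 1 * X2 1 * (X8 1)⁻¹) = v (w ⁅s, v (X2 1)⁆ * X2 1) := by
      rw [← fv _ (X2_Q _), e1 _ (hv.au.mem _ (X2_Q _)), hv.au.mul _ (Z_Q hz') _ (X2_Q _), vw _ (Z_Q hz),
        commutatorElement_def]
      group
    have e3 := congrArg OU.x5 (hv.au.inj _ (nm_Q _ _ (X2_Q _)) _ (mul_mem (Z_Q hz') (X2_Q _)) e2)
    generalize w ⁅s, v (X2 1)⁆ = z at hz' e3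
    simp only [mem_sZ] at hz'
    simp [hz'] at e3
  obtain ⟨s, hs⟩ := (q2 hf.au).resolve_left nY
  have hν := ((Fa.conj u s (nm_Q s)).comp hf).comp (Fa.conj u s⁻¹ (nm_Q _))
  have y1 : ∀ y ∈ (sY : Subgroup (OU K)), s * f (s⁻¹ * y * s⁻¹⁻¹) * s⁻¹ ∈ (sY0 : Subgroup (OU K)) :=
    fun y hy => hs _ (nm_Y _ hy)
  refine ⟨_, hν, fun t => by simp only [cj_Z _ (X4_Z t), fz _ (X4_Z t)], y1, fun b hb => ?_⟩
  obtain ⟨y, h2, rfl⟩ := onto hν.au y1 hb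
  rw [show s⁻¹ * (s * f (s⁻¹ * y * s⁻¹⁻¹) * s⁻¹) * s⁻¹⁻¹ = f (s⁻¹ * y * s⁻¹⁻¹) by group,
    ff _ (nm_Q _ _ (Y_Q h2)), show s * (s⁻¹ * y * s⁻¹⁻¹) * s⁻¹ = y by group]
  exact h2

theorem SwQ.tor {ν : OU K → OU K} (s : SwQ u ν) (c : Ctx u) (st : Std u) {k : Kˣ × Kˣ} (hk : In u ⊤ (torA k)) :
    In u ⊤ (torA (tN k)) ∧ ∃ s ∈ (sQ : Subgroup (OU K)),
      ∀ a ∈ (sQ : Subgroup (OU K)), ν (torA k a) = s * torA (tN k) (ν a) * s⁻¹ := by
  obtain ⟨w, hw, wv, -⟩ := s.fa.exists_inv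
  have hf := (s.fa.comp (fa_torQ hk)).comp hw
  obtain ⟨F, hF, e⟩ := c.extQ _ hf fun y hy => by
    obtain ⟨y', h1, rfl⟩ := ((s.fa.au.comp s.fa.au).res Y_Q fun y h => s.y0 _ (s.y y h)).sur y hy
    have h2 := s.y y' h1
    simp only [wv _ (Y0_Q h2)]
    exact s.y0 _ (by simp_all)
  obtain ⟨g, k', φ, e1⟩ := st F hF
  have e2 : ∀ a ∈ (sQ : Subgroup (OU K)), ν (torA k a) = g * torA k' (fld φ (ν a)) * g⁻¹ := fun a ha => by
    rw [← e1, e _ (s.fa.au.mem a ha), wv a ha]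
  have e4 : ∀ t, ((wt k).1 : K) * t = (wt k').1 * φ t := fun t => by
    have := e2 _ (EY_Q t 0)
    rw [tor_EY, mul_zero, ← X4_eq, ← X4_eq, s.cz, s.cz, X4_eq, X4_eq, fld_EY _ (map_zero φ), tor_EY,
      conj_EY] at this
    simpa using (EY_inj this).1
  have h4 : ((wt k).1 : K) = (wt k').1 := by simpa using e4 1
  have hφ : ∀ t, φ t = t := fun t => by
    have := e4 t
    rw [h4] at this
    simpa using this.symm
  have fφ : ∀ a : OU K, fld φ a = a := fun a => by ext <;> simp [hφ]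
  simp only [fφ] at e1 e2
  have gQ : g ∈ (sQ : Subgroup (OU K)) := by
    obtain ⟨y, h1, h2⟩ := onto s.fa.au s.y (b := X2 1) (by simp)
    have := s.y (torA k y) (by simp_all)
    rw [e2 y (Y_Q h1), h2, show torA k' (X2 (1 : K)) = X2 (k'.1 * σ (k'.1 : K) * k'.2 * σ (k'.2 : K)) by
      ext <;> simp] at this
    exact mem_Q_of (by simp) this
  obtain ⟨d, hd, h6⟩ := x6_nu s
  have e6 := e2 _ (X2_Q 1)
  rw [show torA k (X2 (1 : K)) = X2 (k.1 * σ (k.1 : K) * k.2 * σ (k.2 : K)) by ext <;> simp,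
    eq_EY (s.y0 (X2 1) (by simp)), tor_EY, conj_EY] at e6
  have e7 := congrArg OU.x6 e6
  rw [h6, h6, EY_x6, one_mul, mul_left_inj' hd] at e7
  obtain rfl : k' = tN k := wt_inj (Prod.ext (Units.ext (by
    rw [← h4]; simp [wt, tN]; field_simp)) (Units.ext (by rw [← e7]; simp [wt, tN]; field_simp)))
  exact ⟨in_tor hF.ind e1, g, gQ, e2⟩

theorem SwQ.torAll {ν : OU K → OU K} (s : SwQ u ν) (c : Ctx u) (st : Std u)
    (h : ∀ t : Kˣ, In u ⊤ (torA (t ^ 2, t⁻¹))) (k : Kˣ × Kˣ) : In u ⊤ (torA k) := by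
  have mul : ∀ {k l : Kˣ × Kˣ}, In u ⊤ (torA k) → In u ⊤ (torA l) → In u ⊤ (torA (k * l)) :=
    fun h1 h2 => (h1.comp h2 fun _ _ => trivial).congr fun a _ => by rw [map_mul]; rfl
  have sur : Function.Surjective fun t : Kˣ => t ^ 2 * (σu t)⁻¹ :=
    Finite.surjective_of_injective fun t r e => by
      have e1 : ((t * r⁻¹ : Kˣ) : K) ^ 2 = σ ((t * r⁻¹ : Kˣ) : K) := by
        have := congrArg (fun x : Kˣ => (x : K)) e
        simp at this ⊢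
        field_simp at this ⊢
        exact this
      have e2 := σ_inj.1 ((σσ _).trans e1)
      rw [e2, sq, mul_eq_left₀ (Units.ne_zero _), Units.val_eq_one, mul_inv_eq_one] at e1
      exact e1
  obtain ⟨t, ht⟩ := sur (k.1 * k.2 ^ 2)
  have := mul (mul (h t) (s.tor c st (h t)).1) (h k.2⁻¹)
  convert this using 3
  simp only at ht
  refine Prod.ext ?_ ?_
  · simp only [tN, Prod.fst_mul, σu_inv]
    rw [show k.1 = t ^ 2 * (σu t)⁻¹ * (k.2 ^ 2)⁻¹ by rw [ht, mul_inv_cancel_right]]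
    simp only [inv_pow, mul_inv_cancel_left]
  · simp [tN]

end Cfsg.Agent.RFS
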