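import Cfsg.Agent.RFS.StdA
import Cfsg.Agent.RFS.TorT
import Cfsg.Agent.RFS.TorQ
import Cfsg.Agent.RFS.Nrm
import Cfsg.Agent.RFS.NQb
import Cfsg.Agent.RFS.SwT
import Cfsg.Agent.RFS.ModB
import Cfsg.Agent.RFS.Uniq

/-! Project RFS: the main theorem.  See `notes/RFS.md`. -/

set_option autoImplicit false
set_option linter.unusedSectionVars false

namespace Cfsg.Agent.RFS

open OCT OCT.OU

universe w v

section nf
variable {K : Type*} [Field K] [Tits K] [Finite K] {G : Type*} [Group G] [Finite G] {u : OU K →* G}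

theorem torA_mem_Q (k : Kˣ × Kˣ) : ∀ a ∈ (sQ : Subgroup (OU K)), torA k a ∈ (sQ : Subgroup (OU K)) :=
  fun a ⟨h1, h2⟩ => by constructor <;> simp [h1, h2]

theorem Sat.nf_big (h : Sat u) (hq : 2 < Nat.card K) (st : Std u) (eQ : EssQ u) (eT : EssT u) : NF u := by
  have c := h.ctx
  have l := low eT
  obtain ⟨ν, s⟩ := swQ c eQ
  have ht := s.torAll c st (torT c st l)
  obtain ⟨b, k, hb⟩ := nrmQ hq s.fa.au s.cz fun k => (s.tor c st (ht k)).2
  obtain ⟨μ, m1, m2, m3⟩ := muT c st l ht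
  obtain ⟨b', hb'⟩ := nrmT hq m1.au m2 m3
  exact ⟨h, st, ht, ((In.conj u ⊤ b).comp (s.fa.ind.comp ((ht k).mono le_top) (torA_mem_Q k))
    fun _ _ => trivial).congr fun a ha => (hb a ha).symm,
    ((In.conj u ⊤ b').comp m1.ind fun _ _ => trivial).congr fun a ha => (hb' a ha).symm⟩

theorem Sat.nf_two (h : Sat u) (hq : Nat.card K = 2) (hn : In u sQ nu) (hm : In u sT mu) : NF u :=
  ⟨h, h.ctx.std_two hq, fun k => by
    obtain rfl : k = 1 := Prod.ext (q2_unit hq _) (q2_unit hq _)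
    exact ⟨1, fun a _ => by rw [map_one]; simp⟩, hn, hm⟩

theorem Sat.exists_nf (h : Sat u) (eQ : EssQ u) (eT : EssT u) :
    ∃ u' : OU K →* G, u'.range = u.range ∧ NF u' := by
  obtain hq | hq := Nat.eq_or_lt_of_le (show 2 ≤ Nat.card K from Finite.one_lt_card)
  · obtain ⟨ν, s⟩ := swQ h.ctx eQ
    obtain ⟨β, hβ⟩ := nq2 hq.symm h.ctx s
    obtain ⟨γ, h1, h2⟩ := mt2 hq.symm (h.tw β).ctx (low (eT.tw β)) hβ
    exact ⟨_, (range_tw _ γ).trans (range_tw u β), ((h.tw β).tw γ).nf_two hq.symm h1 h2⟩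
  · obtain ⟨β, hβ⟩ := exists_std h.ctx
    exact ⟨_, range_tw u β, (h.tw β).nf_big hq hβ (eQ.tw β) (eT.tw β)⟩

/-- the field automorphisms that occur -/
def fldS (u : OU K →* G) : Subgroup (RingAut K) where
  carrier := {φ | In u ⊤ (fld φ)}
  one_mem' := ⟨1, fun a _ => by simpa using congrArg u (by ext <;> rfl)⟩
  mul_mem' := fun ha hb => (In.comp ha hb fun _ _ => trivial).congr fun _ _ => rfl
  inv_mem' := fun {φ} ha => In.of_inv ha (fun _ _ => trivial) fun b _ => (fldA φ).apply_symm_apply b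

end nf

theorem main {K : Type w} [Field K] [Tits K] [Finite K] {G₀ : Type w} [Group G₀] [Finite G₀] (f : FR K G₀)
    (hg : f.toFR0.gen = ⊤) (ho : ¬ 2 ∣ f.u.range.index) {G : Type v} [Group G] [Finite G] {u : OU K →* G}
    (h : Sat u) : (groupFusionSystem u.range).IsRealizable 2 ∨
      ∃ (G' : Type w) (_ : Group G') (_ : Finite G'), H42.RealBy (groupFusionSystem u.range) G' := by
  by_cases e : EssQ u ∧ EssT u
  · obtain ⟨u₁, r, n⟩ := h.exists_nf e.1 e.2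
    obtain ⟨G', _, _, u', n', o, hφ⟩ := model_nf f hg ho (fldS u₁) (n.sat.ctx.odd_fld fun _ h => h)
    exact .inr ⟨G', _, ‹_›, r ▸ n.realBy n' (fun φ => (hφ φ).symm) o⟩
  · exact .inl (h.real (not_and_or.1 e))

theorem model' {K : Type w} [Field K] [Fintype K] {m : ℕ} (hK : Fintype.card K = 2 ^ (2 * m + 1)) :
    ∃ (_ : Tits K) (f : FR K (Cfsg.Lie.twistedF4 K (2 ^ m))), f.toFR0.gen = ⊤ ∧
      Finite (Cfsg.Lie.twistedF4 K (2 ^ m)) ∧ ¬ 2 ∣ f.u.range.index := by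
  obtain ⟨inst, f, hf⟩ := model hK
  refine ⟨inst, f, hf, ?_⟩
  have hF := Cfsg.Agent.S1068.result hK
  have hq : Even (2 ^ (2 * m + 1)) := (Nat.even_pow.2 ⟨even_two, by omega⟩)
  have hp : 1 ≤ 2 ^ (2 * m + 1) := Nat.one_le_two_pow
  generalize Cfsg.Lie.twistedF4 K (2 ^ m) = F at *
  generalize 2 ^ (2 * m + 1) = q at *
  have hodd : Odd ((q - 1) * (q ^ 3 + 1) * (q ^ 4 - 1) * (q ^ 6 + 1)) :=
    (((Nat.Even.sub_odd hp hq odd_one).mul (hq.pow_of_ne_zero (by decide)).add_one).mul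
      (Nat.Even.sub_odd (Nat.one_le_pow _ _ hp) (hq.pow_of_ne_zero (by decide)) odd_one)).mul
      (hq.pow_of_ne_zero (by decide)).add_one
  have hF' : Nat.card F = q ^ 12 * ((q - 1) * (q ^ 3 + 1) * (q ^ 4 - 1) * (q ^ 6 + 1)) := by
    rw [hF]; ring
  have hi := f.toCR.U.card_mul_index
  rw [f.toCR.card_U, Nat.card_eq_fintype_card, hK, hF', Nat.mul_right_inj (by positivity)] at hi
  exact ⟨Nat.finite_of_card_ne_zero (hF' ▸ mul_ne_zero (by positivity) hodd.pos.ne'),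
    hi ▸ Nat.two_dvd_ne_zero.2 (Nat.odd_iff.1 hodd)⟩

end Cfsg.Agent.RFS
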