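import Cfsg.Agent.RFS.Defs2
import Cfsg.Agent.OCT.Iso2
import Cfsg.Agent.OCT.Setup

/-! Project RFS: field automorphisms of the Ree group.  See `notes/RFS.md`. -/

set_option autoImplicit false
set_option linter.unusedSectionVars false

namespace Cfsg.Agent.RFS

open OCT OCT.OU
open scoped commutatorElement

variable {K : Type*} [Field K] [Tits K] [Finite K] {G : Type*} [Group G] {u : OU K →* G}

namespace ModA

/-- a field automorphism on the units -/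
def pu (φ : RingAut K) : Kˣ →* Kˣ := Units.map (φ : K →+* K).toMonoidHom

@[simp] theorem coe_pu (φ : RingAut K) (s : Kˣ) : ((pu φ s : Kˣ) : K) = φ (s : K) := rfl

theorem pu_σu (φ : RingAut K) (s : Kˣ) : pu φ (σu s) = σu (pu φ s) := Units.ext (by simp)

theorem pu_symm (φ : RingAut K) (s : Kˣ) : pu φ (pu φ.symm s) = s := Units.ext (by simp)

theorem fld_symm (φ : RingAut K) (a : OU K) : fld φ (fld φ.symm a) = a := by ext <;> simp

theorem fld_U8 (φ : RingAut K) {a : OU K} (ha : a ∈ (sU8 : Subgroup (OU K))) :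
    fld φ a ∈ (sU8 : Subgroup (OU K)) := by
  simp only [mem_sU8] at ha ⊢
  simp [ha]

/-- the structure twisted by a field automorphism -/
def tw (f : FR K G) (φ : RingAut K) : FR K G where
  u := f.u.comp (fldA φ).toMonoidHom
  n := f.n
  d := f.d.comp (pu φ)
  inj := f.inj.comp (fldA φ).injective
  nn := f.nn
  nu a ha := (f.nu (fld φ a) ⟨by simp [ha.1], by simp [ha.2]⟩).trans
    (congrArg f.u (show OU.nu (fld φ a) = fld φ (OU.nu a) by ext <;> simp))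
  du s a := (f.du (pu φ s) (fld φ a)).trans
    (congrArg f.u (show del _ (fld φ a) = fld φ (del (s : K) a) by ext <;> simp))
  nd s := f.nd _
  bru a ha h1 := by
    obtain ⟨a₁, k₁, s, a₂, k₂, e⟩ := f.bru (fld φ a) (fld_U8 φ ha)
      (fun e => h1 ((map_eq_one_iff (fldA φ) (fldA φ).injective).1 e))
    refine ⟨fld φ.symm a₁, fld_U8 _ k₁, pu φ.symm s, fld φ.symm a₂, fld_U8 _ k₂, ?_⟩
    change _ * f.u (fld φ a) * _ = f.u (fld φ _) * f.d (pu φ _) * _ * f.u (fld φ _)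
    rw [fld_symm, fld_symm, pu_symm, e]
  h := f.h.comp ((pu φ).prodMap (pu φ))
  hu k a := (f.hu (pu φ k.1, pu φ k.2) (fld φ a)).trans
    (congrArg f.u (show torA _ (fld φ a) = fld φ (torA k a) by ext <;> simp))
  hd s := (f.hd (pu φ s)).trans (congrArg f.h (by simp [dk_apply, pu_σu]))
  nh α β := (f.nh (pu φ α) (pu φ β)).trans (congrArg f.h (by simp [pu_σu]))
  m := f.m
  mm := f.mm
  mu a ha := (f.mu (fld φ a) (by simp [ha])).trans
    (congrArg f.u (show OU.mu (fld φ a) = fld φ (OU.mu a) by ext <;> simp))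
  mh α β := (f.mh (pu φ α) (pu φ β)).trans (congrArg f.h (by simp))
  sl t := by
    have e : ∀ s : Kˣ, fld φ (X1 (s : K)) = X1 ((pu φ s : Kˣ) : K) := fun s => by ext <;> simp
    change f.u (fld φ _) * (_ * f.u (fld φ _) * _) * f.u (fld φ _) = f.h (pu φ (t ^ 2), pu φ t⁻¹) * _
    rw [e, e, map_inv, map_pow]
    exact f.sl _
  rel := f.rel

omit [Finite K] in
theorem gen_le (f : FR K G) {H : Subgroup G} (hu : ∀ a, f.u a ∈ H) (hh : ∀ k, f.h k ∈ H) (hn : f.n ∈ H)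
    (hm : f.m ∈ H) : f.toFR0.gen ≤ H :=
  sup_le (sup_le (f.toCR.C_le hu (fun s => by rw [f.hd]; exact hh _) hn)
    (by rintro _ ⟨k, rfl⟩; exact hh k)) (Subgroup.zpowers_le.2 hm)

theorem tw_gen (f : FR K G) (hg : f.toFR0.gen = ⊤) (φ : RingAut K) : (tw f φ).toFR0.gen = ⊤ := by
  refine eq_top_iff.2 (hg.ge.trans (gen_le f (fun a => ?_) (fun k => ?_)
    ((tw f φ).toFR0.modC_le (tw f φ).toCR.n_mem) (tw f φ).toFR0.modm_mem))
  · have := (tw f φ).toFR0.modC_le ((tw f φ).toCR.u_mem (fld φ.symm a))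
    rwa [show (tw f φ).u (fld φ.symm a) = f.u a from congrArg f.u (fld_symm φ a)] at this
  · have := (tw f φ).toFR0.modh_mem (pu φ.symm k.1, pu φ.symm k.2)
    rwa [show (tw f φ).h (pu φ.symm k.1, pu φ.symm k.2) = f.h k from
      congrArg f.h (Prod.ext (pu_symm φ _) (pu_symm φ _))] at this

theorem iso {G' : Type*} [Group G'] (f : FR K G) (f' : FR K G') (hg : f.toFR0.gen = ⊤)
    (hg' : f'.toFR0.gen = ⊤) : ∃ e : G ≃* G', (∀ a, e (f.u a) = f'.u a) ∧ (∀ k, e (f.h k) = f'.h k) ∧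
      e f.n = f'.n ∧ e f.m = f'.m := by
  obtain ⟨e1, h1⟩ := (f.i2diag f').i2hom_equiv f (MonoidHom.fst G G') (fun _ => rfl) (fun _ => rfl) rfl rfl
  obtain ⟨e2, h2⟩ := (f.i2diag f').i2hom_equiv f' (MonoidHom.snd G G') (fun _ => rfl) (fun _ => rfl) rfl rfl
  obtain ⟨t1, k1⟩ : ∃ t : (f.i2diag f').toFR0.gen ≃* G, ∀ x, t x = x.1.1 :=
    ⟨e1.trans ((MulEquiv.subgroupCongr hg).trans Subgroup.topEquiv), h1⟩
  obtain ⟨t2, k2⟩ : ∃ t : (f.i2diag f').toFR0.gen ≃* G', ∀ x, t x = x.1.2 :=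
    ⟨e2.trans ((MulEquiv.subgroupCongr hg').trans Subgroup.topEquiv), h2⟩
  obtain ⟨t, key⟩ : ∃ t : G ≃* G', ∀ x ∈ (f.i2diag f').toFR0.gen, t x.1 = x.2 :=
    ⟨t1.symm.trans t2, fun x hx => by
      rw [MulEquiv.trans_apply, show t1.symm x.1 = ⟨x, hx⟩ from t1.symm_apply_eq.2 (k1 ⟨x, hx⟩).symm, k2]⟩
  exact ⟨t, fun a => key (f.u a, f'.u a) ((f.i2diag f').toFR0.modC_le ((f.i2diag f').toCR.u_mem a)),
    fun k => key (f.h k, f'.h k) ((f.i2diag f').toFR0.modh_mem k),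
    key (f.n, f'.n) ((f.i2diag f').toFR0.modC_le (f.i2diag f').toCR.n_mem),
    key (f.m, f'.m) (f.i2diag f').toFR0.modm_mem⟩

end ModA

open ModA

theorem exists_fld (f : FR K G) (hg : f.toFR0.gen = ⊤) :
    ∃ θ : RingAut K →* MulAut G, ∀ φ a, θ φ (f.u a) = f.u (fld φ a) := by
  choose θ h1 h2 h3 h4 using fun φ : RingAut K => iso f (tw f φ) hg (tw_gen f hg φ)
  refine ⟨MonoidHom.mk' θ fun φ ψ => MulEquiv.ext fun x => ?_, h1⟩
  refine gen_le f (H := (θ (φ * ψ)).toMonoidHom.eqLocus (θ φ * θ ψ : MulAut G).toMonoidHom)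
    (fun a => ?_) (fun k => ?_) ?_ ?_ (hg.ge (Subgroup.mem_top x))
  · change θ _ _ = θ φ (θ ψ _)
    rw [h1, h1]
    exact (h1 φ (fld ψ a)).symm
  · change θ _ _ = θ φ (θ ψ _)
    rw [h2, h2]
    exact (h2 φ (pu ψ k.1, pu ψ k.2)).symm
  · change θ _ _ = θ φ (θ ψ _)
    rw [h3, h3]
    exact (h3 φ).symm
  · change θ _ _ = θ φ (θ ψ _)
    rw [h4, h4]
    exact (h4 φ).symm

theorem norm_U (f : FR K G) (hg : f.toFR0.gen = ⊤) {g : G} (h : ∀ a, g * f.u a * g⁻¹ ∈ f.u.range) :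
    ∃ a k, g = f.u a * f.h k := by
  have : Finite f.toCR.U := Finite.of_surjective f.u.rangeRestrict f.u.rangeRestrict_surjective
  have e : (f.toCR.cj g).U = f.toCR.U := Subgroup.eq_of_le_of_card_ge
    (by rintro _ ⟨a, rfl⟩; exact h a) (by rw [CR.card_U, CR.card_U])
  have z : g * f.toCR.τ * g⁻¹ ∈ f.toCR.S sZ := CR.Z_eq_of_U e ▸ (f.toCR.cj g).τ_mem_Z
  obtain ⟨α, hα⟩ := Stp.exists_root f.toCR z (by simpa using f.toCR.τ_ne)
  have c : (f.h (α, 1))⁻¹ * g ∈ f.toCR.C := f.cent (hg.ge (Subgroup.mem_top _)) (by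
    rw [← f.hu] at hα
    calc (f.h (α, 1))⁻¹ * g * f.toCR.τ = (f.h (α, 1))⁻¹ * (g * f.toCR.τ * g⁻¹) * g := by group
      _ = f.toCR.τ * ((f.h (α, 1))⁻¹ * g) := by rw [← hα, CR.τ]; group)
  have y : g * f.u (X6 1) * g⁻¹ ∈ f.toCR.S sY :=
    CR.Y_eq_of_U e ▸ (f.toCR.cj g).u_mem_S.2 (by simp : X6 1 ∈ (sY : Subgroup (OU K)))
  obtain ⟨y', hy', ey⟩ := y
  have b := f.toCR.norm_Y c (y := X6 1) (by simp) (by simp) ⟨torA (α, 1)⁻¹ y', by
    simp only [mem_sY, SetLike.mem_coe] at hy' ⊢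
    simp [hy'], by rw [← f.hu, ey, map_inv]; group⟩
  obtain ⟨a, s, ea⟩ := f.toCR.mem_B.1 b
  refine ⟨torA (α, 1) a, (α, 1) * dk s, ?_⟩
  rw [← f.hu, map_mul, ← f.hd, mul_assoc, inv_mul_cancel_left, mul_assoc, ← ea, mul_inv_cancel_left]

end Cfsg.Agent.RFS
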