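import Cfsg.Agent.RFS.Chr

/-! Project RFS: automorphisms of `Q` that interchange `Y` and `Y₀`, `q = 2`.  See `notes/RFS.md`. -/

set_option autoImplicit false
set_option linter.unusedSectionVars false
set_option linter.unusedSimpArgs false
set_option linter.unusedTactic false
set_option linter.unreachableTactic false
set_option linter.unnecessarySeqFocus false

namespace Cfsg.Agent.RFS

open OCT OCT.OU Sh
open scoped commutatorElement

variable {K : Type*} [Field K] [Tits K] [Finite K]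

namespace NQa

/-- the relations between the images of the generators -/
theorem shape (h01 : ∀ t : K, t = 0 ∨ t = 1) {a b d e u2 u3 u5 u6 : OU K} {ε : K}
    (ha : a ∈ (sQ : Subgroup (OU K))) (hb : b ∈ (sQ : Subgroup (OU K))) (hd : d ∈ (sQ : Subgroup (OU K)))
    (he : e ∈ (sQ : Subgroup (OU K))) (h2 : u2 ∈ (sY : Subgroup (OU K))) (h6 : u6 ∈ (sY0 : Subgroup (OU K)))
    (k2 : u2.x6 = 1) (k6 : u6.x2 = 1) {c : OU K} (hc : c = ⟨0, 0, 0, 0, 1, ε, 0, 0, 0, 0, 0, 0⟩)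
    (r1 : d * c = u6 * (c * d)) (r2 : a * c = u2 * (c * a)) (dd : d * d = 1) (aa : a * a = 1)
    (ee : e * e = u6) (bb : b * b = u2) (ed : e * d = d * e) (ab : a * b = b * a) (be : b * e = e * b)
    (r6 : b * c = u3 * (c * b)) (r7 : c * e = u5 * (e * c)) (r8 : a * d = u3 * u5 * (d * a))
    (r9 : a * e = u2 * u3 * (e * a)) (r10 : d * b = u5 * u6 * (b * d)) :
    a = ⟨0, 0, 0, a.x3, 0, a.x4, a.x5, 0, d.x2, 1, 0, 0⟩ ∧ d = ⟨1, 0, d.x2, d.x3, 0, d.x4, d.x5, 0, 0, 0, 0, 0⟩ ∧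
    b = ⟨0, 0, a.x3, 0, 0, b.x4, b.x5, 1, d.x3, 0, 0, 0⟩ ∧ e = ⟨0, 1, a.x5, b.x5, 0, e.x4, 0, 0, d.x5, 0, 0, 0⟩ ∧
    u2 = X6 1 ∧ u3 = X5 1 ∧ u5 = X3 1 ∧ u6 = X2 1 := by
  have hσ := TwoA.σ_eq h01
  have hsq := TwoA.sq_eq h01
  subst hc
  rw [mem_sQ] at ha hb hd he
  rw [mem_sY] at h2
  rw [mem_sY0] at h6
  have d1 : d.x1 = 1 := by have := congrArg OU.x2 r1; simp [hd, h6, k6] at this; grind
  have d2 : d.y2 = 0 := by have := congrArg OU.x3 r1; simp [hd, h6] at this; grind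
  have d6 : d.y6 = 0 := by have := congrArg OU.x5 r1; simp [hd, h6] at this; grind
  have d7 : d.x7 = 0 := by have := congrArg OU.x6 r1; simp [hd, h6] at this; grind
  have d4 : d.y4 = 0 := by have := congrArg OU.x2 dd; simp [hd, d1, d2, d6] at this; grind
  have d6' : d.x6 = 0 := by have := congrArg OU.x4 dd; simp [hd, d1, d2, d4, d6, d7] at this; grind
  have v6 : u6 = X2 1 := by
    have := congrArg OU.x4 r1; simp [hd, h6, d1, d2, d4, d6, d7] at this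
    ext <;> simp [h6, k6]
    grind
  have a1 : a.x1 = 0 := by have := congrArg OU.x2 r2; simp [ha, h2] at this; grind
  have a2 : a.y2 = 0 := by have := congrArg OU.x3 r2; simp [ha, h2] at this; grind
  have a6 : a.y6 = 0 := by have := congrArg OU.x5 r2; simp [ha, h2] at this; grind
  have a7 : a.x7 = 1 := by have := congrArg OU.x6 r2; simp [ha, h2, k2] at this; grind
  have a4 : a.y4 = 0 := by have := congrArg OU.x6 aa; simp [ha, a1, a2, a6, a7] at this; grind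
  have a2' : a.x2 = 0 := by have := congrArg OU.x4 aa; simp [ha, a1, a2, a4, a6, a7] at this; grind
  have v2 : u2 = X6 1 := by
    have := congrArg OU.x4 r2; simp [ha, h2, a1, a2, a4, a6, a7] at this
    ext <;> simp [h2, k2]
    grind
  subst v2 v6
  have e7 : e.x7 = 0 := by have := congrArg OU.x5 ed; simp [hd, he, d1, d2, d4, d6, d7, hσ] at this; grind
  have e6 : e.y6 = 0 := by have := congrArg OU.x3 ed; simp [hd, he, d1, d2, d4, d6, d7, e7, hσ] at this; grind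
  have e4 : e.y4 = 0 := by have := congrArg OU.x2 ed; simp [hd, he, d1, d2, d4, d6, d7, e6, hσ] at this; grind
  have e2 : e.y2 = 1 := by have := congrArg OU.x2 ee; simp [he, e4, e6, hσ, hsq] at this; grind
  have b1 : b.x1 = 0 := by have := congrArg OU.x3 ab; simp [ha, hb, a1, a2, a4, a6, a7, hσ] at this; grind
  have b2 : b.y2 = 0 := by have := congrArg OU.x5 ab; simp [ha, hb, a1, a2, a4, a6, a7, b1, hσ] at this; grind
  have b4 : b.y4 = 0 := by have := congrArg OU.x6 ab; simp [ha, hb, a1, a2, a4, a6, a7, b1, b2, hσ] at this; grind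
  have b6 : b.y6 = 1 := by have := congrArg OU.x6 bb; simp [hb, b1, b2, b4, hσ, hsq] at this; grind
  have e1 : e.x1 = 0 := by
    have := congrArg OU.x2 be; simp [hb, he, b1, b2, b4, b6, e2, e4, e6, e7, hσ] at this; grind
  have b7 : b.x7 = 0 := by
    have := congrArg OU.x5 be; simp [hb, he, b1, b2, b4, b6, e1, e2, e4, e6, e7, hσ] at this; grind
  have q1 : e.x3 = b.x5 := by
    have := congrArg OU.x4 be; simp [hb, he, b1, b2, b4, b6, b7, e1, e2, e4, e6, e7] at this; grind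
  have b3 : b.x3 = 0 := by have := congrArg OU.x4 bb; simp [hb, b1, b2, b4, b6, b7] at this; grind
  have e5 : e.x5 = 0 := by have := congrArg OU.x4 ee; simp [he, e1, e2, e4, e6, e7] at this; grind
  have q2 : b.x2 = a.x3 := by
    have := congrArg OU.x4 ab; simp [ha, hb, a1, a2, a4, a6, a7, a2', b1, b2, b4, b6, b7] at this; grind
  have q3 : e.x6 = d.x5 := by
    have := congrArg OU.x4 ed; simp [hd, he, d1, d2, d4, d6, d7, d6', e1, e2, e4, e6, e7] at this; grind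
  have v3 : u3 = X5 1 := by
    rw [← mul_inv_eq_iff_eq_mul] at r6
    rw [← r6]
    ext <;> simp [hb, b1, b2, b4, b6, b7, b3] <;> grind
  have v5 : u5 = X3 1 := by
    rw [← mul_inv_eq_iff_eq_mul] at r7
    rw [← r7]
    ext <;> simp [he, e1, e2, e4, e6, e7, e5] <;> grind
  subst v3 v5
  have q4 : a.x6 = d.x2 := by
    have := congrArg OU.x4 r8
    simp [ha, hd, a1, a2, a4, a6, a7, a2', d1, d2, d4, d6, d7, d6'] at this; grind
  have q5 : e.x2 = a.x5 := by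
    have := congrArg OU.x4 r9
    simp [ha, he, a1, a2, a4, a6, a7, a2', e1, e2, e4, e6, e7, e5] at this; grind
  have q6 : b.x6 = d.x3 := by
    have := congrArg OU.x4 r10
    simp [hb, hd, b1, b2, b4, b6, b7, b3, d1, d2, d4, d6, d7, d6'] at this; grind
  refine ⟨?_, ?_, ?_, ?_, rfl, rfl, rfl, rfl⟩
  · ext <;> simp [ha, a1, a2, a4, a6, a7, a2', q4]
  · ext <;> simp [hd, d1, d2, d4, d6, d7, d6']
  · ext <;> simp [hb, b1, b2, b4, b6, b7, b3, q2, q6]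
  · ext <;> simp [he, e1, e2, e4, e6, e7, e5, q1, q3, q5]

theorem core (h01 : ∀ t : K, t = 0 ∨ t = 1) {ν : OU K → OU K} (h : Au sQ ν)
    (hy : ∀ y ∈ (sY : Subgroup (OU K)), ν y ∈ (sY0 : Subgroup (OU K)))
    (hy0 : ∀ y ∈ (sY0 : Subgroup (OU K)), ν y ∈ (sY : Subgroup (OU K))) {ε : K}
    (hc : ν (Y4 1) = ⟨0, 0, 0, 0, 1, ε, 0, 0, 0, 0, 0, 0⟩) :
    (∃ t α β γ η θ a4 d4 b4 e4 : K, ν (X1 1) = ⟨0, 0, 0, α, 0, a4, β, 0, t, 1, 0, 0⟩ ∧
      ν (X7 1) = ⟨1, 0, t, η, 0, d4, γ, 0, 0, 0, 0, 0⟩ ∧ ν (Y2 1) = ⟨0, 0, α, 0, 0, b4, θ, 1, η, 0, 0, 0⟩ ∧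
      ν (Y6 1) = ⟨0, 1, β, θ, 0, e4, 0, 0, γ, 0, 0, 0⟩) ∧ ∀ w ∈ (sW : Subgroup (OU K)), ν w = nu w := by
  have m2 : ∀ {p q r s : OU K}, p ∈ (sQ : Subgroup (OU K)) → q ∈ (sQ : Subgroup (OU K)) →
      r ∈ (sQ : Subgroup (OU K)) → s ∈ (sQ : Subgroup (OU K)) → p * q = r * s → ν p * ν q = ν r * ν s :=
    fun hp hq hr hs e => by rw [← h.mul _ hp _ hq, ← h.mul _ hr _ hs, e]
  have m3 : ∀ {p q z : OU K}, p ∈ (sQ : Subgroup (OU K)) → q ∈ (sQ : Subgroup (OU K)) →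
      z ∈ (sQ : Subgroup (OU K)) → p * q = z * (q * p) → ν p * ν q = ν z * (ν q * ν p) :=
    fun hp hq hz e => by rw [← h.mul _ hq _ hp]; exact m2 hp hq hz (mul_mem hq hp) e
  have m4 : ∀ {p q z z' : OU K}, p ∈ (sQ : Subgroup (OU K)) → q ∈ (sQ : Subgroup (OU K)) →
      z ∈ (sQ : Subgroup (OU K)) → z' ∈ (sQ : Subgroup (OU K)) → p * q = z * z' * (q * p) →
      ν p * ν q = ν z * ν z' * (ν q * ν p) :=
    fun hp hq hz hz' e => by rw [← h.mul _ hz _ hz']; exact m3 hp hq (mul_mem hz hz') e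
  have m1 : ∀ {p z : OU K}, p ∈ (sQ : Subgroup (OU K)) → p * p = z → ν p * ν p = ν z :=
    fun hp e => by rw [← h.mul _ hp _ hp, e]
  have v4 : ν (X4 1) = X4 1 := by
    rw [← m1 (p := Y4 1) (by simp) (by ext <;> simp [CharTwo.add_self_eq_zero]), hc]
    ext <;> simp [CharTwo.add_self_eq_zero]
  have cs : ∀ (X X' : K → OU K), X 0 = 1 → X' 0 = 1 → ν (X 1) = X' 1 → ∀ t, ν (X t) = X' t := by
    intro X X' h1 h2 h3 t
    rcases h01 t with rfl | rfl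
    · rw [h1, h2, h.one]
    · exact h3
  have v4' := cs X4 X4 rfl rfl v4
  have nz : ∀ p ∈ (sQ : Subgroup (OU K)), ν p ∈ (sZ : Subgroup (OU K)) → p ∈ (sZ : Subgroup (OU K)) := by
    intro p hp k
    have e : ν p = ν (X4 (ν p).x4) := by
      rw [v4']
      rw [mem_sZ] at k
      ext <;> simp [k]
    rw [h.inj _ hp _ (by simp) e]
    simp
  have h2 := hy0 (X2 1) (by simp)
  have h6 := hy (X6 1) (by simp)
  have k2 : (ν (X2 1)).x6 = 1 := (h01 _).resolve_left fun k => by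
    have := nz (X2 1) (by simp) (by rw [mem_sY] at h2; simp [h2, k])
    simp at this
  have k6 : (ν (X6 1)).x2 = 1 := (h01 _).resolve_left fun k => by
    have := nz (X6 1) (by simp) (by rw [mem_sY0] at h6; simp [h6, k])
    simp at this
  obtain ⟨s1, s2, s3, s4, v2, v3, v5, v6⟩ := shape h01 (a := ν (X1 1)) (b := ν (Y2 1)) (d := ν (X7 1))
    (e := ν (Y6 1)) (u3 := ν (X3 1)) (u5 := ν (X5 1)) (h.mem _ (by simp)) (h.mem _ (by simp))
    (h.mem _ (by simp)) (h.mem _ (by simp)) h2 h6 k2 k6 hc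
    (m3 (by simp) (by simp) (by simp) (by ext <;> simp [CharTwo.add_self_eq_zero]))
    (m3 (by simp) (by simp) (by simp) (by ext <;> simp [CharTwo.add_self_eq_zero]))
    ((m1 (by simp) (by ext <;> simp [CharTwo.add_self_eq_zero])).trans h.one)
    ((m1 (by simp) (by ext <;> simp [CharTwo.add_self_eq_zero])).trans h.one)
    (m1 (by simp) (by ext <;> simp [CharTwo.add_self_eq_zero]))
    (m1 (by simp) (by ext <;> simp [CharTwo.add_self_eq_zero]))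
    (m2 (by simp) (by simp) (by simp) (by simp) (by ext <;> simp [CharTwo.add_self_eq_zero]))
    (m2 (by simp) (by simp) (by simp) (by simp) (by ext <;> simp [CharTwo.add_self_eq_zero]))
    (m2 (by simp) (by simp) (by simp) (by simp) (by ext <;> simp [CharTwo.add_self_eq_zero]))
    (m3 (by simp) (by simp) (by simp) (by ext <;> simp [CharTwo.add_self_eq_zero]))
    (m3 (by simp) (by simp) (by simp) (by ext <;> simp [CharTwo.add_self_eq_zero]))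
    (m4 (by simp) (by simp) (by simp) (by simp) (by ext <;> simp [CharTwo.add_self_eq_zero]))
    (m4 (by simp) (by simp) (by simp) (by simp) (by ext <;> simp [CharTwo.add_self_eq_zero]))
    (m4 (by simp) (by simp) (by simp) (by simp) (by ext <;> simp [CharTwo.add_self_eq_zero]))
  refine ⟨⟨_, _, _, _, _, _, _, _, _, _, s1, s2, s3, s4⟩, fun w hw => ?_⟩
  rw [mem_sW] at hw
  have e : w = X2 w.x2 * (X3 w.x3 * (X4 w.x4 * (X5 w.x5 * X6 w.x6))) := by ext <;> simp [hw]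
  rw [e, h.mul _ (by simp) _ (by simp), h.mul _ (by simp) _ (by simp), h.mul _ (by simp) _ (by simp),
    h.mul _ (by simp) _ (by simp), cs X2 X6 rfl rfl v2, cs X3 X5 rfl rfl v3, v4', cs X5 X3 rfl rfl v5,
    cs X6 X2 rfl rfl v6]
  ext <;> simp

theorem last (h01 : ∀ t : K, t = 0 ∨ t = 1) (t α β γ η θ ε a4 d4 b4 e4 : K) {r : OU K}
    (hr : r = ⟨0, 0, a4, b4, t, 0, e4, 0, d4, 0, 0, 0⟩) :
    r * ⟨0, 0, 0, α, 0, a4, β, 0, t, 1, 0, 0⟩ = ⟨0, 0, 0, α, 0, 0, β, 0, 0, 1, 0, 0⟩ * r ∧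
    r * ⟨1, 0, t, η, 0, d4, γ, 0, 0, 0, 0, 0⟩ = ⟨1, 0, 0, η, 0, 0, γ, 0, 0, 0, 0, 0⟩ * r ∧
    r * ⟨0, 0, α, 0, 0, b4, θ, 1, η, 0, 0, 0⟩ = ⟨0, 0, α, 0, 0, 0, θ + t, 1, η, 0, 0, 0⟩ * r ∧
    r * ⟨0, 1, β, θ, 0, e4, 0, 0, γ, 0, 0, 0⟩ = ⟨0, 1, β, θ + t, 0, 0, 0, 0, γ, 0, 0, 0⟩ * r ∧
    r * ⟨0, 0, 0, 0, 1, ε, 0, 0, 0, 0, 0, 0⟩ = ⟨0, 0, 0, 0, 1, ε, 0, 0, 0, 0, 0, 0⟩ * r := by
  subst hr
  refine ⟨?_, ?_, ?_, ?_, ?_⟩ <;> ext <;> simp [TwoA.σ_eq h01] <;> grind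

theorem first (h01 : ∀ t : K, t = 0 ∨ t = 1) {r : OU K} (hr : r ∈ (sR : Subgroup (OU K))) (r4 : r.y4 = 1) :
    ∃ b₁ ∈ (sQ : Subgroup (OU K)), ∃ ε : K, b₁ * r * b₁⁻¹ = ⟨0, 0, 0, 0, 1, ε, 0, 0, 0, 0, 0, 0⟩ := by
  have hσ := TwoA.σ_eq h01
  rw [mem_sR] at hr
  let b : OU K := ⟨r.x2, r.x3, 0, 0, 0, 0, 0, r.x5, 0, r.x6, 0, 0⟩
  refine ⟨b, by simp [b], (b * r * b⁻¹).x4, ?_⟩
  ext <;> first | rfl | (simp [b, hr, r4] <;> grind)

end NQa

/-- normal form modulo inner automorphisms -/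
theorem nqa (hq : Nat.card K = 2) {ν : OU K → OU K} (h : Au sQ ν)
    (hy : ∀ y ∈ (sY : Subgroup (OU K)), ν y ∈ (sY0 : Subgroup (OU K)))
    (hy0 : ∀ y ∈ (sY0 : Subgroup (OU K)), ν y ∈ (sY : Subgroup (OU K))) :
    ∃ b ∈ (sQ : Subgroup (OU K)), ∃ α β γ η θ ε : K,
      b * ν (X1 1) * b⁻¹ = ⟨0, 0, 0, α, 0, 0, β, 0, 0, 1, 0, 0⟩ ∧
      b * ν (X7 1) * b⁻¹ = ⟨1, 0, 0, η, 0, 0, γ, 0, 0, 0, 0, 0⟩ ∧
      b * ν (Y2 1) * b⁻¹ = ⟨0, 0, α, 0, 0, 0, θ, 1, η, 0, 0, 0⟩ ∧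
      b * ν (Y6 1) * b⁻¹ = ⟨0, 1, β, θ, 0, 0, 0, 0, γ, 0, 0, 0⟩ ∧
      b * ν (Y4 1) * b⁻¹ = ⟨0, 0, 0, 0, 1, ε, 0, 0, 0, 0, 0, 0⟩ ∧
      ∀ w ∈ (sW : Subgroup (OU K)), b * ν w * b⁻¹ = nu w := by
  have h01 := TwoA.zero_or_one hq
  have hr := chQ_R.inv ν h (Y4 1) (by simp)
  have r4 : (ν (Y4 1)).y4 = 1 := (h01 _).resolve_left fun k => by
    have e := sq_W (a := ν (Y4 1)) (by rw [mem_sR] at hr; simp [hr, k])
    rw [← h.mul _ (by simp) _ (by simp), ← h.one] at e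
    simpa using congrArg OU.x4 (h.inj _ (by simp [CharTwo.add_self_eq_zero]) _ (one_mem _) e)
  obtain ⟨b₁, hb₁, ε, hc⟩ := NQa.first h01 hr r4
  have cj : ∀ {B : Subgroup (OU K)}, sZ ≤ B → B ≤ sW → ∀ y ∈ B, b₁ * y * b₁⁻¹ ∈ B := fun h1 h2 y hy =>
    nm_of (h1 (sw (c_WQ (h2 hy) hb₁))) hy
  obtain ⟨⟨t, α, β, γ, η, θ, a4, d4, b4, e4, s1, s2, s3, s4⟩, s5⟩ := NQa.core h01
    (ν := fun a => b₁ * ν a * b₁⁻¹) ((Au.conj b₁ (nm_Q b₁)).comp h)
    (fun y k => cj (fun _ h => by simp_all) (fun _ h => by simp_all) _ (hy y k))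
    (fun y k => cj Z_Y (Y_I.trans I_W) _ (hy0 y k)) hc
  have as : ∀ r p : OU K, r * b₁ * p * (r * b₁)⁻¹ = r * (b₁ * p * b₁⁻¹) * r⁻¹ := fun r p => by group
  beta_reduce at s1 s2 s3 s4 s5
  have fin : ∀ r ∈ (sR : Subgroup (OU K)), ∀ w ∈ (sW : Subgroup (OU K)), r * b₁ * ν w * (r * b₁)⁻¹ = nu w := by
    intro r hr w hw
    rw [as, s5 w hw, ← m_WR (by rw [mem_sW] at hw; simp [hw]) hr, mul_inv_cancel_right]
  obtain ⟨f1, f2, f3, f4, f5⟩ := NQa.last h01 t α β γ η θ ε a4 d4 b4 e4 rfl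
  refine ⟨(⟨0, 0, a4, b4, t, 0, e4, 0, d4, 0, 0, 0⟩ : OU K) * b₁, mul_mem (by simp) hb₁, α, β, γ, η, θ + t, ε,
    ?_, ?_, ?_, ?_, ?_, fin _ (by simp)⟩ <;> rw [as]
  · rw [s1, f1, mul_inv_cancel_right]
  · rw [s2, f2, mul_inv_cancel_right]
  · rw [s3, f3, mul_inv_cancel_right]
  · rw [s4, f4, mul_inv_cancel_right]
  · rw [hc, f5, mul_inv_cancel_right]

end Cfsg.Agent.RFS
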